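import Groth.Agent.H64.Psh.PTools
import Groth.Agent.S10542
import Groth.Agent.S10530
import Groth.Agent.S10527
import Groth.Agent.S10544
import Groth.Agent.H52.FppfFpqc
import Groth.Agent.H53.LocalST
import Groth.Agent.H49.AlgSpSepDescent
import Groth.Agent.H50.LocPBase

set_option autoImplicit false
open CategoryTheory CategoryTheory.Limits Opposite AlgebraicGeometry
universe u

/-! The standard properties (smooth, flat, locally of finite presentation, etale, surjective) are
stable under base change and composition and fppf local on the base. -/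

namespace Groth.Agent.H64.PTh

open AlgSp

variable {S : Scheme.{u}}

theorem stableBC_locP {P : MorphismProperty Scheme.{u}} (hG : Groth.Agent.H50.GoodClass P) :
    StableBC (LocP (S := S) P) :=
  fun _ _ _ _ h1 h2 _ h4 a b a' b' sq ha => hG.locP_of_isPullback h1 h2 h4 a b b' a' sq ha

theorem stableBC_surj : StableBC (IsSurjectiveMor (S := S)) :=
  fun _ _ _ _ _ _ _ _ _ _ _ _ sq ha => Groth.Agent.H49.isSurjectiveMor_of_isPullback sq ha

theorem stableBC_etale : StableBC (IsEtaleMor (S := S)) :=
  fun _ _ _ _ h1 h2 _ h4 _ _ _ _ sq ha => Groth.Agent.H53.isEtaleMor_of_isPullback h1 h2 h4 sq ha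

/-- a property fpqc local on the base is fppf local on the base -/
theorem isLocalOnBase_fppf_of_fpqc {P : MorphismProperty (Sp S)}
    (h : IsLocalOnBase (IsFpqcCover (S := S)) P) : IsLocalOnBase (IsFppfCover (S := S)) P := by
  intro ι Y Yi g hY hYi hcov X f hX Xi p q hXi sq
  exact h Yi g hY hYi ⟨fun i => (hcov.1 i).1,
    Groth.Agent.H52.fpqcRefine_of_isFppfCover hY Yi hYi g hcov⟩ f hX Xi p q hXi sq

theorem isLocalOnBase_fppf_smooth : IsLocalOnBase (IsFppfCover (S := S)) (LocP @Smooth) :=
  isLocalOnBase_fppf_of_fpqc (Groth.Agent.S10542.result S)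

theorem isLocalOnBase_fppf_flat : IsLocalOnBase (IsFppfCover (S := S)) (LocP @Flat) :=
  isLocalOnBase_fppf_of_fpqc (Groth.Agent.S10530.result S)

theorem isLocalOnBase_fppf_lfp :
    IsLocalOnBase (IsFppfCover (S := S)) (LocP @LocallyOfFinitePresentation) :=
  isLocalOnBase_fppf_of_fpqc (Groth.Agent.S10527.result S)

theorem isLocalOnBase_fppf_etale : IsLocalOnBase (IsFppfCover (S := S)) IsEtaleMor :=
  isLocalOnBase_fppf_of_fpqc (Groth.Agent.S10544.result S)

/-- surjectivity is local on the base for any jointly surjective families -/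
theorem isLocalOnBase_surj (τ : CovNotion S)
    (hτ : ∀ ⦃ι : Type u⦄ ⦃X : Sp S⦄ (Y : ι → Sp S) (g : ∀ i, Y i ⟶ X), τ Y g →
      ∀ x : Points X, ∃ i, x ∈ Set.range (Points.map (g i))) :
    IsLocalOnBase τ (IsSurjectiveMor (S := S)) := by
  intro ι Y Yi g _ _ hcov X f _ Xi p q _ sq
  constructor
  · intro hf i
    exact Groth.Agent.H49.isSurjectiveMor_of_isPullback (sq i) hf
  · intro h y
    obtain ⟨i, yi, rfl⟩ := hτ Yi g hcov y
    obtain ⟨xi, rfl⟩ := h i yi
    refine ⟨Points.map (q i) xi, ?_⟩
    rw [← Points.map_comp, (sq i).w, Points.map_comp]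

theorem isLocalOnBase_fppf_surj : IsLocalOnBase (IsFppfCover (S := S)) IsSurjectiveMor :=
  isLocalOnBase_surj _ (fun _ _ _ _ h => h.2)

end Groth.Agent.H64.PTh
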