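import Groth.Agent.H64.Psh.DiagIff
import Groth.Agent.H64.Psh.PProps
import Groth.Agent.H51.SpProper3
import Groth.Agent.H49.AlgSpUnivClosedQC
import Groth.Agent.S10521

set_option autoImplicit false
set_option backward.isDefEq.respectTransparency false
open CategoryTheory CategoryTheory.Limits Opposite AlgebraicGeometry
universe u

/-! Separatedness of a morphism representable by algebraic spaces in terms of its diagonal. -/

namespace Groth.Agent.H64.PTh

open Groth.Agent.H32 Groth.Agent.H64.Recog Groth.Agent.H64.FpRep AlgSt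

variable {S : Scheme.{u}}

/-- monotonicity in the property, tested on morphisms from algebraic spaces to schemes -/
theorem repByAlgSpWith_mono_space {P Q : MorphismProperty (AlgSp.Sp S)}
    (h : ∀ (F : AlgSp.Space S) (U : Over S) (a : F ⟶ yonSpace U), P a.hom → Q a.hom)
    {𝒳 𝒴 : AlgSt.Cat S} (g : 𝒳 ⥤ᵇ 𝒴) (hg : RepByAlgSpWith P g) : RepByAlgSpWith Q g := by
  intro U y
  obtain ⟨F, e, he, hP⟩ := hg U y
  exact ⟨F, e, he, h F U (ObjectProperty.homMk (spMapOfOver (BasedFunctor.comp e (FibCat.fpFst y g)))) hP⟩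

instance isUnivClosedMor_isStableUnderBaseChange :
    (AlgSp.IsUnivClosedMor (S := S)).IsStableUnderBaseChange :=
  ⟨fun sq h => Groth.Agent.H49.isUnivClosedMor_of_isPullback sq h⟩

theorem isLocalOnBase_fppf_univClosed :
    AlgSp.IsLocalOnBase (AlgSp.IsFppfCover (S := S)) AlgSp.IsUnivClosedMor :=
  isLocalOnBase_fppf_of_fpqc (Groth.Agent.S10521.result S)

theorem isProperMor_of_closedImmersion {X Y : AlgSp.Space S} (a : X ⟶ Y)
    (h : AlgSp.RepWith @IsClosedImmersion a.hom) : AlgSp.IsProperMor a.hom := by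
  have h1 : AlgSp.RepWith @IsFinite a.hom :=
    Groth.Agent.H49.repWith_of_le (fun A B g hg => by
      have : IsClosedImmersion g := hg
      exact (inferInstance : IsFinite g)) h
  exact ((Groth.Agent.H51.s10271 a).1 ((Groth.Agent.H51.s10267 a).2.2 h1)).2

theorem separated_tfae {𝒳 𝒴 : AlgSt.Cat S} (h𝒳 : FibCat.IsFibGrpd 𝒳.p)
    (h𝒴 : FibCat.IsFibGrpd 𝒴.p) (f : 𝒳 ⥤ᵇ 𝒴) (hf : RepByAlgSp1 f) :
    [AlgSt.RepByAlgSpWith AlgSp.IsSeparatedMor f, AlgSt.IsClosedImm (FibCat.diag f),
      AlgSt.IsSeparatedMor f, AlgSt.RepByAlgSpWith AlgSp.IsUnivClosedMor (FibCat.diag f)].TFAE := by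
  tfae_have 1 → 2 := fun h =>
    repByAlgSpWith_diag_of_diagonal (AlgSp.RepWith (S := S) @IsClosedImmersion)
      (stableBC_of_inst _) h𝒳 h𝒴 f h
  tfae_have 2 → 3 := fun h =>
    repByAlgSpWith_mono_space (fun F U a ha => isProperMor_of_closedImmersion a ha) _ h
  tfae_have 3 → 4 := fun h =>
    repByAlgSpWith_mono_space (fun F U a ha => ha.2.2) _ h
  tfae_have 4 → 1 := fun h => by
    have h1 : RepByAlgSpWith (AlgSp.IsUnivClosedMor (S := S)).diagonal f :=
      repByAlgSpWith_diagonal_of_diag isLocalOnBase_fppf_univClosed h𝒳 h𝒴 f hf h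
    exact repByAlgSpWith_mono_space (fun F U a ha => (Groth.Agent.H51.s10280 a).1.2 ha) _ h1
  tfae_finish

end Groth.Agent.H64.PTh
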