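import Groth.Agent.H64.Psh.PComp
import Groth.Agent.H64.Stk.FpPaste
import Groth.Agent.H64.DiagBCAlg

set_option autoImplicit false
open CategoryTheory CategoryTheory.Limits Opposite AlgebraicGeometry
universe u

/-! A morphism has `P` at a test object as soon as the test object lifts to a category along which
the base change of the morphism has `P`. -/

namespace Groth.Agent.H64.PTh

open Groth.Agent.H32 Groth.Agent.H64.Recog Groth.Agent.H64.FpRep AlgSt

variable {S : Scheme.{u}}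

theorem exists_presentation_of_lift {𝒳 𝒴 𝒵 : AlgSt.Cat S} (P : MorphismProperty (AlgSp.Sp S))
    (f : 𝒳 ⥤ᵇ 𝒴) (q : 𝒵 ⥤ᵇ 𝒴) (h : RepByAlgSpWith P (FibCat.fpFst q f)) {T : Over S}
    (y : FibCat.overCat T ⥤ᵇ 𝒴) (y' : FibCat.overCat T ⥤ᵇ 𝒵)
    (ν : BasedFunctor.comp y' q ≅ y) :
    ∃ (F : AlgSp.Space S) (e : ofSp F.obj ⥤ᵇ FibCat.fp y f), FibCat.IsEquivOver e ∧
      P (spMapOfOver (BasedFunctor.comp e (FibCat.fpFst y f))) := by
  obtain ⟨F, e₀, he₀, hP⟩ := h T y'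
  obtain ⟨e', he', h1⟩ := exists_equiv_spMapOfOver_eq (fpPaste f q y') (isEquivOver_fpPaste f q y')
    (FibCat.fpFst y' (FibCat.fpFst q f)) e₀ he₀
  have : (BasedFunctor.id 𝒴).toFunctor.Full := (inferInstance : (𝟭 𝒴.obj).Full)
  have : (BasedFunctor.id 𝒴).toFunctor.Faithful := (inferInstance : (𝟭 𝒴.obj).Faithful)
  let ι : FibCat.fp (BasedFunctor.comp y' q) f ⥤ᵇ FibCat.fp y f :=
    fpMap y f (BasedFunctor.comp y' q) f (BasedFunctor.id _) (BasedFunctor.id _)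
      (BasedFunctor.id _) ν (Iso.refl _)
  have hι : FibCat.IsEquivOver ι :=
    isEquivOver_fpMap y f (BasedFunctor.comp y' q) f (BasedFunctor.id _) (BasedFunctor.id _)
      (BasedFunctor.id _) ν (Iso.refl _) (isEquivOver_id _) (isEquivOver_id _)
  refine ⟨F, BasedFunctor.comp e' ι, isEquivOver_comp he' hι, ?_⟩
  have h2 : BasedFunctor.comp (BasedFunctor.comp e' ι) (FibCat.fpFst y f) =
      BasedFunctor.comp e' (BasedFunctor.comp (fpPaste f q y')
        (FibCat.fpFst y' (FibCat.fpFst q f))) := rfl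
  rw [h2, h1]
  exact hP

/-- `f` has `P` as soon as every test object lifts (up to 2-isomorphism) to some category along
which the base change of `f` has `P` -/
theorem repByAlgSpWith_of_lifts {𝒳 𝒴 : AlgSt.Cat S} (P : MorphismProperty (AlgSp.Sp S))
    (f : 𝒳 ⥤ᵇ 𝒴)
    (h : ∀ (T : Over S) (y : FibCat.overCat T ⥤ᵇ 𝒴), ∃ (𝒵 : AlgSt.Cat S) (q : 𝒵 ⥤ᵇ 𝒴)
      (y' : FibCat.overCat T ⥤ᵇ 𝒵), Nonempty (BasedFunctor.comp y' q ≅ y) ∧
        RepByAlgSpWith P (FibCat.fpFst q f)) : RepByAlgSpWith P f := by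
  intro T y
  obtain ⟨𝒵, q, y', ⟨ν⟩, hq⟩ := h T y
  exact exists_presentation_of_lift P f q hq y y' ν

end Groth.Agent.H64.PTh
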