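import Groth.Agent.H64.Psh.PSource

set_option autoImplicit false
open CategoryTheory CategoryTheory.Limits Opposite AlgebraicGeometry
universe u

/-! Descent of a property local on the source along smooth / etale / fppf coverings representable
by algebraic spaces. -/

namespace Groth.Agent.H64.PTh

open Groth.Agent.H32 Groth.Agent.H64.Recog Groth.Agent.H64.FpRep AlgSt

variable {S : Scheme.{u}} {P Q : MorphismProperty (AlgSp.Sp S)}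

/-- every presentation of a base change to an algebraic space has the property -/
theorem prop_of_presentation {𝒳 𝒴 : AlgSt.Cat S} (h𝒳 : FibCat.IsFibGrpd 𝒳.p)
    (h𝒴 : FibCat.IsFibGrpd 𝒴.p) (hQb : StableBC Q)
    (hQ : AlgSp.IsLocalOnBase AlgSp.IsFppfCover Q) (x : 𝒳 ⥤ᵇ 𝒴) (hx : RepByAlgSpWith Q x)
    (G₀ : AlgSp.Space S) (w : ofSp G₀.obj ⥤ᵇ 𝒴) (V₁ : AlgSp.Space S) (a₁ : V₁ ⟶ G₀)
    (e₁ : ofSp V₁.obj ⥤ᵇ FibCat.fp w x) (he₁ : FibCat.IsEquivOver e₁)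
    (α₁ : BasedFunctor.comp e₁ (FibCat.fpFst w x) ≅ ofSpMap a₁.hom) : Q a₁.hom := by
  obtain ⟨V₂, a₂, e₂, he₂, ⟨α₂⟩, h₂⟩ := hasP_of_repByAlgSpWith h𝒳 h𝒴 hQb hQ x hx G₀ w
  obtain ⟨ψ, hψ, h⟩ := exists_iso_of_presentations (FibCat.fpFst w x) a₁.hom e₁ he₁ α₁
    a₂.hom e₂ α₂
  have := hψ he₂
  rw [h] at h₂
  exact hQb.of_iso_comp V₁.property V₂.property G₀.property ψ _ h₂

theorem repByAlgSpWith_of_comp_smooth_surjective {𝒳 𝒴 𝒵 : AlgSt.Cat S}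
    (h𝒳 : FibCat.IsFibGrpd 𝒳.p) (h𝒴 : FibCat.IsFibGrpd 𝒴.p) (hPb : StableBC P)
    (hP' : AlgSp.IsLocalOnSource AlgSp.IsSmCover P)
    (x : 𝒳 ⥤ᵇ 𝒴) (y : 𝒴 ⥤ᵇ 𝒵) (hy : RepByAlgSp1 y)
    (hx₁ : RepByAlgSpWith (AlgSp.LocP @Smooth) x) (hx₂ : RepByAlgSpWith AlgSp.IsSurjectiveMor x)
    (h : RepByAlgSpWith P (BasedFunctor.comp x y)) : RepByAlgSpWith P y :=
  repByAlgSpWith_of_comp_cover hPb AlgSp.IsSmCover hP' x y hy (fun G₀ w => by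
    obtain ⟨V, a, e, he, ⟨α⟩, hs⟩ := hasP_of_repByAlgSpWith h𝒳 h𝒴
      (stableBC_locP Groth.Agent.H50.goodClass_smooth) isLocalOnBase_fppf_smooth x hx₁ G₀ w
    have hsurj := prop_of_presentation h𝒳 h𝒴 stableBC_surj isLocalOnBase_fppf_surj x hx₂ G₀ w
      V a e he α
    exact ⟨V, a, e, he, ⟨α⟩, ⟨fun _ => hs, fun z => ⟨PUnit.unit, hsurj z⟩⟩⟩) h

theorem repByAlgSpWith_of_comp_etale_surjective {𝒳 𝒴 𝒵 : AlgSt.Cat S}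
    (h𝒳 : FibCat.IsFibGrpd 𝒳.p) (h𝒴 : FibCat.IsFibGrpd 𝒴.p) (hPb : StableBC P)
    (hP' : AlgSp.IsLocalOnSource AlgSp.IsEtCover P)
    (x : 𝒳 ⥤ᵇ 𝒴) (y : 𝒴 ⥤ᵇ 𝒵) (hy : RepByAlgSp1 y)
    (hx₁ : RepByAlgSpWith AlgSp.IsEtaleMor x) (hx₂ : RepByAlgSpWith AlgSp.IsSurjectiveMor x)
    (h : RepByAlgSpWith P (BasedFunctor.comp x y)) : RepByAlgSpWith P y :=
  repByAlgSpWith_of_comp_cover hPb AlgSp.IsEtCover hP' x y hy (fun G₀ w => by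
    obtain ⟨V, a, e, he, ⟨α⟩, hs⟩ := hasP_of_repByAlgSpWith h𝒳 h𝒴
      stableBC_etale isLocalOnBase_fppf_etale x hx₁ G₀ w
    have hsurj := prop_of_presentation h𝒳 h𝒴 stableBC_surj isLocalOnBase_fppf_surj x hx₂ G₀ w
      V a e he α
    exact ⟨V, a, e, he, ⟨α⟩, ⟨fun _ => hs, fun z => ⟨PUnit.unit, hsurj z⟩⟩⟩) h

theorem repByAlgSpWith_of_comp_fppf_surjective {𝒳 𝒴 𝒵 : AlgSt.Cat S}
    (h𝒳 : FibCat.IsFibGrpd 𝒳.p) (h𝒴 : FibCat.IsFibGrpd 𝒴.p) (hPb : StableBC P)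
    (hP' : AlgSp.IsLocalOnSource AlgSp.IsFppfCover P)
    (x : 𝒳 ⥤ᵇ 𝒴) (y : 𝒴 ⥤ᵇ 𝒵) (hy : RepByAlgSp1 y)
    (hx₁ : RepByAlgSpWith (AlgSp.LocP @Flat) x)
    (hx₂ : RepByAlgSpWith (AlgSp.LocP @LocallyOfFinitePresentation) x)
    (hx₃ : RepByAlgSpWith AlgSp.IsSurjectiveMor x)
    (h : RepByAlgSpWith P (BasedFunctor.comp x y)) : RepByAlgSpWith P y :=
  repByAlgSpWith_of_comp_cover hPb AlgSp.IsFppfCover hP' x y hy (fun G₀ w => by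
    obtain ⟨V, a, e, he, ⟨α⟩, hs⟩ := hasP_of_repByAlgSpWith h𝒳 h𝒴
      (stableBC_locP Groth.Agent.H50.goodClass_flat) isLocalOnBase_fppf_flat x hx₁ G₀ w
    have hlfp := prop_of_presentation h𝒳 h𝒴 (stableBC_locP Groth.Agent.H50.goodClass_lfp)
      isLocalOnBase_fppf_lfp x hx₂ G₀ w V a e he α
    have hsurj := prop_of_presentation h𝒳 h𝒴 stableBC_surj isLocalOnBase_fppf_surj x hx₃ G₀ w
      V a e he α
    exact ⟨V, a, e, he, ⟨α⟩, ⟨fun _ => ⟨hs, hlfp⟩, fun z => ⟨PUnit.unit, hsurj z⟩⟩⟩) h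

end Groth.Agent.H64.PTh
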