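import Groth.Agent.H64.Psh.DiagRepMor2
import Groth.Agent.H64.Psh.PSource2
import Groth.Agent.H64.DiagBCAlg

set_option autoImplicit false
open CategoryTheory CategoryTheory.Limits Opposite AlgebraicGeometry
universe u

/-! For a morphism `f` representable by algebraic spaces: the diagonal of `f` has `P` if and only
if the diagonals of the base changes of `f` to schemes have `P`. -/

namespace Groth.Agent.H64.PTh

open Groth.Agent.H32 Groth.Agent.H64.Recog Groth.Agent.H64.FpRep AlgSt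

variable {S : Scheme.{u}}

theorem spMapOfOver_toOverCat (T : Over S) :
    spMapOfOver (toOverCat T) = 𝟙 ((AlgSp.yon S).obj T) := by
  apply ObjectProperty.hom_ext
  ext X x
  obtain ⟨X⟩ := X
  apply ULift.ext
  show secHom _ _ = _
  simp only [secHom]
  exact (Category.id_comp _)

/-- the section map of a functor to a slice is the map of sheaves of the functor to `h_T` -/
theorem spMapOfOver_eq_homMk_pshMapOf {F : AlgSp.Sp S} {T : Over S}
    (Φ : ofSp F ⥤ᵇ FibCat.overCat T) :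
    spMapOfOver Φ = ObjectProperty.homMk (pshMapOf (BasedFunctor.comp Φ (ofOverCat T))) := by
  let Φ' : ofSp F ⥤ᵇ ofSch T := BasedFunctor.comp Φ (ofOverCat T)
  let b : F ⟶ (AlgSp.yon S).obj T := ObjectProperty.homMk (pshMapOf Φ')
  obtain ⟨β⟩ : Nonempty (ofSpMap b ≅ Φ') := nonempty_iso_ofPshMap Φ'
  let α : BasedFunctor.comp (ofSpMap b) (toOverCat T) ≅ Φ := bwrIso β (toOverCat T)
  have h1 : spMapOfOver Φ = spMapOfOver (BasedFunctor.comp (ofSpMap b) (toOverCat T)) :=
    spMapOfOver_eq_of_hom α.inv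
  rw [h1, spMapOfOver_ofSpMap_comp, spMapOfOver_toOverCat, Category.comp_id]

theorem nonempty_iso_ofSpMap_spMapOfOver {F : AlgSp.Sp S} {T : Over S}
    (Φ : ofSp F ⥤ᵇ FibCat.overCat T) :
    Nonempty (ofSpMap (spMapOfOver Φ) ≅ BasedFunctor.comp Φ (ofOverCat T)) := by
  rw [spMapOfOver_eq_homMk_pshMapOf Φ]
  exact nonempty_iso_ofPshMap (BasedFunctor.comp Φ (ofOverCat T))

section space

variable (P : MorphismProperty (AlgSp.Sp S)) {𝒬 : AlgSt.Cat S} {T : Over S}
  (π : 𝒬 ⥤ᵇ FibCat.overCat T) (V : AlgSp.Space S) (eV : ofSp V.obj ⥤ᵇ 𝒬)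
  (heV : FibCat.IsEquivOver eV)

include heV

/-- the two squares comparing the diagonal of `π` with the diagonal of the section map -/
theorem exists_diag_squares :
    ∃ (X : AlgSp.Space S) (δ : V ⟶ X) (E : ofSp X.obj ⥤ᵇ FibCat.fp π π),
      (∀ Q : MorphismProperty (AlgSp.Sp S),
        Q δ.hom ↔ Q (pullback.diagonal (spMapOfOver (BasedFunctor.comp eV π)))) ∧
      FibCat.IsEquivOver E ∧
      Nonempty (BasedFunctor.comp (ofSpMap δ.hom) E ≅ BasedFunctor.comp eV (FibCat.diag π)) := by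
  let b : V.obj ⟶ (AlgSp.yon S).obj T := spMapOfOver (BasedFunctor.comp eV π)
  obtain ⟨β⟩ : Nonempty (ofSpMap b ≅ BasedFunctor.comp (BasedFunctor.comp eV π) (ofOverCat T)) :=
    nonempty_iso_ofSpMap_spMapOfOver (BasedFunctor.comp eV π)
  have hX : AlgSp.IsAlgSpace (pullback b b) :=
    Groth.Agent.H49.isAlgSpace_of_isPullback (IsPullback.of_hasPullback b b)
      (AlgSp.IsAlgSpace.yon_obj T).diag V.property V.property
  let X : AlgSp.Space S := ⟨pullback b b, hX⟩
  let δ : V ⟶ X := ObjectProperty.homMk (pullback.diagonal b)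
  have sq' : IsPullback (pullback.fst b b).hom (pullback.snd b b).hom b.hom b.hom :=
    (IsPullback.of_hasPullback b b).map (sheafToPresheaf _ _)
  have hL : FibCat.IsEquivOver (pbLiftGSq sq') := isEquivOver_pbLiftGSq sq'
  obtain ⟨ν⟩ := nonempty_iso_diag_ofSpMap b (pullback.fst b b) (pullback.snd b b) sq'
    (pullback.diagonal b) (pullback.diagonal_fst b) (pullback.diagonal_snd b)
  have := full_of_isEquivOver (isEquivOver_toOverCat T)
  have := faithful_of_isEquivOver (isEquivOver_toOverCat T)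
  let α : BasedFunctor.comp (ofSpMap b) (toOverCat T) ≅ BasedFunctor.comp eV π :=
    bwrIso β (toOverCat T)
  let D := diagSqMap π (ofSpMap b) eV (toOverCat T) α
  have hD : FibCat.IsEquivOver D := isEquivOver_diagSqMap π (ofSpMap b) eV (toOverCat T) α heV
  refine ⟨X, δ, BasedFunctor.comp (pbLiftGSq sq') D, fun Q => Iff.rfl, isEquivOver_comp hL hD, ⟨?_⟩⟩
  exact bwrIso ν D ≪≫ diagSqIso π (ofSpMap b) eV (toOverCat T) α

/-- `P` for the diagonal of the section map gives `P` for the diagonal functor -/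
theorem repByAlgSpWith_diag_of_space' (hPb : StableBC P)
    (hP : P (pullback.diagonal (spMapOfOver (BasedFunctor.comp eV π)))) :
    RepByAlgSpWith P (FibCat.diag π) := by
  obtain ⟨X, δ, E, hδ, hE, ⟨ε⟩⟩ := exists_diag_squares π V eV heV
  have h1 : RepByAlgSpWith P (ofSpMap δ.hom) := repByAlgSpWith_ofSpMap hPb δ ((hδ P).2 hP)
  exact repByAlgSpWith_of_square' P (FibCat.diag π) (ofSpMap δ.hom) eV E heV hE ε h1

end space

/-- a morphism of algebraic spaces has `P` as soon as its functor does -/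
theorem prop_of_repByAlgSpWith_ofSpMap {P : MorphismProperty (AlgSp.Sp S)} [P.RespectsIso]
    (hP : AlgSp.IsLocalOnBase AlgSp.IsFppfCover P) {V X : AlgSp.Space S} (δ : V ⟶ X)
    (h : RepByAlgSpWith P (ofSpMap δ.hom)) : P δ.hom := by
  have ha : AlgSp.RepBySp δ.hom.hom := repBySp_of_repByAlgSp1 _ (RepByAlgSpWith.repByAlgSp1 h)
  have h' : AlgSp.RepBySpWith P δ.hom.hom := repBySpWith_of_repByAlgSpWith _ P ha h
  have h'' := (AlgSp.repBySpWith_hom_iff P δ.hom).1 h'
  obtain ⟨U, p, hpE, hpS⟩ := X.property.atlas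
  have sq := IsPullback.of_hasPullback δ.hom p
  have hV' : AlgSp.IsAlgSpace (pullback δ.hom p) :=
    Groth.Agent.H49.isAlgSpace_of_isPullback sq X.property.diag V.property
      (AlgSp.IsAlgSpace.yon_obj U)
  have key := hP (fun _ : PUnit.{u+1} => (AlgSp.yon S).obj U) (fun _ => p) X.property
    (fun _ => AlgSp.IsAlgSpace.yon_obj U) (isFppfCover_atlas p hpE hpS) δ.hom V.property
    (fun _ => pullback δ.hom p) (fun _ => pullback.snd δ.hom p) (fun _ => pullback.fst δ.hom p)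
    (fun _ => hV') (fun _ => sq)
  rw [key]
  intro _
  exact (h'' p (pullback.fst δ.hom p) (pullback.snd δ.hom p) sq).2

/-- `P` for the diagonal functor gives `P` for the diagonal of the section map -/
theorem diagonal_of_repByAlgSpWith_diag_space {P : MorphismProperty (AlgSp.Sp S)} [P.RespectsIso]
    (hP : AlgSp.IsLocalOnBase AlgSp.IsFppfCover P) {𝒬 : AlgSt.Cat S} {T : Over S}
    (π : 𝒬 ⥤ᵇ FibCat.overCat T) (V : AlgSp.Space S) (eV : ofSp V.obj ⥤ᵇ 𝒬)
    (heV : FibCat.IsEquivOver eV) (h : RepByAlgSpWith P (FibCat.diag π)) :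
    P (pullback.diagonal (spMapOfOver (BasedFunctor.comp eV π))) := by
  obtain ⟨X, δ, E, hδ, hE, ⟨ε⟩⟩ := exists_diag_squares π V eV heV
  refine (hδ P).1 ?_
  apply prop_of_repByAlgSpWith_ofSpMap hP
  exact repByAlgSpWith_of_square P (FibCat.diag π) (ofSpMap δ.hom) eV E heV hE ε h

/-- A: the diagonals of the base changes have `P` ⟹ the diagonal has `P` -/
theorem repByAlgSpWith_diag_of_diagonal (P : MorphismProperty (AlgSp.Sp S)) (hPb : StableBC P)
    {𝒳 𝒴 : AlgSt.Cat S} (h𝒳 : FibCat.IsFibGrpd 𝒳.p) (h𝒴 : FibCat.IsFibGrpd 𝒴.p)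
    (f : 𝒳 ⥤ᵇ 𝒴) (h : RepByAlgSpWith P.diagonal f) : RepByAlgSpWith P (FibCat.diag f) := by
  apply repByAlgSpWith_of_lifts
  intro T y
  have hT : FibCat.IsFibGrpd (FibCat.overCat T).p := (isFibSetoid_overCat T).1
  obtain ⟨V, eV, heV, hV⟩ := h T (dlW f y)
  have h1 : RepByAlgSpWith P (FibCat.diag (FibCat.fpFst (dlW f y) f)) :=
    repByAlgSpWith_diag_of_space' P (FibCat.fpFst (dlW f y) f) V eV heV hPb hV
  refine ⟨_, diagBCq f (dlW f y), dlLift f y, ⟨dlIso f y⟩, ?_⟩
  exact repByAlgSpWith_of_square' P (FibCat.fpFst (diagBCq f (dlW f y)) (FibCat.diag f))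
    (FibCat.diag (FibCat.fpFst (dlW f y) f)) (diagBCΛ f (dlW f y)) (BasedFunctor.id _)
    (isEquivOver_diagBCΛ f (dlW f y) h𝒳 h𝒴 hT) (isEquivOver_id _) (Iso.refl _) h1

/-- B: the diagonal has `P` ⟹ the diagonals of the base changes have `P` -/
theorem repByAlgSpWith_diagonal_of_diag {P : MorphismProperty (AlgSp.Sp S)} [P.RespectsIso]
    (hP : AlgSp.IsLocalOnBase AlgSp.IsFppfCover P)
    {𝒳 𝒴 : AlgSt.Cat S} (h𝒳 : FibCat.IsFibGrpd 𝒳.p) (h𝒴 : FibCat.IsFibGrpd 𝒴.p)
    (f : 𝒳 ⥤ᵇ 𝒴) (hf : RepByAlgSp1 f) (h : RepByAlgSpWith P (FibCat.diag f)) :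
    RepByAlgSpWith P.diagonal f := by
  intro T w
  have hT : FibCat.IsFibGrpd (FibCat.overCat T).p := (isFibSetoid_overCat T).1
  obtain ⟨V, eV, heV⟩ := hf T w
  have h1 : RepByAlgSpWith P (FibCat.diag (FibCat.fpFst w f)) :=
    repByAlgSpWith_diag_fpFst P h𝒳 h𝒴 hT f w h
  exact ⟨V, eV, heV, diagonal_of_repByAlgSpWith_diag_space hP (FibCat.fpFst w f) V eV heV h1⟩

end Groth.Agent.H64.PTh
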