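import Groth.Agent.H64.Psh.RepDict
import Groth.Agent.H64.SpMap

set_option autoImplicit false
open CategoryTheory CategoryTheory.Limits Opposite AlgebraicGeometry
universe u

/-! Properties of maps representable by algebraic spaces: presheaf version versus functor
version. -/

namespace Groth.Agent.H64.Recog

open Groth.Agent.H32 AlgSt

variable {S : Scheme.{u}}

/-- the section map of `ofPshMap b ⋙ toOv U` is `b` -/
theorem spMapOfOver_comp_toOv {F : AlgSp.Sp S} {U : Over S} (b : F.obj ⟶ (AlgSp.pyon S).obj U) :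
    spMapOfOver (F := F) (U := U) (BasedFunctor.comp (Stk.ofPshMap b) (toOv.{u+1} U)) =
      ObjectProperty.homMk b := by
  apply ObjectProperty.hom_ext
  ext T x
  obtain ⟨T⟩ := T
  apply ULift.ext
  show secHom _ _ = _
  simp only [secHom]
  exact (Category.id_comp _)

variable {F G : AlgSp.PSp S} (a : F ⟶ G) (Q : MorphismProperty (AlgSp.Sp S))

theorem repByAlgSpWith_of_repBySpWith (ha : AlgSp.RepBySpWith Q a) :
    AlgSt.RepByAlgSpWith Q (Stk.ofPshMap a) := by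
  intro U y
  let ξ : (AlgSp.pyon S).obj U ⟶ G := uliftYonedaEquiv.{u+1}.symm (elOf y)
  have sq := IsPullback.of_hasPullback a ξ
  obtain ⟨h, hF, hQ⟩ := ha ξ (pullback.fst a ξ) (pullback.snd a ξ) sq
  have hy : elOf y = uliftYonedaEquiv.{u+1} ξ := (Equiv.apply_symm_apply _ _).symm
  refine ⟨⟨⟨pullback a ξ, h⟩, hF⟩, pbLiftSq y sq hy, isEquivOver_pbLiftSq y sq hy, ?_⟩
  have h1 : spMapOfOver (F := (⟨pullback a ξ, h⟩ : AlgSp.Sp S)) (U := U)
      (BasedFunctor.comp (pbLiftSq y sq hy) (FibCat.fpFst y (Stk.ofPshMap a))) =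
      ObjectProperty.homMk (pullback.snd a ξ) :=
    spMapOfOver_comp_toOv (F := (⟨pullback a ξ, h⟩ : AlgSp.Sp S)) (pullback.snd a ξ)
  rw [h1]
  exact hQ

theorem repBySpWith_of_repByAlgSpWith [Q.RespectsIso] (ha : AlgSp.RepBySp a)
    (h : AlgSt.RepByAlgSpWith Q (Stk.ofPshMap a)) : AlgSp.RepBySpWith Q a := by
  intro U ξ F' fst snd sq
  obtain ⟨hS, hA⟩ := ha ξ fst snd sq
  refine ⟨hS, hA, ?_⟩
  let x : G.obj (op U) := uliftYonedaEquiv.{u+1} ξ
  let y : FibCat.overCat U ⥤ᵇ Stk.ofPsh G := ofSection x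
  have hy : elOf y = uliftYonedaEquiv.{u+1} ξ := elOf_ofSection x
  obtain ⟨F₀, e, he, hQ⟩ := h U y
  have hL := isEquivOver_pbLiftSq y sq hy
  obtain ⟨d⟩ := IsEquivOver.nonempty_data hL
  let Ψ : Stk.ofPsh F₀.obj.obj ⥤ᵇ Stk.ofPsh F' := BasedFunctor.comp e d.inv
  have hΨ : FibCat.IsEquivOver Ψ := isEquivOver_comp he (isEquivOver_inv d)
  have hiso := isIso_pshMapOf hΨ
  let ψ : F₀.obj.obj ⟶ F' := pshMapOf Ψ
  let ψ' : F₀.obj ⟶ (⟨F', hS⟩ : AlgSp.Sp S) := ObjectProperty.homMk ψ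
  have hψ' : IsIso ψ' := by
    have : IsIso ((ObjectProperty.ι _).map ψ') := hiso
    exact isIso_of_reflects_iso ψ' (ObjectProperty.ι _)
  -- compare the two section maps
  let L := pbLiftSq y sq hy
  let α : e ⟶ BasedFunctor.comp Ψ L := BasedCategory.whiskerLeft e d.counit.inv
  have h1 : spMapOfOver (F := F₀.obj) (U := U) (BasedFunctor.comp e (FibCat.fpFst y (Stk.ofPshMap a))) =
      spMapOfOver (F := F₀.obj) (U := U)
        (BasedFunctor.comp Ψ (BasedFunctor.comp (Stk.ofPshMap snd) (toOv.{u+1} U))) :=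
    spMapOfOver_eq_of_hom (BasedCategory.whiskerRight α (FibCat.fpFst y (Stk.ofPshMap a)))
  obtain ⟨β⟩ := nonempty_iso_ofPshMap Ψ
  have h2 : spMapOfOver (F := F₀.obj) (U := U)
        (BasedFunctor.comp Ψ (BasedFunctor.comp (Stk.ofPshMap snd) (toOv.{u+1} U))) =
      spMapOfOver (F := F₀.obj) (U := U)
        (BasedFunctor.comp (Stk.ofPshMap (ψ ≫ snd)) (toOv.{u+1} U)) :=
    spMapOfOver_eq_of_hom (BasedCategory.whiskerRight β.inv
      (BasedFunctor.comp (Stk.ofPshMap snd) (toOv.{u+1} U)))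
  have h3 : spMapOfOver (F := F₀.obj) (U := U)
        (BasedFunctor.comp (Stk.ofPshMap (ψ ≫ snd)) (toOv.{u+1} U)) =
      ψ' ≫ (ObjectProperty.homMk snd : (⟨F', hS⟩ : AlgSp.Sp S) ⟶ (AlgSp.yon S).obj U) :=
    spMapOfOver_comp_toOv (F := F₀.obj) (ψ ≫ snd)
  rw [h1, h2, h3] at hQ
  exact (Q.cancel_left_of_respectsIso ψ' _).1 hQ

theorem repBySpWith_iff [Q.RespectsIso] (ha : AlgSp.RepBySp a) :
    AlgSp.RepBySpWith Q a ↔ AlgSt.RepByAlgSpWith Q (Stk.ofPshMap a) :=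
  ⟨repByAlgSpWith_of_repBySpWith a Q, repBySpWith_of_repByAlgSpWith a Q ha⟩

end Groth.Agent.H64.Recog
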