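import Groth.Agent.H64.Psh.PDescent
import Groth.Agent.H64.Psh.RepDictWith

set_option autoImplicit false
open CategoryTheory CategoryTheory.Limits Opposite AlgebraicGeometry
universe u

/-! Descent of properties along a covering by an algebraic space. -/

namespace Groth.Agent.H64.PTh

open Groth.Agent.H32 Groth.Agent.H64.Recog Groth.Agent.H64.FpRep AlgSt

variable {S : Scheme.{u}} {P : MorphismProperty (AlgSp.Sp S)}

/-- a morphism of algebraic spaces with a property stable under base change is representable by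
algebraic spaces with that property -/
theorem repByAlgSpWith_ofSpMap (hPb : StableBC P) {V W : AlgSp.Space S} (a : V ⟶ W)
    (h : P a.hom) : RepByAlgSpWith P (ofSpMap a.hom) := by
  apply repByAlgSpWith_of_repBySpWith a.hom.hom P
  rw [AlgSp.repBySpWith_hom_iff]
  intro U ξ F' fst snd sq
  have hF' : AlgSp.IsAlgSpace F' :=
    Groth.Agent.H49.isAlgSpace_of_isPullback sq W.property.diag V.property
      (AlgSp.IsAlgSpace.yon_obj U)
  exact ⟨hF', hPb V.property W.property hF' (AlgSp.IsAlgSpace.yon_obj U) a.hom ξ snd fst sq h⟩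

theorem repByAlgSpWith_iff_presentation {𝒳 𝒴 : AlgSt.Cat S}
    (h𝒳 : FibCat.IsFibGrpd 𝒳.p) (h𝒴 : FibCat.IsFibGrpd 𝒴.p)
    (hPb : StableBC P) (hP : AlgSp.IsLocalOnBase AlgSp.IsFppfCover P)
    (f : 𝒳 ⥤ᵇ 𝒴) (hf : RepByAlgSp1 f) (W : AlgSp.Space S) (w : ofSp W.obj ⥤ᵇ 𝒴)
    (hw₁ : RepByAlgSpWith (AlgSp.LocP @Flat) w)
    (hw₂ : RepByAlgSpWith (AlgSp.LocP @LocallyOfFinitePresentation) w)
    (hw₃ : RepByAlgSpWith AlgSp.IsSurjectiveMor w) :
    RepByAlgSpWith P f ↔
      ∃ (V : AlgSp.Space S) (a : V ⟶ W) (e : ofSp V.obj ⥤ᵇ FibCat.fp w f),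
        FibCat.IsEquivOver e ∧
          Nonempty (BasedFunctor.comp e (FibCat.fpFst w f) ≅ ofSpMap a.hom) ∧ P a.hom := by
  constructor
  · intro h
    exact hasP_of_repByAlgSpWith h𝒳 h𝒴 hPb hP f h W w
  · rintro ⟨V, a, e, he, ⟨α⟩, hPa⟩
    have h1 : RepByAlgSpWith P (ofSpMap a.hom) := repByAlgSpWith_ofSpMap hPb a hPa
    have h2 : RepByAlgSpWith P (FibCat.fpFst w f) :=
      repByAlgSpWith_of_square' P (FibCat.fpFst w f) (ofSpMap a.hom) e (BasedFunctor.id _) he
        (isEquivOver_id _) α.symm h1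
    exact repByAlgSpWith_of_fpFst_fppf h𝒳 h𝒴 (Stk.isFibGrpd_ofPsh _) hPb hP f hf w hw₁ hw₂ hw₃ h2

end Groth.Agent.H64.PTh
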