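import Groth.Agent.H64.Psh.SmoothLoc2
import Mathlib.AlgebraicGeometry.Morphisms.Smooth
import Mathlib.AlgebraicGeometry.Morphisms.QuasiCompact

set_option autoImplicit false
open CategoryTheory CategoryTheory.Limits Opposite AlgebraicGeometry
universe u

/-! Quasi-compact algebraic stacks: equivalent kinds of charts. -/

namespace Groth.Agent.H64.PTh

open Groth.Agent.H32 Groth.Agent.H64.Recog Groth.Agent.H64.FpRep AlgSt

variable {S : Scheme.{u}}

/-- a morphism of schemes with a property (stable under base change) gives a functor between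
slices with this property -/
theorem repByAlgSpWith_overMap (Q : MorphismProperty (AlgSp.Sp S)) (hQb : StableBC Q)
    {V U : Over S} (k : V ⟶ U) (h : Q ((AlgSp.yon S).map k)) :
    RepByAlgSpWith Q (AlgSt.overMap k) := by
  have h1 : RepByAlgSpWith Q (ofSpMap ((AlgSp.yon S).map k)) :=
    repByAlgSpWith_ofSpMap hQb
      (ObjectProperty.homMk ((AlgSp.yon S).map k) : yonSpace V ⟶ yonSpace U) h
  exact repByAlgSpWith_of_square' Q (AlgSt.overMap k) (ofSpMap ((AlgSp.yon S).map k))
    (toOverCat V) (toOverCat U) (isEquivOver_toOverCat V) (isEquivOver_toOverCat U)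
    (Iso.refl _) h1

theorem isSurjectiveMor_yon_map {W U : Over S} (g : W ⟶ U) [Surjective g.left] :
    AlgSp.IsSurjectiveMor ((AlgSp.yon S).map g) := by
  intro y
  obtain ⟨w, hw⟩ := g.left.surjective ((AlgSp.Points.schemeHomeo U).symm y)
  refine ⟨AlgSp.Points.schemeHomeo W w, ?_⟩
  rw [AlgSp.Points.map_yon_map_apply, hw, Homeomorph.apply_symm_apply]

set_option backward.isDefEq.respectTransparency false in
/-- a quasi-compact scheme receives a smooth surjective morphism from an affine scheme -/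
theorem exists_affine_smooth_surjective (X : Scheme.{u}) [CompactSpace X] :
    ∃ (W : Scheme.{u}) (c : W ⟶ X), IsAffine W ∧ Smooth c ∧ Surjective c := by
  let 𝒰 : X.OpenCover := X.affineCover.finiteSubcover
  have : ∀ i, IsAffine (𝒰.X i) := fun i => by
    show IsAffine (X.affineCover.X _)
    infer_instance
  refine ⟨∐ 𝒰.X, Sigma.desc 𝒰.f, inferInstance, ?_, inferInstance⟩
  exact IsZariskiLocalAtSource.sigmaDesc (P := @Smooth) (fun i => inferInstance)

theorem isQuasiCompact_of_compact_chart {𝒳 : AlgSt.Cat S} (U : Over S) [CompactSpace U.left]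
    (x : FibCat.overCat U ⥤ᵇ 𝒳) (hx₁ : RepByAlgSpWith (AlgSp.LocP @Smooth) x)
    (hx₂ : RepByAlgSpWith AlgSp.IsSurjectiveMor x) : IsQuasiCompact 𝒳 := by
  obtain ⟨W₀, c, hW₀, hc, hc'⟩ := exists_affine_smooth_surjective U.left
  let W : Over S := Over.mk (c ≫ U.hom)
  let k : W ⟶ U := Over.homMk c rfl
  have hk : Smooth k.left := hc
  have hk' : Surjective k.left := hc'
  have hW : FibCat.IsFibGrpd (FibCat.overCat W).p := (isFibSetoid_overCat W).1
  have hU : FibCat.IsFibGrpd (FibCat.overCat U).p := (isFibSetoid_overCat U).1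
  refine ⟨W, BasedFunctor.comp (AlgSt.overMap k) x, hW₀, ?_, ?_⟩
  · exact repByAlgSpWith_smooth_comp hW hU _ x
      (repByAlgSpWith_overMap _ (stableBC_locP Groth.Agent.H50.goodClass_smooth) k
        (Groth.Agent.H50.goodClass_smooth.locP_yon_map k hk)) hx₁
  · exact repByAlgSpWith_surj_comp hW hU _ x
      (repByAlgSpWith_overMap _ stableBC_surj k (isSurjectiveMor_yon_map k)) hx₂

theorem isQuasiCompact_iff_compact_chart {𝒳 : AlgSt.Cat S} :
    IsQuasiCompact 𝒳 ↔
      ∃ (U : Over S) (x : FibCat.overCat U ⥤ᵇ 𝒳), CompactSpace ↥U.left ∧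
        RepByAlgSpWith (AlgSp.LocP @Smooth) x ∧ RepByAlgSpWith AlgSp.IsSurjectiveMor x := by
  constructor
  · rintro ⟨U, x, hU, h1, h2⟩
    exact ⟨U, x, inferInstance, h1, h2⟩
  · rintro ⟨U, x, hU, h1, h2⟩
    exact isQuasiCompact_of_compact_chart U x h1 h2

theorem isQuasiCompact_iff_space_chart {𝒳 : AlgSt.Cat S} :
    IsQuasiCompact 𝒳 ↔
      ∃ (U : AlgSp.Space S) (x : ofSp U.obj ⥤ᵇ 𝒳), AlgSp.IsQuasiCompactSp U.obj ∧
        RepByAlgSpWith (AlgSp.LocP @Smooth) x ∧ RepByAlgSpWith AlgSp.IsSurjectiveMor x := by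
  constructor
  · rintro ⟨U₀, x₀, hU, h1, h2⟩
    refine ⟨yonSpace U₀, BasedFunctor.comp (toOverCat U₀) x₀, ?_, ?_, ?_⟩
    · exact ⟨U₀, 𝟙 _, repWith_id_etale U₀, repWith_id_surjective U₀, inferInstance⟩
    · exact repByAlgSpWith_of_square _ x₀ (BasedFunctor.comp (toOverCat U₀) x₀) (toOverCat U₀)
        (BasedFunctor.id _) (isEquivOver_toOverCat U₀) (isEquivOver_id _) (Iso.refl _) h1
    · exact repByAlgSpWith_of_square _ x₀ (BasedFunctor.comp (toOverCat U₀) x₀) (toOverCat U₀)
        (BasedFunctor.id _) (isEquivOver_toOverCat U₀) (isEquivOver_id _) (Iso.refl _) h2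
  · rintro ⟨U, x, ⟨W, p, hpE, hpS, hW⟩, h1, h2⟩
    obtain ⟨x', hx', hs⟩ := exists_scheme_chart_of_space_chart U x h1 p hpE hpS
    exact isQuasiCompact_of_compact_chart W x' hx' (hs h2)

end Groth.Agent.H64.PTh
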