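import Groth.Agent.H64.Psh.PbRecog2

set_option autoImplicit false
open CategoryTheory CategoryTheory.Limits Opposite
universe w v₃ u₃ v₂ u₂ v u

/-! The category of a fibre product `H ×_G F` of presheaves is the 2-fibre product
`ofPsh H ×_{ofPsh G} ofPsh F` (general version). -/

namespace Groth.Agent.H64.Recog

open Groth.Agent.H32

variable {C : Type u} [Category.{v} C] {P H F G : Cᵒᵖ ⥤ Type w} (a : F ⟶ G) (ξ : H ⟶ G)
  (fst : P ⟶ H) (snd : P ⟶ F)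

variable (hw : ∀ (T : C) (s : P.obj (op T)),
  ξ.app (op T) (fst.app (op T) s) = a.app (op T) (snd.app (op T) s))

include hw in
theorem nonempty_legIsoG : Nonempty (BasedFunctor.comp (Stk.ofPshMap fst) (Stk.ofPshMap ξ) ≅
    BasedFunctor.comp (Stk.ofPshMap snd) (Stk.ofPshMap a)) := by
  apply nonempty_biso_of_bsec_eq
  intro x
  have h1 : bsec (BasedFunctor.comp (Stk.ofPshMap fst) (Stk.ofPshMap ξ)) x =
      ξ.app (op x.base) (fst.app (op x.base) x.sec) := secAt_rfl G _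
  have h2 : bsec (BasedFunctor.comp (Stk.ofPshMap snd) (Stk.ofPshMap a)) x =
      a.app (op x.base) (snd.app (op x.base) x.sec) := secAt_rfl G _
  rw [h1, h2]
  exact hw x.base x.sec

/-- the comparison functor -/
noncomputable def pbLiftG : Stk.ofPsh P ⥤ᵇ FibCat.fp (Stk.ofPshMap ξ) (Stk.ofPshMap a) :=
  FibCat.fpLift (Stk.ofPshMap fst) (Stk.ofPshMap snd) (nonempty_legIsoG a ξ fst snd hw).some

theorem pbLiftG_comp_fpFst :
    BasedFunctor.comp (pbLiftG a ξ fst snd hw) (FibCat.fpFst (Stk.ofPshMap ξ) (Stk.ofPshMap a)) =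
      Stk.ofPshMap fst := rfl

theorem pbLiftG_comp_fpSnd :
    BasedFunctor.comp (pbLiftG a ξ fst snd hw) (FibCat.fpSnd (Stk.ofPshMap ξ) (Stk.ofPshMap a)) =
      Stk.ofPshMap snd := rfl

theorem isFibSetoid_fp_ofPsh :
    FibCat.IsFibSetoid (FibCat.fp (Stk.ofPshMap ξ) (Stk.ofPshMap a)).p :=
  isFibSetoid_fp (Stk.ofPshMap ξ) (Stk.ofPshMap a) (isFibSetoid_ofPsh H) (isFibSetoid_ofPsh F)
    (Stk.isFibGrpd_ofPsh G)

variable (hex : ∀ (T : C) (h : H.obj (op T)) (f : F.obj (op T)),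
    ξ.app (op T) h = a.app (op T) f → ∃ s : P.obj (op T), fst.app (op T) s = h ∧
      snd.app (op T) s = f)
  (hinj : ∀ (T : C) (s s' : P.obj (op T)), fst.app (op T) s = fst.app (op T) s' →
    snd.app (op T) s = snd.app (op T) s' → s = s')

include hinj in
theorem pbLiftG_inj (T : C) (s s' : P.obj (op T))
    (m : (pbLiftG a ξ fst snd hw).obj ⟨T, s⟩ ⟶ (pbLiftG a ξ fst snd hw).obj ⟨T, s'⟩)
    (hm : (FibCat.fp (Stk.ofPshMap ξ) (Stk.ofPshMap a)).p.IsHomLift (𝟙 T) m) : s = s' := by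
  have h1 : (Stk.ofPsh H).p.IsHomLift (𝟙 T) m.hom.fst := fp_fst_isHomLift _ _ m (𝟙 T)
  have h2 : (Stk.ofPsh F).p.IsHomLift (𝟙 T) m.hom.snd := fp_snd_isHomLift _ _ m (𝟙 T)
  apply hinj T s s'
  · let m₁ : (⟨T, fst.app (op T) s⟩ : Stk.EltObj H) ⟶ ⟨T, fst.app (op T) s'⟩ := m.hom.fst
    have h1' : (Stk.ofPsh H).p.IsHomLift (𝟙 T) m₁ := h1
    have h3 := secAt_of_hom H m₁ (𝟙 T) h1' rfl rfl
    rw [secAt_rfl, secAt_rfl] at h3
    simpa using h3.symm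
  · let m₂ : (⟨T, snd.app (op T) s⟩ : Stk.EltObj F) ⟶ ⟨T, snd.app (op T) s'⟩ := m.hom.snd
    have h2' : (Stk.ofPsh F).p.IsHomLift (𝟙 T) m₂ := h2
    have h3 := secAt_of_hom F m₂ (𝟙 T) h2' rfl rfl
    rw [secAt_rfl, secAt_rfl] at h3
    simpa using h3.symm

include hex in
theorem pbLiftG_surj (z : (FibCat.fp (Stk.ofPshMap ξ) (Stk.ofPshMap a)).obj) :
    ∃ (s : P.obj (op ((FibCat.fp (Stk.ofPshMap ξ) (Stk.ofPshMap a)).p.obj z)))
      (m : (pbLiftG a ξ fst snd hw).obj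
        ⟨(FibCat.fp (Stk.ofPshMap ξ) (Stk.ofPshMap a)).p.obj z, s⟩ ⟶ z),
      (FibCat.fp (Stk.ofPshMap ξ) (Stk.ofPshMap a)).p.IsHomLift
        (𝟙 ((FibCat.fp (Stk.ofPshMap ξ) (Stk.ofPshMap a)).p.obj z)) m := by
  let x₁ : Stk.EltObj H := z.obj.fst
  let x₂ : Stk.EltObj F := z.obj.snd
  have hT : x₂.base = x₁.base := fp_snd_obj_eq (Stk.ofPshMap ξ) (Stk.ofPshMap a) z
  have hiso : (Stk.ofPsh G).p.IsHomLift (𝟙 x₁.base) z.obj.iso.hom := fp_iso_isHomLift _ _ z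
  have h1 := secAt_of_hom G z.obj.iso.hom (𝟙 x₁.base) hiso rfl hT
  have h2 : secAt G ((Stk.ofPshMap a).obj x₂) hT = a.app (op x₁.base) (secAt F x₂ hT) :=
    secAt_map a x₂ hT
  have h3 : secAt G ((Stk.ofPshMap ξ).obj x₁) rfl = ξ.app (op x₁.base) x₁.sec := secAt_rfl G _
  have h1' : secAt G ((Stk.ofPshMap a).obj x₂) hT = secAt G ((Stk.ofPshMap ξ).obj x₁) rfl := by
    refine Eq.trans ?_ h1
    simp only [op_id, G.map_id]
    rfl
  have h4 : ξ.app (op x₁.base) x₁.sec = a.app (op x₁.base) (secAt F x₂ hT) :=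
    h3.symm.trans (h1'.symm.trans h2)
  obtain ⟨s, hs1, hs2⟩ := hex x₁.base x₁.sec (secAt F x₂ hT) h4
  let z₀ := (pbLiftG a ξ fst snd hw).obj ⟨x₁.base, s⟩
  obtain ⟨m₁, hm₁⟩ := exists_hom_of_secAt_eq H
    (x := (⟨x₁.base, fst.app (op x₁.base) s⟩ : Stk.EltObj H)) (y := x₁) rfl rfl
    (by rw [secAt_rfl, secAt_rfl]; exact hs1)
  obtain ⟨m₂, hm₂⟩ := exists_hom_of_secAt_eq F
    (x := (⟨x₁.base, snd.app (op x₁.base) s⟩ : Stk.EltObj F)) (y := x₂) rfl hT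
    (by rw [secAt_rfl]; exact hs2)
  have hz₀ : (Stk.ofPsh G).p.IsHomLift (𝟙 x₁.base) z₀.obj.iso.hom := fp_iso_isHomLift _ _ z₀
  have hy₁ : (Stk.ofPsh G).p.IsHomLift (𝟙 x₁.base) ((Stk.ofPshMap ξ).map m₁) :=
    BasedFunctor.preserves_isHomLift (Stk.ofPshMap ξ) (𝟙 x₁.base) m₁
  have ha₂ : (Stk.ofPsh G).p.IsHomLift (𝟙 x₁.base) ((Stk.ofPshMap a).map m₂) :=
    BasedFunctor.preserves_isHomLift (Stk.ofPshMap a) (𝟙 x₁.base) m₂
  have hcompat : (Stk.ofPshMap ξ).map m₁ ≫ z.obj.iso.hom =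
      z₀.obj.iso.hom ≫ (Stk.ofPshMap a).map m₂ :=
    eltHom_ext G (𝟙 x₁.base) _ _ (lift_id_comp_id _ hy₁ hiso) (lift_id_comp_id _ hz₀ ha₂)
  let m : z₀ ⟶ z := fpHomMk (Stk.ofPshMap ξ) (Stk.ofPshMap a) m₁ m₂ hcompat
  have hm : (FibCat.fp (Stk.ofPshMap ξ) (Stk.ofPshMap a)).p.IsHomLift (𝟙 x₁.base) m :=
    @fp_isHomLift_of_fst _ _ _ _ _ (Stk.ofPshMap ξ) (Stk.ofPshMap a) _ _ m _ _ (𝟙 x₁.base) hm₁
  exact ⟨s, m, hm⟩

include hex hinj in
theorem isEquivOver_pbLiftG : FibCat.IsEquivOver (pbLiftG a ξ fst snd hw) :=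
  isEquivOver_of_ofPsh _ (isFibSetoid_fp_ofPsh a ξ) (pbLiftG_inj a ξ fst snd hw hinj)
    (pbLiftG_surj a ξ fst snd hw hex)

section sq

variable {C : Type u} [Category.{v} C] {P H F G : Cᵒᵖ ⥤ Type w} {a : F ⟶ G} {ξ : H ⟶ G}
  {fst : P ⟶ H} {snd : P ⟶ F}

theorem isPullback_appG (sq : IsPullback fst snd ξ a) (T : C) :
    IsPullback (fst.app (op T)) (snd.app (op T)) (ξ.app (op T)) (a.app (op T)) :=
  sq.map ((evaluation Cᵒᵖ (Type w)).obj (op T))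

theorem hwG_of_isPullback (sq : IsPullback fst snd ξ a) (T : C) (s : P.obj (op T)) :
    ξ.app (op T) (fst.app (op T) s) = a.app (op T) (snd.app (op T) s) := by
  have h := ConcreteCategory.congr_hom (isPullback_appG sq T).w s
  simpa only [types_comp_apply] using h

/-- the comparison functor attached to a pullback square of presheaves -/
noncomputable def pbLiftGSq (sq : IsPullback fst snd ξ a) :
    Stk.ofPsh P ⥤ᵇ FibCat.fp (Stk.ofPshMap ξ) (Stk.ofPshMap a) :=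
  pbLiftG a ξ fst snd (hwG_of_isPullback sq)

theorem isEquivOver_pbLiftGSq (sq : IsPullback fst snd ξ a) :
    FibCat.IsEquivOver (pbLiftGSq sq) :=
  isEquivOver_pbLiftG a ξ fst snd (hwG_of_isPullback sq)
    (fun T h f hh => Types.exists_of_isPullback (isPullback_appG sq T) h f hh)
    (fun T s s' h1 h2 => Types.ext_of_isPullback (isPullback_appG sq T) h1 h2)

theorem pbLiftGSq_comp_fpFst (sq : IsPullback fst snd ξ a) :
    BasedFunctor.comp (pbLiftGSq sq) (FibCat.fpFst (Stk.ofPshMap ξ) (Stk.ofPshMap a)) =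
      Stk.ofPshMap fst := rfl

theorem pbLiftGSq_comp_fpSnd (sq : IsPullback fst snd ξ a) :
    BasedFunctor.comp (pbLiftGSq sq) (FibCat.fpSnd (Stk.ofPshMap ξ) (Stk.ofPshMap a)) =
      Stk.ofPshMap snd := rfl

end sq

end Groth.Agent.H64.Recog
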