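import Groth.Agent.H64.Stk.EquivTools
import Groth.Prelude.Def_AlgSt2

set_option autoImplicit false
open CategoryTheory CategoryTheory.Limits Opposite AlgebraicGeometry
universe u

/-! The slice `(Sch/U)` is representable by the algebraic space `h_U`. -/

namespace Groth.Agent.H64.FpRep

open Groth.Agent.H32 AlgSt

variable {S : Scheme.{u}} (U : Over S)

theorem toOverCat_comp_ofOverCat :
    BasedFunctor.comp (toOverCat U) (ofOverCat U) = BasedFunctor.id (ofSch U) := rfl

theorem ofOverCat_comp_toOverCat :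
    BasedFunctor.comp (ofOverCat U) (toOverCat U) = BasedFunctor.id (FibCat.overCat U) := rfl

theorem isEquivOver_toOverCat : FibCat.IsEquivOver (toOverCat U) :=
  ⟨ofOverCat U, ⟨eqToIso (toOverCat_comp_ofOverCat U)⟩, ⟨eqToIso (ofOverCat_comp_toOverCat U)⟩⟩

theorem isEquivOver_ofOverCat : FibCat.IsEquivOver (ofOverCat U) :=
  ⟨toOverCat U, ⟨eqToIso (ofOverCat_comp_toOverCat U)⟩, ⟨eqToIso (toOverCat_comp_ofOverCat U)⟩⟩

/-- the algebraic space `h_U` -/
noncomputable def yonSpace : AlgSp.Space S := ⟨(AlgSp.yon S).obj U, AlgSp.IsAlgSpace.yon_obj U⟩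

theorem repByAlgSp_overCat : RepByAlgSp (FibCat.overCat U) :=
  ⟨yonSpace U, toOverCat U, isEquivOver_toOverCat U⟩

end Groth.Agent.H64.FpRep
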