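import Groth.Agent.H64.Psh.SpaceMaps
import Groth.Agent.H64.Psh.OverCatRep
import Groth.Agent.H64.Fib.DiagRep

set_option autoImplicit false
open CategoryTheory CategoryTheory.Limits Opposite AlgebraicGeometry
universe u

/-! The diagonal is representable by algebraic spaces iff every morphism from a scheme is. -/

namespace Groth.Agent.H64.FpRep

open Groth.Agent.H32 Groth.Agent.H64.Recog AlgSt

variable {S : Scheme.{u}} {𝒮 : AlgSt.Cat S}

theorem repByAlgSp1_of_diag (hΔ : RepByAlgSp1 (FibCat.diag (FibCat.toSelf 𝒮)))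
    (U : Over S) (G : FibCat.overCat U ⥤ᵇ 𝒮) : RepByAlgSp1 G := by
  intro V y
  obtain ⟨e⟩ := nonempty_canonE y G
  have hE := isEquivOver_ovProdLift V U
  have h1 : RepByAlgSp
      (FibCat.fp (BasedFunctor.comp (ovProdLift V U) (prodF y G e))
        (FibCat.diag (FibCat.toSelf 𝒮))) := hΔ (V ⨯ U) _
  obtain ⟨Ψ, hΨ, -⟩ := isEquivOver_fpMap_left (FibCat.diag (FibCat.toSelf 𝒮)) (prodF y G e)
    (ovProdLift V U) hE
  have h2 : RepByAlgSp (FibCat.fp (prodF y G e) (FibCat.diag (FibCat.toSelf 𝒮))) :=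
    repByAlgSp_of_isEquivOver hΨ h1
  exact repByAlgSp_of_isEquivOver (isEquivOver_magicN y G e) h2

theorem repByAlgSp1_diag_of_forall
    (hG : ∀ (U : Over S) (G : FibCat.overCat U ⥤ᵇ 𝒮), RepByAlgSp1 G) :
    RepByAlgSp1 (FibCat.diag (FibCat.toSelf 𝒮)) := by
  intro W z
  obtain ⟨e⟩ := nonempty_canonE
    (BasedFunctor.comp z (FibCat.fpFst (FibCat.toSelf 𝒮) (FibCat.toSelf 𝒮)))
    (BasedFunctor.comp z (FibCat.fpSnd (FibCat.toSelf 𝒮) (FibCat.toSelf 𝒮)))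
  set z₁ := BasedFunctor.comp z (FibCat.fpFst (FibCat.toSelf 𝒮) (FibCat.toSelf 𝒮)) with hz₁
  set z₂ := BasedFunctor.comp z (FibCat.fpSnd (FibCat.toSelf 𝒮) (FibCat.toSelf 𝒮)) with hz₂
  have hsrc : RepByAlgSp (FibCat.fp (prodF z₁ z₂ e) (FibCat.diag (FibCat.toSelf 𝒮))) :=
    repByAlgSp_of_isEquivOver' (isEquivOver_magicN z₁ z₂ e) (hG W z₂ W z₁)
  have htgt : RepByAlgSp (FibCat.fp (FibCat.toSelf (FibCat.overCat W))
      (FibCat.toSelf (FibCat.overCat W))) :=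
    repByAlgSp_of_isEquivOver (isEquivOver_ovProdLift W W) (repByAlgSp_overCat (W ⨯ W))
  have hf' : RepByAlgSp1 (FibCat.fpFst (prodF z₁ z₂ e) (FibCat.diag (FibCat.toSelf 𝒮))) :=
    repByAlgSp1_of_repByAlgSp hsrc htgt _
  have h1 : RepByAlgSp
      (FibCat.fp (FibCat.diag (FibCat.toSelf (FibCat.overCat W)))
        (FibCat.fpFst (prodF z₁ z₂ e) (FibCat.diag (FibCat.toSelf 𝒮)))) := hf' W _
  have h2 : RepByAlgSp
      (FibCat.fp (BasedFunctor.comp (FibCat.diag (FibCat.toSelf (FibCat.overCat W)))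
        (prodF z₁ z₂ e)) (FibCat.diag (FibCat.toSelf 𝒮))) :=
    repByAlgSp_of_isEquivOver' (isEquivOver_fpPaste (FibCat.diag (FibCat.toSelf 𝒮))
      (prodF z₁ z₂ e) (FibCat.diag (FibCat.toSelf (FibCat.overCat W)))) h1
  obtain ⟨Ψ, hΨ⟩ := exists_equiv_fp_of_iso (decompIso z e)
    (Iso.refl (FibCat.diag (FibCat.toSelf 𝒮)))
  exact repByAlgSp_of_isEquivOver' hΨ h2

theorem repByAlgSp1_diag_iff :
    RepByAlgSp1 (FibCat.diag (FibCat.toSelf 𝒮)) ↔
      ∀ (U : Over S) (G : FibCat.overCat U ⥤ᵇ 𝒮), RepByAlgSp1 G :=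
  ⟨repByAlgSp1_of_diag, repByAlgSp1_diag_of_forall⟩

end Groth.Agent.H64.FpRep
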