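import Groth.Agent.H64.Psh.PComp
import Groth.Agent.H64.ProdMapRep

set_option autoImplicit false
open CategoryTheory CategoryTheory.Limits Opposite AlgebraicGeometry
universe u

/-! Products of morphisms representable by algebraic spaces with a property. -/

namespace Groth.Agent.H64.PTh

open Groth.Agent.H32 Groth.Agent.H64.Recog Groth.Agent.H64.FpRep AlgSt

variable {S : Scheme.{u}} {P : MorphismProperty (AlgSp.Sp S)}

theorem repByAlgSpWith_prodF {𝒳₁ 𝒳₂ 𝒴₁ 𝒴₂ : AlgSt.Cat S}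
    (h𝒳₂ : FibCat.IsFibGrpd 𝒳₂.p) (h𝒴₂ : FibCat.IsFibGrpd 𝒴₂.p)
    (hPb : StableBC P)
    (hPc : ∀ ⦃X Y Z : AlgSp.Sp S⦄, AlgSp.IsAlgSpace X → AlgSp.IsAlgSpace Y → AlgSp.IsAlgSpace Z →
      ∀ (a : X ⟶ Y) (b : Y ⟶ Z), P a → P b → P (a ≫ b))
    (hP : AlgSp.IsLocalOnBase AlgSp.IsFppfCover P)
    (f₁ : 𝒳₁ ⥤ᵇ 𝒴₁) (f₂ : 𝒳₂ ⥤ᵇ 𝒴₂) (hf₁ : RepByAlgSpWith P f₁) (hf₂ : RepByAlgSpWith P f₂)
    (e : BasedFunctor.comp (BasedFunctor.comp (FibCat.fpFst (FibCat.toSelf 𝒳₁) (FibCat.toSelf 𝒳₂)) f₁)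
        (FibCat.toSelf 𝒴₁) ≅
      BasedFunctor.comp (BasedFunctor.comp (FibCat.fpSnd (FibCat.toSelf 𝒳₁) (FibCat.toSelf 𝒳₂)) f₂)
        (FibCat.toSelf 𝒴₂)) :
    RepByAlgSpWith P (prodF f₁ f₂ e) := by
  intro U y
  obtain ⟨F₁, e₁, he₁, hPb₁⟩ := hf₁ U (prodY₁ y)
  set H : FibCat.fp (prodY₁ y) f₁ ⥤ᵇ 𝒴₂ :=
    BasedFunctor.comp (FibCat.fpFst (prodY₁ y) f₁) (prodY₂ y) with hH
  obtain ⟨V, a, ev, hev, ⟨α⟩, hPa⟩ := hasP_of_repByAlgSpWith h𝒳₂ h𝒴₂ hPb hP f₂ hf₂ F₁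
    (BasedFunctor.comp e₁ H)
  obtain ⟨Ψ, hΨ, hΨ1⟩ := isEquivOver_fpMap_left f₂ H e₁ he₁
  obtain ⟨e', he', h1⟩ := exists_equiv_spMapOfOver_eq (prodΘ f₁ f₂ e y) (isEquivOver_prodΘ f₁ f₂ e y)
    (BasedFunctor.comp (FibCat.fpFst H f₂) (FibCat.fpFst (prodY₁ y) f₁))
    (BasedFunctor.comp ev Ψ) (isEquivOver_comp hev hΨ)
  refine ⟨V, e', he', ?_⟩
  have h0 : BasedFunctor.comp e' (FibCat.fpFst y (prodF f₁ f₂ e)) =
      BasedFunctor.comp e' (BasedFunctor.comp (prodΘ f₁ f₂ e y)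
        (BasedFunctor.comp (FibCat.fpFst H f₂) (FibCat.fpFst (prodY₁ y) f₁))) := rfl
  have h2 : BasedFunctor.comp (BasedFunctor.comp ev Ψ)
      (BasedFunctor.comp (FibCat.fpFst H f₂) (FibCat.fpFst (prodY₁ y) f₁)) =
      BasedFunctor.comp (BasedFunctor.comp ev (FibCat.fpFst (BasedFunctor.comp e₁ H) f₂))
        (BasedFunctor.comp e₁ (FibCat.fpFst (prodY₁ y) f₁)) :=
    congrArg (fun t => BasedFunctor.comp ev (BasedFunctor.comp t (FibCat.fpFst (prodY₁ y) f₁))) hΨ1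
  have h3 : spMapOfOver (F := V.obj) (U := U)
      (BasedFunctor.comp (BasedFunctor.comp ev (FibCat.fpFst (BasedFunctor.comp e₁ H) f₂))
        (BasedFunctor.comp e₁ (FibCat.fpFst (prodY₁ y) f₁))) =
      spMapOfOver (F := V.obj) (U := U) (BasedFunctor.comp (ofSpMap a.hom)
        (BasedFunctor.comp e₁ (FibCat.fpFst (prodY₁ y) f₁))) :=
    spMapOfOver_eq_of_hom (BasedCategory.whiskerRight α.hom
      (BasedFunctor.comp e₁ (FibCat.fpFst (prodY₁ y) f₁)))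
  have h4 : spMapOfOver (F := V.obj) (U := U)
      (BasedFunctor.comp e' (FibCat.fpFst y (prodF f₁ f₂ e))) =
      a.hom ≫ spMapOfOver (BasedFunctor.comp e₁ (FibCat.fpFst (prodY₁ y) f₁)) :=
    (congrArg (spMapOfOver (F := V.obj) (U := U)) h0).trans
      (h1.trans ((congrArg (spMapOfOver (F := V.obj) (U := U)) h2).trans
        (h3.trans (spMapOfOver_ofSpMap_comp a.hom _))))
  rw [h4]
  exact hPc V.property F₁.property (AlgSp.IsAlgSpace.yon_obj U) _ _ hPa hPb₁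

end Groth.Agent.H64.PTh
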