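import Groth.Agent.H64.Psh.AlgStackRep
import Groth.Agent.H64.Psh.PProd
import Groth.Agent.H64.Fib.DiagRep
import Groth.Agent.H64.Stk.SelfPrestack
import Groth.Agent.H64.Psh.PProps
import Groth.Agent.H64.Psh.DiagAlg

set_option autoImplicit false
open CategoryTheory CategoryTheory.Limits Opposite AlgebraicGeometry
universe v₇ u₇ v₆ u₆ v₅ u₅ v₄ u₄ v₃ u₃ v₂ u₂ v u

/-! Products and fibre products of algebraic stacks. -/

namespace Groth.Agent.H64.PTh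

open Groth.Agent.H32 Groth.Agent.H26 Groth.Agent.H64.Recog Groth.Agent.H64.FpRep AlgSt

section decomp

variable {C : Type u} [Category.{v} C]
variable {𝒲 : BasedCategory.{v₂, u₂} C} {𝒮₁ : BasedCategory.{v₄, u₄} C}
  {𝒮₂ : BasedCategory.{v₅, u₅} C}
  (z : 𝒲 ⥤ᵇ FibCat.fp (FibCat.toSelf 𝒮₁) (FibCat.toSelf 𝒮₂))
  (e : BasedFunctor.comp (BasedFunctor.comp (FibCat.fpFst (FibCat.toSelf 𝒲) (FibCat.toSelf 𝒲))
        (BasedFunctor.comp z (FibCat.fpFst (FibCat.toSelf 𝒮₁) (FibCat.toSelf 𝒮₂))))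
      (FibCat.toSelf 𝒮₁) ≅
    BasedFunctor.comp (BasedFunctor.comp (FibCat.fpSnd (FibCat.toSelf 𝒲) (FibCat.toSelf 𝒲))
        (BasedFunctor.comp z (FibCat.fpSnd (FibCat.toSelf 𝒮₁) (FibCat.toSelf 𝒮₂))))
      (FibCat.toSelf 𝒮₂))

/-- every functor to `𝒮₁ × 𝒮₂` is the product of its components precomposed with the diagonal -/
def decompIso₂ : z ≅ BasedFunctor.comp (FibCat.diag (FibCat.toSelf 𝒲))
    (prodF (BasedFunctor.comp z (FibCat.fpFst (FibCat.toSelf 𝒮₁) (FibCat.toSelf 𝒮₂)))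
      (BasedFunctor.comp z (FibCat.fpSnd (FibCat.toSelf 𝒮₁) (FibCat.toSelf 𝒮₂))) e) :=
  mkBIso
    (fun w => fpIsoMk (FibCat.toSelf 𝒮₁) (FibCat.toSelf 𝒮₂) (Iso.refl _) (Iso.refl _) (by
      have hz : (FibCat.selfOver C).p.IsHomLift (𝟙 (𝒲.p.obj w)) (z.obj w).obj.iso.hom :=
        lift_id_of_eq (z.w_obj w)
          (fp_iso_isHomLift (FibCat.toSelf 𝒮₁) (FibCat.toSelf 𝒮₂) (z.obj w))
      have hP : (FibCat.selfOver C).p.IsHomLift (𝟙 (𝒲.p.obj w))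
          (((BasedFunctor.comp (FibCat.diag (FibCat.toSelf 𝒲))
            (prodF (BasedFunctor.comp z (FibCat.fpFst (FibCat.toSelf 𝒮₁) (FibCat.toSelf 𝒮₂)))
              (BasedFunctor.comp z (FibCat.fpSnd (FibCat.toSelf 𝒮₁) (FibCat.toSelf 𝒮₂))) e)).obj
                w).obj.iso.hom) :=
        lift_id_of_eq ((BasedFunctor.comp (FibCat.diag (FibCat.toSelf 𝒲))
            (prodF (BasedFunctor.comp z (FibCat.fpFst (FibCat.toSelf 𝒮₁) (FibCat.toSelf 𝒮₂)))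
              (BasedFunctor.comp z (FibCat.fpSnd (FibCat.toSelf 𝒮₁) (FibCat.toSelf 𝒮₂))) e)).w_obj w)
          (fp_iso_isHomLift (FibCat.toSelf 𝒮₁) (FibCat.toSelf 𝒮₂)
            ((BasedFunctor.comp (FibCat.diag (FibCat.toSelf 𝒲))
            (prodF (BasedFunctor.comp z (FibCat.fpFst (FibCat.toSelf 𝒮₁) (FibCat.toSelf 𝒮₂)))
              (BasedFunctor.comp z (FibCat.fpSnd (FibCat.toSelf 𝒮₁) (FibCat.toSelf 𝒮₂))) e)).obj w))
      have h1 : (FibCat.selfOver C).p.IsHomLift (𝟙 (𝒲.p.obj w))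
          ((FibCat.toSelf 𝒮₁).map (Iso.refl (z.obj w).obj.fst).hom) := by
        have : 𝒮₁.p.IsHomLift (𝟙 (𝒲.p.obj w)) (Iso.refl (z.obj w).obj.fst).hom :=
          lift_id_of_obj 𝒮₁.p
            ((BasedFunctor.comp z (FibCat.fpFst (FibCat.toSelf 𝒮₁) (FibCat.toSelf 𝒮₂))).w_obj w)
        exact BasedFunctor.preserves_isHomLift (FibCat.toSelf 𝒮₁) _ _
      have h2 : (FibCat.selfOver C).p.IsHomLift (𝟙 (𝒲.p.obj w))
          ((FibCat.toSelf 𝒮₂).map (Iso.refl (z.obj w).obj.snd).hom) := by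
        have : 𝒮₂.p.IsHomLift (𝟙 (𝒲.p.obj w)) (Iso.refl (z.obj w).obj.snd).hom :=
          lift_id_of_obj 𝒮₂.p
            ((BasedFunctor.comp z (FibCat.fpSnd (FibCat.toSelf 𝒮₁) (FibCat.toSelf 𝒮₂))).w_obj w)
        exact BasedFunctor.preserves_isHomLift (FibCat.toSelf 𝒮₂) _ _
      have hL := lift_id_comp_id (FibCat.selfOver C).p h1 hP
      have hR := lift_id_comp_id (FibCat.selfOver C).p hz h2
      exact @self_hom_ext _ _ _ _ (𝟙 (𝒲.p.obj w)) _ _ _ _ hL hR))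
    (fun {w w'} m => by
      apply fp_hom_ext
      · show (z.map m).hom.fst ≫ 𝟙 _ = 𝟙 _ ≫ (z.map m).hom.fst
        rw [Category.comp_id, Category.id_comp]
      · show (z.map m).hom.snd ≫ 𝟙 _ = 𝟙 _ ≫ (z.map m).hom.snd
        rw [Category.comp_id, Category.id_comp])
    (fun w => by
      have : 𝒮₁.p.IsHomLift (𝟙 (𝒲.p.obj w)) (Iso.refl (z.obj w).obj.fst).hom :=
        lift_id_of_obj 𝒮₁.p
          ((BasedFunctor.comp z (FibCat.fpFst (FibCat.toSelf 𝒮₁) (FibCat.toSelf 𝒮₂))).w_obj w)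
      exact @fp_isHomLift_of_fst _ _ _ _ _ (FibCat.toSelf 𝒮₁) (FibCat.toSelf 𝒮₂) _ _ _ _ _
        (𝟙 (𝒲.p.obj w)) this)

end decomp

section top

variable {S : Scheme.{u}}

theorem stableBC_top : StableBC (⊤ : MorphismProperty (AlgSp.Sp S)) :=
  fun _ _ _ _ _ _ _ _ _ _ _ _ _ _ => trivial

theorem isLocalOnBase_top (τ : AlgSp.CovNotion S) :
    AlgSp.IsLocalOnBase τ (⊤ : MorphismProperty (AlgSp.Sp S)) :=
  fun _ _ _ _ _ _ _ _ _ _ _ _ _ _ _ => ⟨fun _ _ => trivial, fun _ => trivial⟩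

theorem repByAlgSp1_iff_top {𝒳 : BasedCategory.{v₂, u₂} (Over S)}
    {𝒴 : BasedCategory.{v₃, u₃} (Over S)} (f : 𝒳 ⥤ᵇ 𝒴) :
    RepByAlgSp1 f ↔ RepByAlgSpWith (⊤ : MorphismProperty (AlgSp.Sp S)) f := by
  constructor
  · intro h U y
    obtain ⟨F, e, he⟩ := h U y
    exact ⟨F, e, he, trivial⟩
  · intro h U y
    obtain ⟨F, e, he, -⟩ := h U y
    exact ⟨F, e, he⟩

theorem repByAlgSp1_comp {𝒳 𝒴 𝒵 : AlgSt.Cat S}
    (h𝒳 : FibCat.IsFibGrpd 𝒳.p) (h𝒴 : FibCat.IsFibGrpd 𝒴.p)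
    (f : 𝒳 ⥤ᵇ 𝒴) (g : 𝒴 ⥤ᵇ 𝒵) (hf : RepByAlgSp1 f) (hg : RepByAlgSp1 g) :
    RepByAlgSp1 (BasedFunctor.comp f g) :=
  (repByAlgSp1_iff_top _).2 (repByAlgSpWith_comp h𝒳 h𝒴 stableBC_top
    (fun _ _ _ _ _ _ _ _ _ _ => trivial) (isLocalOnBase_top _) f g
    ((repByAlgSp1_iff_top f).1 hf) ((repByAlgSp1_iff_top g).1 hg))

theorem repByAlgSp1_prodF {𝒳₁ 𝒳₂ 𝒴₁ 𝒴₂ : AlgSt.Cat S}
    (h𝒳₂ : FibCat.IsFibGrpd 𝒳₂.p) (h𝒴₂ : FibCat.IsFibGrpd 𝒴₂.p)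
    (f₁ : 𝒳₁ ⥤ᵇ 𝒴₁) (f₂ : 𝒳₂ ⥤ᵇ 𝒴₂) (hf₁ : RepByAlgSp1 f₁) (hf₂ : RepByAlgSp1 f₂)
    (e : BasedFunctor.comp (BasedFunctor.comp (FibCat.fpFst (FibCat.toSelf 𝒳₁) (FibCat.toSelf 𝒳₂)) f₁)
        (FibCat.toSelf 𝒴₁) ≅
      BasedFunctor.comp (BasedFunctor.comp (FibCat.fpSnd (FibCat.toSelf 𝒳₁) (FibCat.toSelf 𝒳₂)) f₂)
        (FibCat.toSelf 𝒴₂)) :
    RepByAlgSp1 (prodF f₁ f₂ e) :=
  (repByAlgSp1_iff_top _).2 (repByAlgSpWith_prodF h𝒳₂ h𝒴₂ stableBC_top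
    (fun _ _ _ _ _ _ _ _ _ _ => trivial) (isLocalOnBase_top _) f₁ f₂
    ((repByAlgSp1_iff_top f₁).1 hf₁) ((repByAlgSp1_iff_top f₂).1 hf₂) e)

theorem repByAlgSp1_of_iso {𝒳 : BasedCategory.{v₂, u₂} (Over S)}
    {𝒴 : BasedCategory.{v₃, u₃} (Over S)} {f f' : 𝒳 ⥤ᵇ 𝒴} (e : f' ≅ f) (hf : RepByAlgSp1 f) :
    RepByAlgSp1 f' :=
  repByAlgSp1_of_square f f' (BasedFunctor.id _) (BasedFunctor.id _) (isEquivOver_id _)
    (isEquivOver_id _) e hf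

end top

section prod

variable {S : Scheme.{u}} {𝒳 𝒴 : AlgSt.Cat S}

theorem repByAlgSp_prod_overCat (U V : Over S) :
    RepByAlgSp (FibCat.fp (FibCat.toSelf (FibCat.overCat U)) (FibCat.toSelf (FibCat.overCat V))) :=
  repByAlgSp_of_isEquivOver (isEquivOver_ovProdLift U V) (repByAlgSp_overCat (U ⨯ V))

/-- the diagonal of a product of categories with representable diagonals is representable -/
theorem repByAlgSp1_diag_prod (h𝒴g : FibCat.IsFibGrpd 𝒴.p)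
    (h𝒳 : RepByAlgSp1 (FibCat.diag (FibCat.toSelf 𝒳)))
    (h𝒴 : RepByAlgSp1 (FibCat.diag (FibCat.toSelf 𝒴))) :
    RepByAlgSp1 (FibCat.diag (FibCat.toSelf (FibCat.fp (FibCat.toSelf 𝒳) (FibCat.toSelf 𝒴)))) := by
  apply repByAlgSp1_diag_of_forall
  intro U z
  obtain ⟨e⟩ := self_biso_nonempty
    (BasedFunctor.comp (BasedFunctor.comp
      (FibCat.fpFst (FibCat.toSelf (FibCat.overCat U)) (FibCat.toSelf (FibCat.overCat U)))
        (BasedFunctor.comp z (FibCat.fpFst (FibCat.toSelf 𝒳) (FibCat.toSelf 𝒴))))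
      (FibCat.toSelf 𝒳))
    (BasedFunctor.comp (BasedFunctor.comp
      (FibCat.fpSnd (FibCat.toSelf (FibCat.overCat U)) (FibCat.toSelf (FibCat.overCat U)))
        (BasedFunctor.comp z (FibCat.fpSnd (FibCat.toSelf 𝒳) (FibCat.toSelf 𝒴))))
      (FibCat.toSelf 𝒴))
  have hU : FibCat.IsFibGrpd (FibCat.overCat U).p := (isFibSetoid_overCat U).1
  have hUU : FibCat.IsFibGrpd
      (FibCat.fp (FibCat.toSelf (FibCat.overCat U)) (FibCat.toSelf (FibCat.overCat U))).p :=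
    isFibGrpd_fp _ _ hU hU (isFibGrpd_selfOver _)
  have h1 : RepByAlgSp1 (prodF (BasedFunctor.comp z (FibCat.fpFst (FibCat.toSelf 𝒳) (FibCat.toSelf 𝒴)))
      (BasedFunctor.comp z (FibCat.fpSnd (FibCat.toSelf 𝒳) (FibCat.toSelf 𝒴))) e) :=
    repByAlgSp1_prodF hU h𝒴g _ _ (repByAlgSp1_of_diag h𝒳 U _) (repByAlgSp1_of_diag h𝒴 U _) e
  have h2 : RepByAlgSp1 (FibCat.diag (FibCat.toSelf (FibCat.overCat U))) :=
    repByAlgSp1_of_repByAlgSp (repByAlgSp_overCat U) (repByAlgSp_prod_overCat U U) _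
  exact repByAlgSp1_of_iso (decompIso₂ z e) (repByAlgSp1_comp hU hUU _ _ h2 h1)

/-- product of two atlases -/
theorem repByAlgSpWith_prod_atlas {P : MorphismProperty (AlgSp.Sp S)}
    (h𝒴g : FibCat.IsFibGrpd 𝒴.p)
    (hPb : StableBC P)
    (hPc : ∀ ⦃X Y Z : AlgSp.Sp S⦄, AlgSp.IsAlgSpace X → AlgSp.IsAlgSpace Y → AlgSp.IsAlgSpace Z →
      ∀ (a : X ⟶ Y) (b : Y ⟶ Z), P a → P b → P (a ≫ b))
    (hP : AlgSp.IsLocalOnBase AlgSp.IsFppfCover P)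
    {U V : Over S} (x : FibCat.overCat U ⥤ᵇ 𝒳) (y : FibCat.overCat V ⥤ᵇ 𝒴)
    (hx : RepByAlgSpWith P x) (hy : RepByAlgSpWith P y)
    (e : BasedFunctor.comp (BasedFunctor.comp
        (FibCat.fpFst (FibCat.toSelf (FibCat.overCat U)) (FibCat.toSelf (FibCat.overCat V))) x)
        (FibCat.toSelf 𝒳) ≅
      BasedFunctor.comp (BasedFunctor.comp
        (FibCat.fpSnd (FibCat.toSelf (FibCat.overCat U)) (FibCat.toSelf (FibCat.overCat V))) y)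
        (FibCat.toSelf 𝒴)) :
    RepByAlgSpWith P (BasedFunctor.comp (ovProdLift U V) (prodF x y e)) := by
  have hV : FibCat.IsFibGrpd (FibCat.overCat V).p := (isFibSetoid_overCat V).1
  have h := repByAlgSpWith_prodF hV h𝒴g hPb hPc hP x y hx hy e
  exact repByAlgSpWith_of_square P (prodF x y e) (BasedFunctor.comp (ovProdLift U V) (prodF x y e))
    (ovProdLift U V) (BasedFunctor.id _) (isEquivOver_ovProdLift U V) (isEquivOver_id _)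
    (Iso.refl _) h

theorem isAlgStack_prod (h𝒳 : IsAlgStack Scheme.fppfPrecoverage 𝒳)
    (h𝒴 : IsAlgStack Scheme.fppfPrecoverage 𝒴) :
    IsAlgStack Scheme.fppfPrecoverage (FibCat.fp (FibCat.toSelf 𝒳) (FibCat.toSelf 𝒴)) := by
  refine ⟨isStack_fp _ _ _ h𝒳.isStack h𝒴.isStack (isPrestack_selfOver _),
    repByAlgSp1_diag_prod h𝒴.isStack.1 h𝒳.diag h𝒴.diag, ?_⟩
  obtain ⟨U, x, hx1, hx2⟩ := h𝒳.atlas
  obtain ⟨V, y, hy1, hy2⟩ := h𝒴.atlas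
  obtain ⟨e⟩ := self_biso_nonempty
    (BasedFunctor.comp (BasedFunctor.comp
        (FibCat.fpFst (FibCat.toSelf (FibCat.overCat U)) (FibCat.toSelf (FibCat.overCat V))) x)
        (FibCat.toSelf 𝒳))
    (BasedFunctor.comp (BasedFunctor.comp
        (FibCat.fpSnd (FibCat.toSelf (FibCat.overCat U)) (FibCat.toSelf (FibCat.overCat V))) y)
        (FibCat.toSelf 𝒴))
  refine ⟨U ⨯ V, BasedFunctor.comp (ovProdLift U V) (prodF x y e), ?_, ?_⟩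
  · exact repByAlgSpWith_prod_atlas h𝒴.isStack.1
      (stableBC_locP Groth.Agent.H50.goodClass_smooth)
      (fun _ _ _ _ hY _ a b ha hb => Groth.Agent.H50.goodClass_smooth.locP_comp hY a b ha hb)
      isLocalOnBase_fppf_smooth x y hx1 hy1 e
  · exact repByAlgSpWith_prod_atlas h𝒴.isStack.1 stableBC_surj
      (fun _ _ _ _ _ _ _ _ ha hb => Groth.Agent.H49.isSurjectiveMor_comp ha hb)
      isLocalOnBase_fppf_surj x y hx2 hy2 e

end prod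

end Groth.Agent.H64.PTh
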