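import Groth.Agent.H64.Psh.PSource2
import Groth.Agent.H64.Psh.PbRecogG
import Groth.Agent.H64.Stk.Whisker
import Groth.Agent.H64.Stk.FpPaste
import Groth.Agent.H64.Psh.ProdAlg

set_option autoImplicit false
open CategoryTheory CategoryTheory.Limits Opposite AlgebraicGeometry
universe u

/-! Descent of properties of morphisms representable by algebraic spaces along coverings of the
base. -/

namespace Groth.Agent.H64.PTh

open Groth.Agent.H32 Groth.Agent.H64.Recog Groth.Agent.H64.FpRep AlgSt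

variable {S : Scheme.{u}}

/-- Given a presentation `V ⟶ Z₀` of `Z₀ ×_𝒴 𝒳`, a map of sheaves `t : T ⟶ Z₀` and a lift `ζ` of
`T ⟶ Z₀ ⟶ 𝒴` to `𝒵`, the sheaf fibre product `T ×_{Z₀} V` presents `T ×_𝒵 (𝒵 ×_𝒴 𝒳)`. -/
theorem exists_presentation_pullback {𝒳 𝒴 𝒵 : AlgSt.Cat S} (f : 𝒳 ⥤ᵇ 𝒴) (z : 𝒵 ⥤ᵇ 𝒴)
    {Z₀ T V : AlgSp.Sp S} (w : ofSp Z₀ ⥤ᵇ 𝒴) (t : T ⟶ Z₀) (ζ : ofSp T ⥤ᵇ 𝒵)
    (θ : BasedFunctor.comp (ofSpMap t) w ≅ BasedFunctor.comp ζ z)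
    (a : V ⟶ Z₀) (eV : ofSp V ⥤ᵇ FibCat.fp w f) (heV : FibCat.IsEquivOver eV)
    (αV : BasedFunctor.comp eV (FibCat.fpFst w f) ≅ ofSpMap a)
    {X : AlgSp.Sp S} (fst : X ⟶ T) (snd : X ⟶ V) (sq : IsPullback fst snd t a) :
    ∃ e₁ : ofSp X ⥤ᵇ FibCat.fp ζ (FibCat.fpFst z f), FibCat.IsEquivOver e₁ ∧
      Nonempty (BasedFunctor.comp e₁ (FibCat.fpFst ζ (FibCat.fpFst z f)) ≅ ofSpMap fst) := by
  have sq' : IsPullback fst.hom snd.hom t.hom a.hom := sq.map (sheafToPresheaf _ _)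
  let L : ofSp X ⥤ᵇ FibCat.fp (ofSpMap t) (ofSpMap a) := pbLiftGSq sq'
  have hL : FibCat.IsEquivOver L := isEquivOver_pbLiftGSq sq'
  obtain ⟨Ψ, hΨ, hΨ1⟩ := exists_equiv_fp_of_square (FibCat.fpFst w f) (ofSpMap a) eV
    (BasedFunctor.id _) heV (isEquivOver_id _) αV.symm (ofSpMap t)
  let M : ofSp X ⥤ᵇ FibCat.fp (ofSpMap t) (FibCat.fpFst w f) := BasedFunctor.comp L Ψ
  have hM : FibCat.IsEquivOver M := isEquivOver_comp hL hΨ
  have hMΦ : BasedFunctor.comp M (FibCat.fpFst (ofSpMap t) (FibCat.fpFst w f)) = ofSpMap fst := by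
    have hΨ1' : BasedFunctor.comp Ψ (FibCat.fpFst (ofSpMap t) (FibCat.fpFst w f)) =
        FibCat.fpFst (ofSpMap t) (ofSpMap a) := hΨ1
    show BasedFunctor.comp L (BasedFunctor.comp Ψ (FibCat.fpFst (ofSpMap t) (FibCat.fpFst w f))) = _
    rw [hΨ1']
    rfl
  -- the pasting equivalences
  let pA : FibCat.fp (BasedFunctor.comp (ofSpMap t) w) f ⥤ᵇ
      FibCat.fp (ofSpMap t) (FibCat.fpFst w f) := fpPaste f w (ofSpMap t)
  have hpA : FibCat.IsEquivOver pA := isEquivOver_fpPaste f w (ofSpMap t)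
  obtain ⟨dA⟩ := IsEquivOver.nonempty_data hpA
  have : (BasedFunctor.id 𝒴).toFunctor.Full := (inferInstance : (𝟭 𝒴.obj).Full)
  have : (BasedFunctor.id 𝒴).toFunctor.Faithful := (inferInstance : (𝟭 𝒴.obj).Faithful)
  let ι : FibCat.fp (BasedFunctor.comp (ofSpMap t) w) f ⥤ᵇ FibCat.fp (BasedFunctor.comp ζ z) f :=
    fpMap (BasedFunctor.comp ζ z) f (BasedFunctor.comp (ofSpMap t) w) f (BasedFunctor.id _)
      (BasedFunctor.id _) (BasedFunctor.id _) θ (Iso.refl _)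
  have hι : FibCat.IsEquivOver ι :=
    isEquivOver_fpMap (BasedFunctor.comp ζ z) f (BasedFunctor.comp (ofSpMap t) w) f
      (BasedFunctor.id _) (BasedFunctor.id _) (BasedFunctor.id _) θ (Iso.refl _)
      (isEquivOver_id _) (isEquivOver_id _)
  let pD : FibCat.fp (BasedFunctor.comp ζ z) f ⥤ᵇ FibCat.fp ζ (FibCat.fpFst z f) := fpPaste f z ζ
  have hpD : FibCat.IsEquivOver pD := isEquivOver_fpPaste f z ζ
  let e₁ : ofSp X ⥤ᵇ FibCat.fp ζ (FibCat.fpFst z f) :=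
    BasedFunctor.comp M (BasedFunctor.comp dA.inv (BasedFunctor.comp ι pD))
  have he₁ : FibCat.IsEquivOver e₁ :=
    isEquivOver_comp hM (isEquivOver_comp (isEquivOver_inv dA) (isEquivOver_comp hι hpD))
  refine ⟨e₁, he₁, ?_⟩
  have h1 : BasedFunctor.comp e₁ (FibCat.fpFst ζ (FibCat.fpFst z f)) =
      BasedFunctor.comp M (BasedFunctor.comp (BasedFunctor.comp dA.inv pA)
        (FibCat.fpFst (ofSpMap t) (FibCat.fpFst w f))) := rfl
  have i2 : BasedFunctor.comp M (BasedFunctor.comp (BasedFunctor.comp dA.inv pA)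
        (FibCat.fpFst (ofSpMap t) (FibCat.fpFst w f))) ≅
      BasedFunctor.comp M (BasedFunctor.comp (BasedFunctor.id _)
        (FibCat.fpFst (ofSpMap t) (FibCat.fpFst w f))) :=
    bwlIso M (bwrIso dA.counit (FibCat.fpFst (ofSpMap t) (FibCat.fpFst w f)))
  have h3 : BasedFunctor.comp M (BasedFunctor.comp (BasedFunctor.id _)
        (FibCat.fpFst (ofSpMap t) (FibCat.fpFst w f))) = ofSpMap fst := hMΦ
  exact ⟨eqToIso h1 ≪≫ i2 ≪≫ eqToIso h3⟩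

/-- a presentation of the base change of a morphism representable by algebraic spaces to an
algebraic space (no property) -/
theorem exists_presentation {𝒳 𝒴 : AlgSt.Cat S} (h𝒳 : FibCat.IsFibGrpd 𝒳.p)
    (h𝒴 : FibCat.IsFibGrpd 𝒴.p) (f : 𝒳 ⥤ᵇ 𝒴) (hf : RepByAlgSp1 f) (Z : AlgSp.Space S)
    (z : ofSp Z.obj ⥤ᵇ 𝒴) :
    ∃ (V : AlgSp.Space S) (a : V ⟶ Z) (e : ofSp V.obj ⥤ᵇ FibCat.fp z f),
      FibCat.IsEquivOver e ∧ Nonempty (BasedFunctor.comp e (FibCat.fpFst z f) ≅ ofSpMap a.hom) := by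
  obtain ⟨V, a, e, he, hα, -⟩ := hasP_of_repByAlgSpWith h𝒳 h𝒴 stableBC_top
    (isLocalOnBase_top _) f ((repByAlgSp1_iff_top f).1 hf) Z z
  exact ⟨V, a, e, he, hα⟩

/-- descent of a property along one covering morphism of algebraic spaces with a lift -/
theorem prop_of_cover_lift {P : MorphismProperty (AlgSp.Sp S)} {𝒳 𝒴 𝒵 : AlgSt.Cat S}
    (h𝒳 : FibCat.IsFibGrpd 𝒳.p) (h𝒴 : FibCat.IsFibGrpd 𝒴.p) (h𝒵 : FibCat.IsFibGrpd 𝒵.p)
    (hPb : StableBC P) (hP : AlgSp.IsLocalOnBase AlgSp.IsFppfCover P)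
    (f : 𝒳 ⥤ᵇ 𝒴) (z : 𝒵 ⥤ᵇ 𝒴) (h' : RepByAlgSpWith P (FibCat.fpFst z f))
    (Z₀ : AlgSp.Space S) (w : ofSp Z₀.obj ⥤ᵇ 𝒴)
    {ι : Type u} (T : ι → AlgSp.Space S) (t : ∀ i, T i ⟶ Z₀)
    (hcov : AlgSp.IsFppfCover (fun i => (T i).obj) (fun i => (t i).hom))
    (ζ : ∀ i, ofSp (T i).obj ⥤ᵇ 𝒵)
    (θ : ∀ i, BasedFunctor.comp (ofSpMap (t i).hom) w ≅ BasedFunctor.comp (ζ i) z)
    (V : AlgSp.Space S) (a : V ⟶ Z₀) (eV : ofSp V.obj ⥤ᵇ FibCat.fp w f)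
    (heV : FibCat.IsEquivOver eV)
    (αV : BasedFunctor.comp eV (FibCat.fpFst w f) ≅ ofSpMap a.hom) : P a.hom := by
  have hX : ∀ i, AlgSp.IsAlgSpace (pullback (t i).hom a.hom) := fun i =>
    Groth.Agent.H49.isAlgSpace_of_isPullback (IsPullback.of_hasPullback (t i).hom a.hom)
      Z₀.property.diag (T i).property V.property
  have key := hP (fun i => (T i).obj) (fun i => (t i).hom) Z₀.property (fun i => (T i).property)
    hcov a.hom V.property (fun i => pullback (t i).hom a.hom)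
    (fun i => pullback.fst (t i).hom a.hom) (fun i => pullback.snd (t i).hom a.hom) hX
    (fun i => (IsPullback.of_hasPullback (t i).hom a.hom).flip)
  rw [key]
  intro i
  obtain ⟨e₁, he₁, ⟨α₁⟩⟩ := exists_presentation_pullback f z w (t i).hom (ζ i) (θ i) a.hom eV heV αV
    (pullback.fst (t i).hom a.hom) (pullback.snd (t i).hom a.hom)
    (IsPullback.of_hasPullback (t i).hom a.hom)
  have hfp : FibCat.IsFibGrpd (FibCat.fp z f).p := isFibGrpd_fp _ _ h𝒵 h𝒳 h𝒴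
  exact prop_of_presentation hfp h𝒵 hPb hP (FibCat.fpFst z f) h' (T i) (ζ i)
    ⟨pullback (t i).hom a.hom, hX i⟩ (ObjectProperty.homMk (pullback.fst (t i).hom a.hom))
    e₁ he₁ α₁

/-- descent of a property along a base change by a representable fppf covering -/
theorem repByAlgSpWith_of_fpFst_fppf {P : MorphismProperty (AlgSp.Sp S)} {𝒳 𝒴 𝒵 : AlgSt.Cat S}
    (h𝒳 : FibCat.IsFibGrpd 𝒳.p) (h𝒴 : FibCat.IsFibGrpd 𝒴.p) (h𝒵 : FibCat.IsFibGrpd 𝒵.p)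
    (hPb : StableBC P) (hP : AlgSp.IsLocalOnBase AlgSp.IsFppfCover P)
    (f : 𝒳 ⥤ᵇ 𝒴) (hf : RepByAlgSp1 f) (z : 𝒵 ⥤ᵇ 𝒴)
    (hz₁ : RepByAlgSpWith (AlgSp.LocP @Flat) z)
    (hz₂ : RepByAlgSpWith (AlgSp.LocP @LocallyOfFinitePresentation) z)
    (hz₃ : RepByAlgSpWith AlgSp.IsSurjectiveMor z)
    (h' : RepByAlgSpWith P (FibCat.fpFst z f)) : RepByAlgSpWith P f := by
  apply repByAlgSpWith_of_hasP f
  intro U w
  obtain ⟨V, a, eV, heV, ⟨αV⟩⟩ := exists_presentation h𝒳 h𝒴 f hf (yonSpace U) w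
  refine ⟨V, a, eV, heV, ⟨αV⟩, ?_⟩
  obtain ⟨T, t, eT, heT, ⟨αT⟩, hflat⟩ := hasP_of_repByAlgSpWith h𝒵 h𝒴
    (stableBC_locP Groth.Agent.H50.goodClass_flat) isLocalOnBase_fppf_flat z hz₁ (yonSpace U) w
  have hlfp := prop_of_presentation h𝒵 h𝒴 (stableBC_locP Groth.Agent.H50.goodClass_lfp)
    isLocalOnBase_fppf_lfp z hz₂ (yonSpace U) w T t eT heT αT
  have hsurj := prop_of_presentation h𝒵 h𝒴 stableBC_surj isLocalOnBase_fppf_surj z hz₃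
    (yonSpace U) w T t eT heT αT
  have θ : BasedFunctor.comp (ofSpMap t.hom) w ≅
      BasedFunctor.comp (BasedFunctor.comp eT (FibCat.fpSnd w z)) z :=
    bwrIso αT.symm w ≪≫ bwlIso eT (FibCat.fpIso w z)
  exact prop_of_cover_lift h𝒳 h𝒴 h𝒵 hPb hP f z h' (yonSpace U) w (fun _ : PUnit.{u+1} => T)
    (fun _ => t) ⟨fun _ => ⟨hflat, hlfp⟩, fun x => ⟨PUnit.unit, hsurj x⟩⟩
    (fun _ => BasedFunctor.comp eT (FibCat.fpSnd w z)) (fun _ => θ) V a eV heV αV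

end Groth.Agent.H64.PTh
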