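import Groth.Agent.H64.Psh.DiagSpace
import Groth.Agent.H64.Psh.LocalLift
import Groth.Agent.H64.Fib.DiagLift
import Groth.Agent.H64.Psh.ProdAlg

set_option autoImplicit false
open CategoryTheory CategoryTheory.Limits Opposite AlgebraicGeometry
universe u

/-! The diagonal of a morphism representable by algebraic spaces has every base-change-stable
property that diagonals of morphisms of algebraic spaces to schemes have. -/

namespace Groth.Agent.H64.PTh

open Groth.Agent.H32 Groth.Agent.H64.Recog Groth.Agent.H64.FpRep AlgSt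

variable {S : Scheme.{u}}

theorem repByAlgSpWith_diag_of_repByAlgSp1 (P : MorphismProperty (AlgSp.Sp S)) (hPb : StableBC P)
    (hP : ∀ (V : AlgSp.Space S) (T : Over S) (b : V.obj ⟶ (AlgSp.yon S).obj T),
      P (pullback.diagonal b))
    {𝒳 𝒴 : AlgSt.Cat S} (h𝒳 : FibCat.IsFibGrpd 𝒳.p) (h𝒴 : FibCat.IsFibGrpd 𝒴.p)
    (f : 𝒳 ⥤ᵇ 𝒴) (hf : RepByAlgSp1 f) : RepByAlgSpWith P (FibCat.diag f) := by
  apply repByAlgSpWith_of_lifts
  intro T y
  have hT : FibCat.IsFibGrpd (FibCat.overCat T).p := (isFibSetoid_overCat T).1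
  obtain ⟨V, eV, heV⟩ := hf T (dlW f y)
  have h1 : RepByAlgSpWith P (FibCat.diag (FibCat.fpFst (dlW f y) f)) :=
    repByAlgSpWith_diag_of_space P hPb (FibCat.fpFst (dlW f y) f) V eV heV (hP V T)
  refine ⟨_, diagBCq f (dlW f y), dlLift f y, ⟨dlIso f y⟩, ?_⟩
  exact repByAlgSpWith_of_square' P (FibCat.fpFst (diagBCq f (dlW f y)) (FibCat.diag f))
    (FibCat.diag (FibCat.fpFst (dlW f y) f)) (diagBCΛ f (dlW f y)) (BasedFunctor.id _)
    (isEquivOver_diagBCΛ f (dlW f y) h𝒳 h𝒴 hT) (isEquivOver_id _) (Iso.refl _) h1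

end Groth.Agent.H64.PTh
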