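import Groth.Agent.H64.Psh.DiagComp
import Groth.Agent.H64.Psh.DiagRepMor
import Groth.Agent.H64.Stk.FpFstThin

set_option autoImplicit false
open CategoryTheory CategoryTheory.Limits Opposite AlgebraicGeometry
universe u

/-! If the diagonal of `f ≫ g` has `P`, so does the diagonal of `f`; the diagonal of a morphism of
algebraic stacks is representable by algebraic spaces. -/

namespace Groth.Agent.H64.PTh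

open Groth.Agent.H32 Groth.Agent.H64.Recog Groth.Agent.H64.FpRep AlgSt Groth.Agent.H65.AlgStCmp

variable {S : Scheme.{u}}

theorem repByAlgSpWith_diag_of_comp (P : MorphismProperty (AlgSp.Sp S)) (hPb : StableBC P)
    (hPc : ∀ ⦃X Y Z : AlgSp.Sp S⦄, AlgSp.IsAlgSpace X → AlgSp.IsAlgSpace Y → AlgSp.IsAlgSpace Z →
      ∀ (a : X ⟶ Y) (b : Y ⟶ Z), P a → P b → P (a ≫ b))
    (hP : AlgSp.IsLocalOnBase AlgSp.IsFppfCover P)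
    (hPd : ∀ (V : AlgSp.Space S) (T : Over S) (b : V.obj ⟶ (AlgSp.yon S).obj T),
      P (pullback.diagonal b))
    {𝒳 𝒴 𝒵 : AlgSt.Cat S} (h𝒳 : FibCat.IsFibGrpd 𝒳.p) (h𝒴 : FibCat.IsFibGrpd 𝒴.p)
    (h𝒵 : FibCat.IsFibGrpd 𝒵.p) (f : 𝒳 ⥤ᵇ 𝒴) (g : 𝒴 ⥤ᵇ 𝒵)
    (hg : RepByAlgSp1 (FibCat.diag g))
    (h : RepByAlgSpWith P (FibCat.diag (BasedFunctor.comp f g))) :
    RepByAlgSpWith P (FibCat.diag f) := by
  have hfp1 : FibCat.IsFibGrpd (FibCat.fp f f).p := isFibGrpd_fp _ _ h𝒳 h𝒳 h𝒴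
  have hfp2 : FibCat.IsFibGrpd (FibCat.fp (BasedFunctor.comp f g) (BasedFunctor.comp f g)).p :=
    isFibGrpd_fp _ _ h𝒳 h𝒳 h𝒵
  have hcmp1 : RepByAlgSp1 (cmp f f g) :=
    (repByAlgSp1_iff_top _).2
      (repByAlgSpWith_cmp ⊤ h𝒳 h𝒳 h𝒴 h𝒵 f f g ((repByAlgSp1_iff_top _).1 hg))
  have hd : RepByAlgSpWith P (FibCat.diag (cmp f f g)) :=
    repByAlgSpWith_diag_of_repByAlgSp1 P hPb hPd hfp1 hfp2 (cmp f f g) hcmp1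
  have h' : RepByAlgSpWith P (BasedFunctor.comp (FibCat.diag f) (cmp f f g)) :=
    repByAlgSpWith_of_iso (diagCompIso f g) h
  exact repByAlgSpWith_cancel h𝒳 hfp1 hfp2 hPb hPc hP (FibCat.diag f) (cmp f f g) h' hd

theorem repByAlgSp1_diag_of_comp {𝒳 𝒴 𝒵 : AlgSt.Cat S} (h𝒳 : FibCat.IsFibGrpd 𝒳.p)
    (h𝒴 : FibCat.IsFibGrpd 𝒴.p) (h𝒵 : FibCat.IsFibGrpd 𝒵.p) (f : 𝒳 ⥤ᵇ 𝒴) (g : 𝒴 ⥤ᵇ 𝒵)
    (hg : RepByAlgSp1 (FibCat.diag g))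
    (h : RepByAlgSp1 (FibCat.diag (BasedFunctor.comp f g))) : RepByAlgSp1 (FibCat.diag f) :=
  (repByAlgSp1_iff_top _).2
    (repByAlgSpWith_diag_of_comp ⊤ stableBC_top (fun _ _ _ _ _ _ _ _ _ _ => trivial)
      (isLocalOnBase_top _) (fun _ _ _ => trivial) h𝒳 h𝒴 h𝒵 f g hg ((repByAlgSp1_iff_top _).1 h))

theorem basedFunctor_ext {C : Type*} [Category C] {𝒜 ℬ : BasedCategory C} {F G : 𝒜 ⥤ᵇ ℬ}
    (h : F.toFunctor = G.toFunctor) : F = G := by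
  cases F; cases G; cases h; rfl

theorem toSelf_eq_comp {𝒳 𝒴 : AlgSt.Cat S} (f : 𝒳 ⥤ᵇ 𝒴) :
    FibCat.toSelf 𝒳 = BasedFunctor.comp f (FibCat.toSelf 𝒴) :=
  basedFunctor_ext f.w.symm

/-- the diagonal of a morphism of algebraic stacks is representable by algebraic spaces -/
theorem repByAlgSp1_diag {𝒳 𝒴 : AlgSt.Cat S} (h𝒳 : FibCat.IsFibGrpd 𝒳.p)
    (h𝒴 : FibCat.IsFibGrpd 𝒴.p) (hΔ𝒳 : RepByAlgSp1 (FibCat.diag (FibCat.toSelf 𝒳)))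
    (hΔ𝒴 : RepByAlgSp1 (FibCat.diag (FibCat.toSelf 𝒴))) (f : 𝒳 ⥤ᵇ 𝒴) :
    RepByAlgSp1 (FibCat.diag f) := by
  rw [toSelf_eq_comp f] at hΔ𝒳
  exact repByAlgSp1_diag_of_comp h𝒳 h𝒴 (isFibGrpd_selfOver _) f (FibCat.toSelf 𝒴) hΔ𝒴 hΔ𝒳

end Groth.Agent.H64.PTh
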