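import Groth.Agent.H64.Psh.PKey
import Groth.Agent.H64.Stk.FpPaste2

set_option autoImplicit false
open CategoryTheory CategoryTheory.Limits Opposite AlgebraicGeometry
universe v₃ u₃ v₂ u₂ u

/-! Composition of morphisms representable by algebraic spaces with a property. -/

namespace Groth.Agent.H64.PTh

open Groth.Agent.H32 Groth.Agent.H64.Recog Groth.Agent.H64.FpRep AlgSt

variable {S : Scheme.{u}} {P : MorphismProperty (AlgSp.Sp S)}

/-- the section map of a functor precomposed with the functor of a map of sheaves -/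
theorem spMapOfOver_ofSpMap_comp {F G : AlgSp.Sp S} {U : Over S} (a : F ⟶ G)
    (Φ : ofSp G ⥤ᵇ FibCat.overCat U) :
    spMapOfOver (BasedFunctor.comp (ofSpMap a) Φ) = a ≫ spMapOfOver Φ := by
  apply ObjectProperty.hom_ext
  ext T x
  obtain ⟨T⟩ := T
  rfl

/-- transport of the section map along an equivalence of the source -/
theorem exists_equiv_spMapOfOver_eq {V : AlgSp.Sp S} {U : Over S}
    {𝒲 : BasedCategory.{v₂, u₂} (Over S)} {𝒲' : BasedCategory.{v₃, u₃} (Over S)}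
    (T : 𝒲 ⥤ᵇ 𝒲') (hT : FibCat.IsEquivOver T) (Φ' : 𝒲' ⥤ᵇ FibCat.overCat U)
    (E : ofSp V ⥤ᵇ 𝒲') (hE : FibCat.IsEquivOver E) :
    ∃ e' : ofSp V ⥤ᵇ 𝒲, FibCat.IsEquivOver e' ∧
      spMapOfOver (BasedFunctor.comp e' (BasedFunctor.comp T Φ')) =
        spMapOfOver (BasedFunctor.comp E Φ') := by
  obtain ⟨d⟩ := IsEquivOver.nonempty_data hT
  refine ⟨BasedFunctor.comp E d.inv, isEquivOver_comp hE (isEquivOver_inv d), ?_⟩
  exact spMapOfOver_eq_of_hom
    (BasedCategory.whiskerLeft E (BasedCategory.whiskerRight d.counit.hom Φ'))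

theorem repByAlgSpWith_comp {𝒳 𝒴 𝒵 : AlgSt.Cat S}
    (h𝒳 : FibCat.IsFibGrpd 𝒳.p) (h𝒴 : FibCat.IsFibGrpd 𝒴.p)
    (hPb : StableBC P)
    (hPc : ∀ ⦃X Y Z : AlgSp.Sp S⦄, AlgSp.IsAlgSpace X → AlgSp.IsAlgSpace Y → AlgSp.IsAlgSpace Z →
      ∀ (a : X ⟶ Y) (b : Y ⟶ Z), P a → P b → P (a ≫ b))
    (hP : AlgSp.IsLocalOnBase AlgSp.IsFppfCover P)
    (f : 𝒳 ⥤ᵇ 𝒴) (g : 𝒴 ⥤ᵇ 𝒵) (hf : RepByAlgSpWith P f) (hg : RepByAlgSpWith P g) :
    RepByAlgSpWith P (BasedFunctor.comp f g) := by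
  intro U z
  obtain ⟨G₀, eg, heg, hPb₀⟩ := hg U z
  obtain ⟨V, a, e, he, ⟨α⟩, hPa⟩ := hasP_of_repByAlgSpWith h𝒳 h𝒴 hPb hP f hf G₀
    (BasedFunctor.comp eg (FibCat.fpSnd z g))
  obtain ⟨Ψ, hΨ, hΨ1⟩ := isEquivOver_fpMap_left f (FibCat.fpSnd z g) eg heg
  obtain ⟨e', he', h1⟩ := exists_equiv_spMapOfOver_eq (fpPaste₂ f g z) (isEquivOver_fpPaste₂ f g z)
    (BasedFunctor.comp (FibCat.fpFst (FibCat.fpSnd z g) f) (FibCat.fpFst z g))
    (BasedFunctor.comp e Ψ) (isEquivOver_comp he hΨ)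
  refine ⟨V, e', he', ?_⟩
  have h0 : BasedFunctor.comp e' (FibCat.fpFst z (BasedFunctor.comp f g)) =
      BasedFunctor.comp e' (BasedFunctor.comp (fpPaste₂ f g z)
        (BasedFunctor.comp (FibCat.fpFst (FibCat.fpSnd z g) f) (FibCat.fpFst z g))) := rfl
  have h2 : BasedFunctor.comp (BasedFunctor.comp e Ψ)
      (BasedFunctor.comp (FibCat.fpFst (FibCat.fpSnd z g) f) (FibCat.fpFst z g)) =
      BasedFunctor.comp (BasedFunctor.comp e
        (FibCat.fpFst (BasedFunctor.comp eg (FibCat.fpSnd z g)) f))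
        (BasedFunctor.comp eg (FibCat.fpFst z g)) :=
    congrArg (fun t => BasedFunctor.comp e (BasedFunctor.comp t (FibCat.fpFst z g))) hΨ1
  have h3 : spMapOfOver (F := V.obj) (U := U) (BasedFunctor.comp (BasedFunctor.comp e
        (FibCat.fpFst (BasedFunctor.comp eg (FibCat.fpSnd z g)) f))
        (BasedFunctor.comp eg (FibCat.fpFst z g))) =
      spMapOfOver (F := V.obj) (U := U) (BasedFunctor.comp (ofSpMap a.hom)
        (BasedFunctor.comp eg (FibCat.fpFst z g))) :=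
    spMapOfOver_eq_of_hom (BasedCategory.whiskerRight α.hom
      (BasedFunctor.comp eg (FibCat.fpFst z g)))
  have h4 : spMapOfOver (F := V.obj) (U := U)
      (BasedFunctor.comp e' (FibCat.fpFst z (BasedFunctor.comp f g))) =
      a.hom ≫ spMapOfOver (BasedFunctor.comp eg (FibCat.fpFst z g)) :=
    (congrArg (spMapOfOver (F := V.obj) (U := U)) h0).trans
      (h1.trans ((congrArg (spMapOfOver (F := V.obj) (U := U)) h2).trans
        (h3.trans (spMapOfOver_ofSpMap_comp a.hom _))))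
  rw [h4]
  exact hPc V.property G₀.property (AlgSp.IsAlgSpace.yon_obj U) _ _ hPa hPb₀

end Groth.Agent.H64.PTh
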