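import Groth.Agent.H64.Psh.DiagRepMor2
import Groth.Agent.H64.Psh.PProps
import Groth.Agent.H50.Perm
import Groth.Agent.H50.LocPClass
import Groth.Agent.H51.SpEtale

set_option autoImplicit false
set_option backward.isDefEq.respectTransparency false
open CategoryTheory CategoryTheory.Limits Opposite AlgebraicGeometry
universe u

/-! A morphism representable by algebraic spaces is DM. -/

namespace Groth.Agent.H64.PTh

open Groth.Agent.H32 Groth.Agent.H64.Recog Groth.Agent.H64.FpRep AlgSt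

variable {S : Scheme.{u}}

/-- the diagonal of a morphism from an algebraic space is unramified -/
theorem locP_unram_diagonal {Y X : AlgSp.Sp S} (hY : AlgSp.IsAlgSpace Y) (b : Y ⟶ X) :
    AlgSp.LocP (@LocallyOfFiniteType ⊓ @FormallyUnramified) (pullback.diagonal b) := by
  obtain ⟨hrep, h1, -, -, h2⟩ := Groth.Agent.H50.repWith_diagonal_of_isAlgSpace hY b
  have hG := Groth.Agent.H50.goodClass_unram.{u}
  have := hG.comp
  refine Groth.Agent.H50.locP_of_repWith _ hG.etale_le _ ⟨hrep, fun U V g fst snd sq => ?_⟩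
  have hl : LocallyOfFiniteType snd.left := h1.property g fst snd sq
  have hm : Mono snd.left := h2.property g fst snd sq
  exact ⟨hl, Groth.Agent.H51.formallyUnramified_of_mono snd.left⟩

theorem isDMMor_of_repByAlgSp1 {𝒳 𝒴 : AlgSt.Cat S} (h𝒳 : FibCat.IsFibGrpd 𝒳.p)
    (h𝒴 : FibCat.IsFibGrpd 𝒴.p) (f : 𝒳 ⥤ᵇ 𝒴) (hf : RepByAlgSp1 f) : AlgSt.IsDMMor f :=
  repByAlgSpWith_diag_of_repByAlgSp1
    (AlgSp.LocP (S := S) (@LocallyOfFiniteType ⊓ @FormallyUnramified))
    (stableBC_locP Groth.Agent.H50.goodClass_unram)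
    (fun (V : AlgSp.Space S) (T : Over S) (b : V.obj ⟶ (AlgSp.yon S).obj T) =>
      locP_unram_diagonal V.property b) h𝒳 h𝒴 f hf

end Groth.Agent.H64.PTh
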