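import Groth.Agent.H64.Psh.SepTFAE
import Groth.Agent.H64.Psh.DiagDM
import Groth.Agent.H53.ThickDiag
import Groth.Agent.S10519

set_option autoImplicit false
set_option backward.isDefEq.respectTransparency false
open CategoryTheory CategoryTheory.Limits Opposite AlgebraicGeometry
universe u

/-! Quasi-separatedness of a morphism representable by algebraic spaces in terms of its
diagonal. -/

namespace Groth.Agent.H64.PTh

open Groth.Agent.H32 Groth.Agent.H64.Recog Groth.Agent.H64.FpRep AlgSt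

variable {S : Scheme.{u}}

instance isQuasiCompactMor_isStableUnderBaseChange :
    (AlgSp.IsQuasiCompactMor (S := S)).IsStableUnderBaseChange :=
  ⟨fun sq h => Groth.Agent.H49.isQuasiCompactMor_of_isPullback sq h⟩

theorem isLocalOnBase_fppf_quasiCompact :
    AlgSp.IsLocalOnBase (AlgSp.IsFppfCover (S := S)) AlgSp.IsQuasiCompactMor :=
  isLocalOnBase_fppf_of_fpqc (Groth.Agent.S10519.result S)

theorem stableBC_isFiniteTypeMor : StableBC (AlgSp.IsFiniteTypeMor (S := S)) :=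
  fun _ _ _ _ h1 h2 h3 h4 a b a' b' sq ha =>
    ⟨stableBC_locP Groth.Agent.H50.goodClass_lft h1 h2 h3 h4 a b a' b' sq ha.1,
      Groth.Agent.H49.isQuasiCompactMor_of_isPullback sq ha.2⟩

/-- the diagonal of a morphism from an algebraic space is locally of finite type -/
theorem locP_lft_diagonal {Y X : AlgSp.Sp S} (hY : AlgSp.IsAlgSpace Y) (b : Y ⟶ X) :
    AlgSp.LocP @LocallyOfFiniteType (pullback.diagonal b) := by
  obtain ⟨-, h1, -, -, -⟩ := Groth.Agent.H50.repWith_diagonal_of_isAlgSpace hY b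
  have hG := Groth.Agent.H50.goodClass_lft.{u}
  have := hG.comp
  exact Groth.Agent.H50.locP_of_repWith _ hG.etale_le _ h1

theorem quasiSeparated_tfae {𝒳 𝒴 : AlgSt.Cat S} (h𝒳 : FibCat.IsFibGrpd 𝒳.p)
    (h𝒴 : FibCat.IsFibGrpd 𝒴.p) (f : 𝒳 ⥤ᵇ 𝒴) (hf : RepByAlgSp1 f) :
    [AlgSt.RepByAlgSpWith AlgSp.IsQuasiSeparatedMor f,
      AlgSt.RepByAlgSpWith AlgSp.IsQuasiCompactMor (FibCat.diag f),
      AlgSt.RepByAlgSpWith AlgSp.IsFiniteTypeMor (FibCat.diag f)].TFAE := by
  tfae_have 1 → 3 := fun h => by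
    have h1 : RepByAlgSpWith (AlgSp.IsFiniteTypeMor (S := S)).diagonal f :=
      repByAlgSpWith_mono_space (fun F U a ha =>
        ⟨locP_lft_diagonal F.property a.hom,
          (Groth.Agent.H53.isQuasiSeparatedMor_iff_isQuasiCompactMor_diagonal F.property a.hom).1 ha⟩)
        _ h
    exact repByAlgSpWith_diag_of_diagonal _ stableBC_isFiniteTypeMor h𝒳 h𝒴 f h1
  tfae_have 3 → 2 := fun h =>
    repByAlgSpWith_mono_space (fun F U a ha => ha.2) _ h
  tfae_have 2 → 1 := fun h => by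
    have h1 : RepByAlgSpWith (AlgSp.IsQuasiCompactMor (S := S)).diagonal f :=
      repByAlgSpWith_diagonal_of_diag isLocalOnBase_fppf_quasiCompact h𝒳 h𝒴 f hf h
    exact repByAlgSpWith_mono_space (fun F U a ha =>
      (Groth.Agent.H53.isQuasiSeparatedMor_iff_isQuasiCompactMor_diagonal F.property a.hom).2 ha)
      _ h1
  tfae_finish

theorem isQuasiSeparatedMor_of_mono {X Y : AlgSp.Sp S} (g : X ⟶ Y) [Mono g] :
    AlgSp.IsQuasiSeparatedMor g := by
  have : IsIso (pullback.diagonal g) := (pullback.isIso_diagonal_iff g).2 inferInstance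
  exact MorphismProperty.of_isIso (AlgSp.RepWith @QuasiCompact) _

theorem stableBC_isQuasiSeparatedMor : StableBC (AlgSp.IsQuasiSeparatedMor (S := S)) :=
  stableBC_of_inst ((AlgSp.RepWith @QuasiCompact).diagonal)

theorem stableBC_qc_inf_qsep :
    StableBC (AlgSp.IsQuasiCompactMor (S := S) ⊓ AlgSp.IsQuasiSeparatedMor) :=
  fun _ _ _ _ h1 h2 h3 h4 a b a' b' sq ha =>
    ⟨Groth.Agent.H49.isQuasiCompactMor_of_isPullback sq ha.1,
      stableBC_isQuasiSeparatedMor h1 h2 h3 h4 a b a' b' sq ha.2⟩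

theorem isQuasiSeparatedMor_iff {𝒳 𝒴 : AlgSt.Cat S} (h𝒳 : FibCat.IsFibGrpd 𝒳.p)
    (h𝒴 : FibCat.IsFibGrpd 𝒴.p) (f : 𝒳 ⥤ᵇ 𝒴) (hf : RepByAlgSp1 f) :
    AlgSt.IsQuasiSeparatedMor f ↔ AlgSt.RepByAlgSpWith AlgSp.IsQuasiSeparatedMor f := by
  have T := quasiSeparated_tfae h𝒳 h𝒴 f hf
  constructor
  · intro h
    have h2 : RepByAlgSpWith AlgSp.IsQuasiCompactMor (FibCat.diag f) :=
      repByAlgSpWith_mono_space (fun F U a ha => ha.1) _ h
    exact (T.out 1 0).1 h2
  · intro h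
    have h1 : RepByAlgSpWith
        (AlgSp.IsQuasiCompactMor (S := S) ⊓ AlgSp.IsQuasiSeparatedMor).diagonal f :=
      repByAlgSpWith_mono_space (fun F U a ha =>
        ⟨(Groth.Agent.H53.isQuasiSeparatedMor_iff_isQuasiCompactMor_diagonal F.property a.hom).1 ha,
          isQuasiSeparatedMor_of_mono (pullback.diagonal a.hom)⟩) _ h
    exact repByAlgSpWith_diag_of_diagonal _ stableBC_qc_inf_qsep h𝒳 h𝒴 f h1

end Groth.Agent.H64.PTh
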