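import Groth.Agent.H64.Psh.DiagOfComp
import Groth.Agent.H64.Psh.QSepTFAE
import Groth.Agent.H64.Psh.ProdAlg
import Groth.Agent.S10526

set_option autoImplicit false
set_option backward.isDefEq.respectTransparency false
open CategoryTheory CategoryTheory.Limits Opposite AlgebraicGeometry
universe u

/-! The diagonal of an algebraic stack, and of a morphism of algebraic stacks, is locally of finite
type. -/

namespace Groth.Agent.H64.PTh

open Groth.Agent.H32 Groth.Agent.H64.Recog Groth.Agent.H64.FpRep AlgSt Groth.Agent.H65.AlgStCmp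

variable {S : Scheme.{u}}

theorem diag_toSelf_of_atlas_aux (P : MorphismProperty (AlgSp.Sp S)) (hPb : StableBC P)
    (hPc : ∀ ⦃X Y Z : AlgSp.Sp S⦄, AlgSp.IsAlgSpace X → AlgSp.IsAlgSpace Y → AlgSp.IsAlgSpace Z →
      ∀ (a : X ⟶ Y) (b : Y ⟶ Z), P a → P b → P (a ≫ b))
    (hP : AlgSp.IsLocalOnBase AlgSp.IsFppfCover P)
    (hPd : ∀ (V : AlgSp.Space S) (T : Over S) (b : V.obj ⟶ (AlgSp.yon S).obj T),
      P (pullback.diagonal b))
    {𝒳 𝒰 : AlgSt.Cat S} (h𝒳 : FibCat.IsFibGrpd 𝒳.p) (h𝒰 : FibCat.IsFibGrpd 𝒰.p)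
    (hΔ : RepByAlgSp1 (FibCat.diag (FibCat.toSelf 𝒳)))
    (x : 𝒰 ⥤ᵇ 𝒳) (hxP : RepByAlgSpWith P x)
    (s : 𝒰 ⥤ᵇ FibCat.selfOver (Over S)) (hs : s = BasedFunctor.comp x (FibCat.toSelf 𝒳))
    (hv : RepByAlgSp1 (FibCat.fpFst s s))
    (e : BasedFunctor.comp (BasedFunctor.comp (FibCat.fpFst s s) x) (FibCat.toSelf 𝒳) ≅
      BasedFunctor.comp (BasedFunctor.comp (FibCat.fpSnd s s) x) (FibCat.toSelf 𝒳))
    (hz₁ : RepByAlgSpWith (AlgSp.LocP @Flat)
      (FibCat.fpLift (F := FibCat.toSelf 𝒳) (G := FibCat.toSelf 𝒳)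
        (BasedFunctor.comp (FibCat.fpFst s s) x) (BasedFunctor.comp (FibCat.fpSnd s s) x) e))
    (hz₂ : RepByAlgSpWith (AlgSp.LocP @LocallyOfFinitePresentation)
      (FibCat.fpLift (F := FibCat.toSelf 𝒳) (G := FibCat.toSelf 𝒳)
        (BasedFunctor.comp (FibCat.fpFst s s) x) (BasedFunctor.comp (FibCat.fpSnd s s) x) e))
    (hz₃ : RepByAlgSpWith AlgSp.IsSurjectiveMor
      (FibCat.fpLift (F := FibCat.toSelf 𝒳) (G := FibCat.toSelf 𝒳)
        (BasedFunctor.comp (FibCat.fpFst s s) x) (BasedFunctor.comp (FibCat.fpSnd s s) x) e)) :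
    RepByAlgSpWith P (FibCat.diag (FibCat.toSelf 𝒳)) := by
  subst hs
  have hself : FibCat.IsFibGrpd (FibCat.selfOver (Over S)).p := isFibGrpd_selfOver _
  have hxx : FibCat.IsFibGrpd (FibCat.fp x x).p := isFibGrpd_fp _ _ h𝒰 h𝒰 h𝒳
  have hss : FibCat.IsFibGrpd (FibCat.fp (BasedFunctor.comp x (FibCat.toSelf 𝒳))
      (BasedFunctor.comp x (FibCat.toSelf 𝒳))).p := isFibGrpd_fp _ _ h𝒰 h𝒰 hself
  have htt : FibCat.IsFibGrpd (FibCat.fp (FibCat.toSelf 𝒳) (FibCat.toSelf 𝒳)).p :=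
    isFibGrpd_fp _ _ h𝒳 h𝒳 hself
  have hz : FibCat.fpLift (F := FibCat.toSelf 𝒳) (G := FibCat.toSelf 𝒳)
      (BasedFunctor.comp (FibCat.fpFst (BasedFunctor.comp x (FibCat.toSelf 𝒳))
        (BasedFunctor.comp x (FibCat.toSelf 𝒳))) x)
      (BasedFunctor.comp (FibCat.fpSnd (BasedFunctor.comp x (FibCat.toSelf 𝒳))
        (BasedFunctor.comp x (FibCat.toSelf 𝒳))) x) e = cmpM x x (FibCat.toSelf 𝒳) := by
    unfold cmpM
    congr 1
    exact Iso.ext (self_bnat_subsingleton _ _)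
  rw [hz] at hz₁ hz₂ hz₃
  have hd : RepByAlgSpWith P (FibCat.diag (FibCat.fpFst (BasedFunctor.comp x (FibCat.toSelf 𝒳))
      (BasedFunctor.comp x (FibCat.toSelf 𝒳)))) :=
    repByAlgSpWith_diag_of_repByAlgSp1 P hPb hPd hss h𝒰 _ hv
  have huv : RepByAlgSpWith P (BasedFunctor.comp (cmp x x (FibCat.toSelf 𝒳))
      (FibCat.fpFst (BasedFunctor.comp x (FibCat.toSelf 𝒳))
        (BasedFunctor.comp x (FibCat.toSelf 𝒳)))) :=
    repByAlgSpWith_fpFst P x x hxP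
  have hc : RepByAlgSpWith P (cmp x x (FibCat.toSelf 𝒳)) :=
    repByAlgSpWith_cancel hxx hss h𝒰 hPb hPc hP (cmp x x (FibCat.toSelf 𝒳)) _ huv hd
  have h' : RepByAlgSpWith P (FibCat.fpFst (cmpM x x (FibCat.toSelf 𝒳))
      (FibCat.diag (FibCat.toSelf 𝒳))) :=
    repByAlgSpWith_of_square' P _ (cmp x x (FibCat.toSelf 𝒳)) (cmpΛ x x (FibCat.toSelf 𝒳))
      (BasedFunctor.id _) (isEquivOver_cmpΛ x x (FibCat.toSelf 𝒳) h𝒰 h𝒰 h𝒳 hself)
      (isEquivOver_id _) (Iso.refl _) hc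
  exact repByAlgSpWith_of_fpFst_fppf h𝒳 htt hss hPb hP (FibCat.diag (FibCat.toSelf 𝒳)) hΔ
    (cmpM x x (FibCat.toSelf 𝒳)) hz₁ hz₂ hz₃ h'

theorem locP_mono {Q Q' : MorphismProperty Scheme.{u}} (h : Q ≤ Q') {F G : AlgSp.Sp S} (a : F ⟶ G)
    (ha : AlgSp.LocP Q a) : AlgSp.LocP Q' a :=
  fun _ _ a' b' hh h1 h2 hc => h _ (ha a' b' hh h1 h2 hc)

theorem repByAlgSpWith_locP_mono {Q Q' : MorphismProperty Scheme.{u}} (h : Q ≤ Q')
    {𝒳 𝒴 : AlgSt.Cat S} (g : 𝒳 ⥤ᵇ 𝒴) (hg : RepByAlgSpWith (AlgSp.LocP Q) g) :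
    RepByAlgSpWith (AlgSp.LocP Q') g :=
  repByAlgSpWith_mono_space (fun _ _ a ha => locP_mono h a.hom ha) g hg

/-- the diagonal of an algebraic stack has `LocP Q` for every good class `Q ⊇ smooth` such that
diagonals of morphisms from algebraic spaces have it -/
theorem locP_diag_toSelf {Q : MorphismProperty Scheme.{u}} (hG : Groth.Agent.H50.GoodClass Q)
    (hsm : @Smooth ≤ Q)
    (hQl : AlgSp.IsLocalOnBase (AlgSp.IsFpqcCover (S := S)) (AlgSp.LocP Q))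
    (hQd : ∀ (V : AlgSp.Space S) (T : Over S) (b : V.obj ⟶ (AlgSp.yon S).obj T),
      AlgSp.LocP Q (pullback.diagonal b))
    {𝒳 : AlgSt.Cat S} (h𝒳 : IsAlgStack Scheme.fppfPrecoverage 𝒳) :
    RepByAlgSpWith (AlgSp.LocP Q) (FibCat.diag (FibCat.toSelf 𝒳)) := by
  obtain ⟨U, x, hx1, hx2⟩ := h𝒳.atlas
  have hU : FibCat.IsFibGrpd (FibCat.overCat U).p := (isFibSetoid_overCat U).1
  obtain ⟨e⟩ := self_biso_nonempty
    (BasedFunctor.comp (BasedFunctor.comp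
        (FibCat.fpFst (FibCat.toSelf (FibCat.overCat U)) (FibCat.toSelf (FibCat.overCat U))) x)
        (FibCat.toSelf 𝒳))
    (BasedFunctor.comp (BasedFunctor.comp
        (FibCat.fpSnd (FibCat.toSelf (FibCat.overCat U)) (FibCat.toSelf (FibCat.overCat U))) x)
        (FibCat.toSelf 𝒳))
  have hxf : RepByAlgSpWith (AlgSp.LocP @Flat) x :=
    repByAlgSpWith_locP_mono (fun _ _ g hg => by have : Smooth g := hg; exact (inferInstance : Flat g))
      x hx1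
  have hxp : RepByAlgSpWith (AlgSp.LocP @LocallyOfFinitePresentation) x :=
    repByAlgSpWith_locP_mono (fun _ _ g hg => by
      have : Smooth g := hg; exact (inferInstance : LocallyOfFinitePresentation g)) x hx1
  refine diag_toSelf_of_atlas_aux (AlgSp.LocP Q) (stableBC_locP hG)
    (fun _ _ _ _ hY _ a b ha hb => hG.locP_comp hY a b ha hb)
    (isLocalOnBase_fppf_of_fpqc hQl) hQd h𝒳.isStack.1 hU h𝒳.diag x
    (repByAlgSpWith_locP_mono hsm x hx1) (FibCat.toSelf (FibCat.overCat U)) (toSelf_eq_comp x)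
    (repByAlgSp1_of_repByAlgSp (repByAlgSp_prod_overCat U U) (repByAlgSp_overCat U) _) e ?_ ?_ ?_
  · exact repByAlgSpWith_prodF hU h𝒳.isStack.1 (stableBC_locP Groth.Agent.H50.goodClass_flat)
      (fun _ _ _ _ hY _ a b ha hb => Groth.Agent.H50.goodClass_flat.locP_comp hY a b ha hb)
      isLocalOnBase_fppf_flat x x hxf hxf e
  · exact repByAlgSpWith_prodF hU h𝒳.isStack.1 (stableBC_locP Groth.Agent.H50.goodClass_lfp)
      (fun _ _ _ _ hY _ a b ha hb => Groth.Agent.H50.goodClass_lfp.locP_comp hY a b ha hb)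
      isLocalOnBase_fppf_lfp x x hxp hxp e
  · exact repByAlgSpWith_prodF hU h𝒳.isStack.1 stableBC_surj
      (fun _ _ _ _ _ _ _ _ ha hb => Groth.Agent.H49.isSurjectiveMor_comp ha hb)
      isLocalOnBase_fppf_surj x x hx2 hx2 e

theorem smooth_le_lft : (@Smooth : MorphismProperty Scheme.{u}) ≤ @LocallyOfFiniteType :=
  fun _ _ g hg => by
    have : Smooth g := hg
    have : LocallyOfFinitePresentation g := inferInstance
    exact (inferInstance : LocallyOfFiniteType g)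

/-- the diagonal of an algebraic stack is locally of finite type -/
theorem locP_lft_diag_toSelf {𝒳 : AlgSt.Cat S} (h𝒳 : IsAlgStack Scheme.fppfPrecoverage 𝒳) :
    RepByAlgSpWith (AlgSp.LocP @LocallyOfFiniteType) (FibCat.diag (FibCat.toSelf 𝒳)) :=
  locP_diag_toSelf Groth.Agent.H50.goodClass_lft smooth_le_lft (Groth.Agent.S10526.result S)
    (fun V _ b => locP_lft_diagonal V.property b) h𝒳

/-- the diagonal of a morphism of algebraic stacks is locally of finite type -/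
theorem locP_lft_diag {𝒳 𝒴 : AlgSt.Cat S} (h𝒳 : IsAlgStack Scheme.fppfPrecoverage 𝒳)
    (h𝒴 : IsAlgStack Scheme.fppfPrecoverage 𝒴) (f : 𝒳 ⥤ᵇ 𝒴) :
    RepByAlgSpWith (AlgSp.LocP @LocallyOfFiniteType) (FibCat.diag f) := by
  have h := locP_lft_diag_toSelf h𝒳
  rw [toSelf_eq_comp f] at h
  exact repByAlgSpWith_diag_of_comp (AlgSp.LocP @LocallyOfFiniteType)
    (stableBC_locP Groth.Agent.H50.goodClass_lft)
    (fun _ _ _ _ hY _ a b ha hb => Groth.Agent.H50.goodClass_lft.locP_comp hY a b ha hb)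
    (isLocalOnBase_fppf_of_fpqc (Groth.Agent.S10526.result S))
    (fun V _ b => locP_lft_diagonal V.property b) h𝒳.isStack.1 h𝒴.isStack.1
    (isFibGrpd_selfOver _) f (FibCat.toSelf 𝒴) h𝒴.diag h

end Groth.Agent.H64.PTh
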