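import Groth.Agent.H64.Psh.PProps
import Mathlib.AlgebraicGeometry.Sites.Fpqc

set_option autoImplicit false
open CategoryTheory CategoryTheory.Limits Opposite AlgebraicGeometry
universe u

/-! A covering sieve of the fppf topology on `Sch/S` contains an fppf covering family. -/

namespace Groth.Agent.H64.PTh

variable {S : Scheme.{u}}

set_option backward.isDefEq.respectTransparency.types false in
theorem exists_fppf_family_of_mem_J {U : Over S} (R : Sieve U)
    (hR : R ∈ QuotSh.J Scheme.fppfPrecoverage S U) :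
    ∃ (ι : Type u) (V : ι → Over S) (h : ∀ i, V i ⟶ U), (∀ i, R.arrows (h i)) ∧
      AlgSp.IsFppfCover (fun i => (AlgSp.yon S).obj (V i)) (fun i => (AlgSp.yon S).map (h i)) := by
  rw [GrothendieckTopology.mem_over_iff] at hR
  have : MorphismProperty.IsMultiplicative @LocallyOfFinitePresentation :=
    { id_mem := fun X => inferInstance
      comp_mem := fun f g hf hg => MorphismProperty.comp_mem _ f g hf hg }
  have hR' : Sieve.overEquiv U R ∈
      Scheme.grothendieckTopology (@Flat ⊓ @LocallyOfFinitePresentation) U.left := hR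
  rw [Scheme.mem_grothendieckTopology_iff] at hR'
  obtain ⟨𝒰, hle⟩ := hR'
  refine ⟨𝒰.I₀, fun i => Over.mk (𝒰.f i ≫ U.hom), fun i => Over.homMk (𝒰.f i) rfl, ?_, ?_, ?_⟩
  · intro i
    have h1 : (Sieve.overEquiv U R).arrows (𝒰.f i) := hle _ (𝒰.f i) (Presieve.ofArrows.mk i)
    exact (Sieve.overEquiv_iff R (𝒰.f i)).1 h1
  · intro i
    have hi := 𝒰.map_prop i
    exact ⟨Groth.Agent.H50.goodClass_flat.locP_yon_map _ hi.1,
      Groth.Agent.H50.goodClass_lfp.locP_yon_map _ hi.2⟩
  · intro x
    obtain ⟨i, y, hy⟩ := 𝒰.exists_eq ((AlgSp.Points.schemeHomeo U).symm x)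
    refine ⟨i, AlgSp.Points.schemeHomeo (Over.mk (𝒰.f i ≫ U.hom)) y, ?_⟩
    rw [AlgSp.Points.map_yon_map_apply]
    show AlgSp.Points.schemeHomeo U (𝒰.f i y) = x
    rw [hy]
    exact (AlgSp.Points.schemeHomeo U).apply_symm_apply x

end Groth.Agent.H64.PTh
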