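import Groth.Agent.H64.Psh.PDescent2
import Groth.Agent.H64.Psh.SieveCover

set_option autoImplicit false
open CategoryTheory CategoryTheory.Limits Opposite AlgebraicGeometry
universe u

/-! Descent of properties along a morphism which is locally essentially surjective. -/

namespace Groth.Agent.H64.PTh

open Groth.Agent.H32 Groth.Agent.H64.Recog Groth.Agent.H64.FpRep AlgSt

variable {S : Scheme.{u}}

theorem ofSpMap_yon_map_eq {U V : Over S} (h : V ⟶ U) :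
    ofSpMap ((AlgSp.yon S).map h) =
      BasedFunctor.comp (toOverCat V) (BasedFunctor.comp (overMap h) (ofOverCat U)) := rfl

theorem repByAlgSpWith_of_fpFst_of_locally_essSurj {P : MorphismProperty (AlgSp.Sp S)}
    {𝒳 𝒴 𝒵 : AlgSt.Cat S}
    (h𝒳 : FibCat.IsFibGrpd 𝒳.p) (h𝒴 : FibCat.IsFibGrpd 𝒴.p) (h𝒵 : FibCat.IsFibGrpd 𝒵.p)
    (hPb : StableBC P) (hP : AlgSp.IsLocalOnBase AlgSp.IsFppfCover P)
    (f : 𝒳 ⥤ᵇ 𝒴) (hf : RepByAlgSp1 f) (g : 𝒵 ⥤ᵇ 𝒴)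
    (hg : ∀ (U : Over S) (y : FibCat.overCat U ⥤ᵇ 𝒴),
      ∃ R ∈ (QuotSh.J Scheme.fppfPrecoverage S) U,
      ∀ ⦃V : Over S⦄ (h : V ⟶ U), R.arrows h →
        ∃ z : FibCat.overCat V ⥤ᵇ 𝒵,
          Nonempty (BasedFunctor.comp z g ≅ BasedFunctor.comp (AlgSt.overMap h) y))
    (h' : RepByAlgSpWith P (FibCat.fpFst g f)) : RepByAlgSpWith P f := by
  apply repByAlgSpWith_of_hasP f
  intro U w
  obtain ⟨V, a, eV, heV, ⟨αV⟩⟩ := exists_presentation h𝒳 h𝒴 f hf (yonSpace U) w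
  refine ⟨V, a, eV, heV, ⟨αV⟩, ?_⟩
  obtain ⟨R, hR, hlift⟩ := hg U (BasedFunctor.comp (ofOverCat U) w)
  obtain ⟨ι, Vi, hi, hRi, hcov⟩ := exists_fppf_family_of_mem_J R hR
  choose zi hzi using (fun i => hlift (hi i) (hRi i))
  have θ : ∀ i, BasedFunctor.comp (ofSpMap ((AlgSp.yon S).map (hi i))) w ≅
      BasedFunctor.comp (BasedFunctor.comp (toOverCat (Vi i)) (zi i)) g := fun i =>
    (bwlIso (toOverCat (Vi i)) (hzi i).some).symm
  exact prop_of_cover_lift h𝒳 h𝒴 h𝒵 hPb hP f g h' (yonSpace U) w (fun i => yonSpace (Vi i))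
    (fun i => ObjectProperty.homMk ((AlgSp.yon S).map (hi i))) hcov
    (fun i => BasedFunctor.comp (toOverCat (Vi i)) (zi i)) θ V a eV heV αV

end Groth.Agent.H64.PTh
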