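import Groth.Agent.H64.Psh.ChartOver
import Groth.Agent.H64.Psh.PDescent3

set_option autoImplicit false
open CategoryTheory CategoryTheory.Limits Opposite AlgebraicGeometry
universe u

/-! Properties of algebraic stacks that are local in the smooth topology. -/

namespace Groth.Agent.H64.PTh

open Groth.Agent.H32 Groth.Agent.H64.Recog Groth.Agent.H64.FpRep AlgSt

variable {S : Scheme.{u}}

theorem locP_respectsIso (P : MorphismProperty Scheme.{u}) :
    (AlgSp.LocP (S := S) P).RespectsIso := by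
  apply MorphismProperty.RespectsIso.mk
  · intro X Y Z e f hf U V a b h ha hb hc
    refine hf (a ≫ e.hom) b h ?_ hb (by simpa [Category.assoc] using hc)
    exact (MorphismProperty.cancel_right_of_respectsIso (AlgSp.RepWith @Etale) a e.hom).2 ha
  · intro X Y Z e f hf U V a b h ha hb hc
    refine hf a (b ≫ e.inv) h ha ?_ ?_
    · exact (MorphismProperty.cancel_right_of_respectsIso (AlgSp.RepWith @Etale) b e.inv).2 hb
    · have := congrArg (fun t => t ≫ e.inv) hc
      simpa [Category.assoc] using this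

theorem isSurjectiveMor_respectsIso : (AlgSp.IsSurjectiveMor (S := S)).RespectsIso := by
  apply MorphismProperty.RespectsIso.mk
  · intro X Y Z e f hf z
    obtain ⟨y, rfl⟩ := hf z
    refine ⟨AlgSp.Points.map e.inv y, ?_⟩
    rw [AlgSp.Points.map_comp, ← AlgSp.Points.map_comp e.inv e.hom, e.inv_hom_id,
      AlgSp.Points.map_id]
  · intro X Y Z e f hf z
    obtain ⟨x, hx⟩ := hf (AlgSp.Points.map e.inv z)
    refine ⟨x, ?_⟩
    rw [AlgSp.Points.map_comp, hx, ← AlgSp.Points.map_comp e.inv e.hom, e.inv_hom_id,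
      AlgSp.Points.map_id]

/-- the property of the morphism of schemes behind a functor between slices -/
theorem prop_yon_map_of_overMap (Q : MorphismProperty (AlgSp.Sp S)) [Q.RespectsIso]
    {U V : Over S} (h : V ⟶ U) (hh : RepByAlgSpWith Q (AlgSt.overMap h)) :
    Q ((AlgSp.yon S).map h) := by
  have h1 : RepByAlgSpWith Q (ofSpMap ((AlgSp.yon S).map h)) :=
    repByAlgSpWith_of_square Q (AlgSt.overMap h) (ofSpMap ((AlgSp.yon S).map h))
      (toOverCat V) (toOverCat U) (isEquivOver_toOverCat V) (isEquivOver_toOverCat U)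
      (Iso.refl _) hh
  have h2 : AlgSp.RepBySp ((AlgSp.yon S).map h).hom :=
    repBySp_of_isAlgSpace (AlgSp.IsAlgSpace.yon_obj V) (AlgSp.IsAlgSpace.yon_obj U) _
  have h3 : AlgSp.RepBySpWith Q ((AlgSp.yon S).map h).hom :=
    repBySpWith_of_repByAlgSpWith _ Q h2 h1
  rw [AlgSp.repBySpWith_hom_iff] at h3
  exact (h3 (𝟙 _) (𝟙 _) ((AlgSp.yon S).map h) IsPullback.of_id_fst).2

theorem surjective_of_isSurjectiveMor_yon_map {W U : Over S} (g : W ⟶ U)
    (h : AlgSp.IsSurjectiveMor ((AlgSp.yon S).map g)) : Surjective g.left := by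
  refine ⟨fun y => ?_⟩
  obtain ⟨p, hp⟩ := h (AlgSp.Points.schemeHomeo U y)
  refine ⟨(AlgSp.Points.schemeHomeo W).symm p, ?_⟩
  apply (AlgSp.Points.schemeHomeo U).injective
  rw [← AlgSp.Points.map_yon_map_apply, Homeomorph.apply_symm_apply]
  exact hp

/-- two smooth charts of a category fibred in groupoids have a common smooth refinement by a
scheme -/
theorem exists_common_refinement {𝒳 : AlgSt.Cat S} {U U' : Over S}
    (x : FibCat.overCat U ⥤ᵇ 𝒳) (x' : FibCat.overCat U' ⥤ᵇ 𝒳)
    (hx : RepByAlgSpWith (AlgSp.LocP @Smooth) x) (hx' : RepByAlgSpWith (AlgSp.LocP @Smooth) x') :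
    ∃ (W : Over S) (g : W ⟶ U) (g' : W ⟶ U'), Smooth g.left ∧ Smooth g'.left ∧
      (RepByAlgSpWith AlgSp.IsSurjectiveMor x → Surjective g'.left) ∧
      (RepByAlgSpWith AlgSp.IsSurjectiveMor x' → Surjective g.left) := by
  obtain ⟨F, eF, heF⟩ := (RepByAlgSpWith.repByAlgSp1 hx) U' x'
  obtain ⟨W, p, hpE, hpS⟩ := F.property.atlas
  let s : FibCat.overCat W ⥤ᵇ ofSp F.obj := ofSection (uliftYonedaEquiv.{u+1} p.hom)
  have hF : FibCat.IsFibGrpd (ofSp F.obj).p := Stk.isFibGrpd_ofPsh _
  have hW : FibCat.IsFibGrpd (FibCat.overCat W).p := (isFibSetoid_overCat W).1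
  have key : ∀ (Q : MorphismProperty (AlgSp.Sp S)), StableBC Q →
      (∀ ⦃X Y Z : AlgSp.Sp S⦄, AlgSp.IsAlgSpace X → AlgSp.IsAlgSpace Y → AlgSp.IsAlgSpace Z →
        ∀ (a : X ⟶ Y) (b : Y ⟶ Z), Q a → Q b → Q (a ≫ b)) →
      AlgSp.IsLocalOnBase AlgSp.IsFppfCover Q → RepByAlgSpWith Q s →
      (RepByAlgSpWith Q x →
        RepByAlgSpWith Q (BasedFunctor.comp s (BasedFunctor.comp eF (FibCat.fpFst x' x)))) ∧
      (RepByAlgSpWith Q x' →
        RepByAlgSpWith Q (BasedFunctor.comp s (BasedFunctor.comp eF (FibCat.fpSnd x' x)))) := by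
    intro Q hQb hQc hQ hs
    constructor
    · intro hxQ
      have h1 : RepByAlgSpWith Q (FibCat.fpFst x' x) := repByAlgSpWith_fpFst Q x x' hxQ
      have h2 : RepByAlgSpWith Q (BasedFunctor.comp eF (FibCat.fpFst x' x)) :=
        repByAlgSpWith_of_square Q (FibCat.fpFst x' x) _ eF (BasedFunctor.id _) heF
          (isEquivOver_id _) (Iso.refl _) h1
      exact repByAlgSpWith_comp hW hF hQb hQc hQ s _ hs h2
    · intro hxQ
      have h1 : RepByAlgSpWith Q (FibCat.fpSnd x' x) := repByAlgSpWith_fpSnd Q x' x hxQ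
      have h2 : RepByAlgSpWith Q (BasedFunctor.comp eF (FibCat.fpSnd x' x)) :=
        repByAlgSpWith_of_square Q (FibCat.fpSnd x' x) _ eF (BasedFunctor.id _) heF
          (isEquivOver_id _) (Iso.refl _) h1
      exact repByAlgSpWith_comp hW hF hQb hQc hQ s _ hs h2
  have ksm := key _ (stableBC_locP Groth.Agent.H50.goodClass_smooth)
      (fun _ _ _ _ hY _ a b ha hb => Groth.Agent.H50.goodClass_smooth.locP_comp hY a b ha hb)
      isLocalOnBase_fppf_smooth
      (repByAlgSpWith_ofSection _ F.property p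
        (baseChange_locP_of_etale p hpE Groth.Agent.H50.goodClass_smooth))
  have ksu := key _ stableBC_surj
      (fun _ _ _ _ _ _ _ _ ha hb => Groth.Agent.H49.isSurjectiveMor_comp ha hb)
      isLocalOnBase_fppf_surj
      (repByAlgSpWith_ofSection _ F.property p (baseChange_surj_of_surjective p hpS))
  obtain ⟨g', ⟨γ'⟩⟩ := exists_iso_ovMap
    (BasedFunctor.comp s (BasedFunctor.comp eF (FibCat.fpFst x' x)))
  obtain ⟨g, ⟨γ⟩⟩ := exists_iso_ovMap
    (BasedFunctor.comp s (BasedFunctor.comp eF (FibCat.fpSnd x' x)))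
  have tr : ∀ (Q : MorphismProperty (AlgSp.Sp S)) {U₁ : Over S}
      (G : FibCat.overCat W ⥤ᵇ FibCat.overCat U₁) (k : W ⟶ U₁) (_ : G ≅ ovMap k),
      RepByAlgSpWith Q G → RepByAlgSpWith Q (AlgSt.overMap k) := by
    intro Q U₁ G k γ hG
    exact repByAlgSpWith_of_square Q G (AlgSt.overMap k) (BasedFunctor.id _) (BasedFunctor.id _)
      (isEquivOver_id _) (isEquivOver_id _) γ.symm hG
  have := locP_respectsIso (S := S) @Smooth
  have := isSurjectiveMor_respectsIso (S := S)
  refine ⟨W, g, g', ?_, ?_, ?_, ?_⟩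
  · exact AlgSp.locP_yon_map (prop_yon_map_of_overMap _ g (tr _ _ g γ (ksm.2 hx')))
  · exact AlgSp.locP_yon_map (prop_yon_map_of_overMap _ g' (tr _ _ g' γ' (ksm.1 hx)))
  · intro hs
    exact surjective_of_isSurjectiveMor_yon_map g'
      (prop_yon_map_of_overMap _ g' (tr _ _ g' γ' (ksu.1 hs)))
  · intro hs
    exact surjective_of_isSurjectiveMor_yon_map g
      (prop_yon_map_of_overMap _ g (tr _ _ g γ (ksu.2 hs)))

section local_props

variable (P : Scheme.{u} → Prop)
  (hP : ∀ (U : Scheme.{u}) (R : Presieve U), R ∈ Scheme.precoverage @Smooth U →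
      (P U ↔ ∀ ⦃V : Scheme.{u}⦄ (g : V ⟶ U), R g → P V))

include hP

theorem prop_of_smooth_hom {A B : Scheme.{u}} (k : A ⟶ B) [Smooth k] (hB : P B) : P A := by
  let X : Bool → Scheme.{u} := fun b => Bool.rec B A b
  let f : ∀ b, X b ⟶ B := fun b => Bool.rec (𝟙 B) k b
  have hR : Presieve.ofArrows X f ∈ Scheme.precoverage @Smooth B := by
    refine (Scheme.ofArrows_mem_precoverage_iff _).2 ⟨fun x => ⟨false, x, rfl⟩, fun b => ?_⟩
    cases b
    · show Smooth (𝟙 B)
      infer_instance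
    · show Smooth k
      infer_instance
  exact (hP B _ hR).1 hB (f true) (Presieve.ofArrows.mk true)

theorem prop_of_smooth_surjective {A B : Scheme.{u}} (k : A ⟶ B) [Smooth k] [Surjective k]
    (hA : P A) : P B := by
  have hR : Presieve.singleton k ∈ Scheme.precoverage @Smooth B := by
    exact (Scheme.singleton_mem_precoverage_iff _ k).2 ⟨k.surjective, inferInstance⟩
  refine (hP B _ hR).2 ?_
  intro V g hg
  cases hg
  exact hA

/-- a property local in the smooth topology which holds for one smooth surjective chart holds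
for all smooth charts -/
theorem smoothLocally_of_chart {𝒳 : AlgSt.Cat S} {U : Over S} (x : FibCat.overCat U ⥤ᵇ 𝒳)
    (hx₁ : RepByAlgSpWith (AlgSp.LocP @Smooth) x) (hx₂ : RepByAlgSpWith AlgSp.IsSurjectiveMor x)
    (hPU : P U.left) : SmoothLocally P 𝒳 := by
  intro U' x' hx'
  obtain ⟨W, g, g', hg, hg', hs, -⟩ := exists_common_refinement x x' hx₁ hx'
  have hs' := hs hx₂
  have hPW : P W.left := prop_of_smooth_hom P hP g.left hPU
  exact prop_of_smooth_surjective P hP g'.left hPW

end local_props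

end Groth.Agent.H64.PTh
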