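import Groth.Agent.H64.Psh.SmoothLoc

set_option autoImplicit false
open CategoryTheory CategoryTheory.Limits Opposite AlgebraicGeometry
universe u

/-! Smooth-local properties: charts by algebraic spaces. -/

namespace Groth.Agent.H64.PTh

open Groth.Agent.H32 Groth.Agent.H64.Recog Groth.Agent.H64.FpRep AlgSt

variable {S : Scheme.{u}}

set_option backward.isDefEq.respectTransparency false in
theorem repWith_id_etale (U : Over S) : AlgSp.RepWith @Etale (𝟙 ((AlgSp.yon S).obj U)) :=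
  AlgSp.repWith_id @Etale U

set_option backward.isDefEq.respectTransparency false in
theorem repWith_id_surjective (U : Over S) :
    AlgSp.RepWith @Surjective (𝟙 ((AlgSp.yon S).obj U)) :=
  AlgSp.repWith_id @Surjective U

/-- the functor of an etale surjective atlas of an algebraic space is smooth and surjective -/
theorem repByAlgSpWith_atlas {F : AlgSp.Sp S} (hF : AlgSp.IsAlgSpace F) {W : Over S}
    (p : (AlgSp.yon S).obj W ⟶ F) (hpE : AlgSp.RepWith @Etale p) :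
    RepByAlgSpWith (AlgSp.LocP @Smooth)
      (ofSection (uliftYonedaEquiv.{u+1} p.hom) : FibCat.overCat W ⥤ᵇ ofSp F) :=
  repByAlgSpWith_ofSection _ hF p (baseChange_locP_of_etale p hpE Groth.Agent.H50.goodClass_smooth)

theorem repByAlgSpWith_atlas_surj {F : AlgSp.Sp S} (hF : AlgSp.IsAlgSpace F) {W : Over S}
    (p : (AlgSp.yon S).obj W ⟶ F) (hpS : AlgSp.RepWith @Surjective p) :
    RepByAlgSpWith AlgSp.IsSurjectiveMor
      (ofSection (uliftYonedaEquiv.{u+1} p.hom) : FibCat.overCat W ⥤ᵇ ofSp F) :=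
  repByAlgSpWith_ofSection _ hF p (baseChange_surj_of_surjective p hpS)

theorem repByAlgSpWith_smooth_comp {𝒳 𝒴 𝒵 : AlgSt.Cat S} (h𝒳 : FibCat.IsFibGrpd 𝒳.p)
    (h𝒴 : FibCat.IsFibGrpd 𝒴.p) (f : 𝒳 ⥤ᵇ 𝒴) (g : 𝒴 ⥤ᵇ 𝒵)
    (hf : RepByAlgSpWith (AlgSp.LocP @Smooth) f) (hg : RepByAlgSpWith (AlgSp.LocP @Smooth) g) :
    RepByAlgSpWith (AlgSp.LocP @Smooth) (BasedFunctor.comp f g) :=
  repByAlgSpWith_comp h𝒳 h𝒴 (stableBC_locP Groth.Agent.H50.goodClass_smooth)
    (fun _ _ _ _ hY _ a b ha hb => Groth.Agent.H50.goodClass_smooth.locP_comp hY a b ha hb)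
    isLocalOnBase_fppf_smooth f g hf hg

theorem repByAlgSpWith_surj_comp {𝒳 𝒴 𝒵 : AlgSt.Cat S} (h𝒳 : FibCat.IsFibGrpd 𝒳.p)
    (h𝒴 : FibCat.IsFibGrpd 𝒴.p) (f : 𝒳 ⥤ᵇ 𝒴) (g : 𝒴 ⥤ᵇ 𝒵)
    (hf : RepByAlgSpWith AlgSp.IsSurjectiveMor f) (hg : RepByAlgSpWith AlgSp.IsSurjectiveMor g) :
    RepByAlgSpWith AlgSp.IsSurjectiveMor (BasedFunctor.comp f g) :=
  repByAlgSpWith_comp h𝒳 h𝒴 stableBC_surj
    (fun _ _ _ _ _ _ _ _ ha hb => Groth.Agent.H49.isSurjectiveMor_comp ha hb)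
    isLocalOnBase_fppf_surj f g hf hg

/-- a chart from an algebraic space gives a chart from a scheme -/
theorem exists_scheme_chart_of_space_chart {𝒳 : AlgSt.Cat S} (U : AlgSp.Space S)
    (x : ofSp U.obj ⥤ᵇ 𝒳) (hx : RepByAlgSpWith (AlgSp.LocP @Smooth) x)
    {W : Over S} (p : (AlgSp.yon S).obj W ⟶ U.obj) (hpE : AlgSp.RepWith @Etale p)
    (hpS : AlgSp.RepWith @Surjective p) :
    ∃ x' : FibCat.overCat W ⥤ᵇ 𝒳, RepByAlgSpWith (AlgSp.LocP @Smooth) x' ∧
      (RepByAlgSpWith AlgSp.IsSurjectiveMor x → RepByAlgSpWith AlgSp.IsSurjectiveMor x') := by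
  have hF : FibCat.IsFibGrpd (ofSp U.obj).p := Stk.isFibGrpd_ofPsh _
  have hW : FibCat.IsFibGrpd (FibCat.overCat W).p := (isFibSetoid_overCat W).1
  refine ⟨BasedFunctor.comp (ofSection (uliftYonedaEquiv.{u+1} p.hom)) x, ?_, ?_⟩
  · exact repByAlgSpWith_smooth_comp hW hF _ x (repByAlgSpWith_atlas U.property p hpE) hx
  · intro hs
    exact repByAlgSpWith_surj_comp hW hF _ x (repByAlgSpWith_atlas_surj U.property p hpS) hs

section local_props

variable (P : Scheme.{u} → Prop)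
  (hP : ∀ (U : Scheme.{u}) (R : Presieve U), R ∈ Scheme.precoverage @Smooth U →
      (P U ↔ ∀ ⦃V : Scheme.{u}⦄ (g : V ⟶ U), R g → P V))

include hP

/-- (2) ⇔ (4) -/
theorem smoothLocally_iff_forall_space_chart {𝒳 : AlgSt.Cat S} :
    SmoothLocally P 𝒳 ↔
      ∀ (U : AlgSp.Space S) (x : ofSp U.obj ⥤ᵇ 𝒳),
        RepByAlgSpWith (AlgSp.LocP @Smooth) x → AlgSp.EtaleLocally P U.obj := by
  constructor
  · intro h U x hx
    obtain ⟨W, p, hpE, hpS⟩ := U.property.atlas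
    obtain ⟨x', hx', -⟩ := exists_scheme_chart_of_space_chart U x hx p hpE hpS
    exact ⟨W, p, hpE, hpS, h W x' hx'⟩
  · intro h U x hx
    have hx' : RepByAlgSpWith (AlgSp.LocP @Smooth) (BasedFunctor.comp (toOverCat U) x) :=
      repByAlgSpWith_of_square _ x (BasedFunctor.comp (toOverCat U) x) (toOverCat U)
        (BasedFunctor.id _) (isEquivOver_toOverCat U) (isEquivOver_id _) (Iso.refl _) hx
    obtain ⟨W, p, hpE, hpS, hPW⟩ := h (yonSpace U) (BasedFunctor.comp (toOverCat U) x) hx'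
    obtain ⟨k, rfl⟩ := (AlgSp.yon S).map_surjective p
    have hk : Etale k.left := (AlgSp.repWith_yon_map_iff @Etale k).1 hpE
    have hk' : Surjective k.left := (AlgSp.repWith_yon_map_iff @Surjective k).1 hpS
    exact prop_of_smooth_surjective P hP k.left hPW

/-- (2) ⇐ (3) -/
theorem smoothLocally_of_space_chart {𝒳 : AlgSt.Cat S} (U : AlgSp.Space S)
    (x : ofSp U.obj ⥤ᵇ 𝒳) (hx₁ : RepByAlgSpWith (AlgSp.LocP @Smooth) x)
    (hx₂ : RepByAlgSpWith AlgSp.IsSurjectiveMor x) (hPU : AlgSp.EtaleLocally P U.obj) :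
    SmoothLocally P 𝒳 := by
  obtain ⟨W, p, hpE, hpS, hPW⟩ := hPU
  obtain ⟨x', hx', hs⟩ := exists_scheme_chart_of_space_chart U x hx₁ p hpE hpS
  exact smoothLocally_of_chart P hP x' hx' (hs hx₂) hPW

/-- (2) ⇔ (3) -/
theorem smoothLocally_iff_exists_space_chart {𝒳 : AlgSt.Cat S}
    (hat : HasAtlas (AlgSp.LocP @Smooth) 𝒳) :
    SmoothLocally P 𝒳 ↔
      ∃ (U : AlgSp.Space S) (x : ofSp U.obj ⥤ᵇ 𝒳),
        RepByAlgSpWith (AlgSp.LocP @Smooth) x ∧ RepByAlgSpWith AlgSp.IsSurjectiveMor x ∧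
          AlgSp.EtaleLocally P U.obj := by
  constructor
  · intro h
    obtain ⟨U₀, x₀, h1, h2⟩ := hat
    refine ⟨yonSpace U₀, BasedFunctor.comp (toOverCat U₀) x₀, ?_, ?_, ?_⟩
    · exact repByAlgSpWith_of_square _ x₀ (BasedFunctor.comp (toOverCat U₀) x₀) (toOverCat U₀)
        (BasedFunctor.id _) (isEquivOver_toOverCat U₀) (isEquivOver_id _) (Iso.refl _) h1
    · exact repByAlgSpWith_of_square _ x₀ (BasedFunctor.comp (toOverCat U₀) x₀) (toOverCat U₀)
        (BasedFunctor.id _) (isEquivOver_toOverCat U₀) (isEquivOver_id _) (Iso.refl _) h2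
    · exact ⟨U₀, 𝟙 _, repWith_id_etale U₀, repWith_id_surjective U₀, h U₀ x₀ h1⟩
  · rintro ⟨U, x, h1, h2, hPU⟩
    exact smoothLocally_of_space_chart P hP U x h1 h2 hPU

theorem smoothLocally_ofSp_iff (X : AlgSp.Space S) :
    SmoothLocally P (ofSp X.obj) ↔ AlgSp.EtaleLocally P X.obj := by
  constructor
  · intro h
    obtain ⟨W, p, hpE, hpS⟩ := X.property.atlas
    exact ⟨W, p, hpE, hpS, h W _ (repByAlgSpWith_atlas X.property p hpE)⟩
  · rintro ⟨W, p, hpE, hpS, hPW⟩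
    exact smoothLocally_of_chart P hP _ (repByAlgSpWith_atlas X.property p hpE)
      (repByAlgSpWith_atlas_surj X.property p hpS) hPW

theorem smoothLocally_ofSch_iff (U : Over S) :
    SmoothLocally P (ofSch U) ↔ P U.left := by
  constructor
  · intro h
    exact h U _ (repByAlgSpWith_atlas (AlgSp.IsAlgSpace.yon_obj U) (𝟙 _) (repWith_id_etale U))
  · intro hPU
    exact smoothLocally_of_chart P hP _
      (repByAlgSpWith_atlas (AlgSp.IsAlgSpace.yon_obj U) (𝟙 _) (repWith_id_etale U))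
      (repByAlgSpWith_atlas_surj (AlgSp.IsAlgSpace.yon_obj U) (𝟙 _)
        (repWith_id_surjective U)) hPU

end local_props

end Groth.Agent.H64.PTh
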