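import Groth.Agent.H64.Psh.AtlasLemma
import Groth.Agent.H64.Psh.PComp
import Groth.Agent.H64.DiagBCAlg

set_option autoImplicit false
open CategoryTheory CategoryTheory.Limits Opposite AlgebraicGeometry
universe u

/-! A category fibred in groupoids with a morphism representable by algebraic spaces to an algebraic
stack is an algebraic stack. -/

namespace Groth.Agent.H64.PTh

open Groth.Agent.H32 Groth.Agent.H64.Recog Groth.Agent.H64.FpRep AlgSt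

variable {S : Scheme.{u}}

/-- cancellation: if `j` and `x ⋙ j` are representable by algebraic spaces then so is `x` -/
theorem repByAlgSp1_of_comp {𝒲 𝒳 𝒴 : AlgSt.Cat S} (x : 𝒲 ⥤ᵇ 𝒳) (j : 𝒳 ⥤ᵇ 𝒴)
    (hj : RepByAlgSp1 j) (hxj : RepByAlgSp1 (BasedFunctor.comp x j)) : RepByAlgSp1 x := by
  intro V x'
  have hA : RepByAlgSp (FibCat.fp (BasedFunctor.comp x' j) j) := hj V (BasedFunctor.comp x' j)
  let σ' : FibCat.overCat V ⥤ᵇ FibCat.fp (BasedFunctor.comp x' j) j :=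
    FibCat.fpLift (BasedFunctor.id _) x' (Iso.refl _)
  have hB : RepByAlgSp (FibCat.fp (BasedFunctor.comp x' j) (BasedFunctor.comp x j)) :=
    hxj V (BasedFunctor.comp x' j)
  have hsrc : RepByAlgSp (FibCat.fp (FibCat.fpSnd (BasedFunctor.comp x' j) j) x) :=
    repByAlgSp_of_isEquivOver (isEquivOver_fpPaste₂ x j (BasedFunctor.comp x' j)) hB
  have hπ : RepByAlgSp1 (FibCat.fpFst (FibCat.fpSnd (BasedFunctor.comp x' j) j) x) :=
    repByAlgSp1_of_repByAlgSp hsrc hA _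
  have h1 : RepByAlgSp
      (FibCat.fp σ' (FibCat.fpFst (FibCat.fpSnd (BasedFunctor.comp x' j) j) x)) := hπ V σ'
  have h2 : RepByAlgSp (FibCat.fp
      (BasedFunctor.comp σ' (FibCat.fpSnd (BasedFunctor.comp x' j) j)) x) :=
    repByAlgSp_of_isEquivOver'
      (isEquivOver_fpPaste x (FibCat.fpSnd (BasedFunctor.comp x' j) j) σ') h1
  exact h2

/-- base change in the second variable, with a property -/
theorem repByAlgSpWith_fpSnd {𝒳 𝒴 𝒵 : AlgSt.Cat S} (Q : MorphismProperty (AlgSp.Sp S))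
    (f : 𝒳 ⥤ᵇ 𝒵) (g : 𝒴 ⥤ᵇ 𝒵) (hf : RepByAlgSpWith Q f) :
    RepByAlgSpWith Q (FibCat.fpSnd f g) :=
  repByAlgSpWith_of_square Q (FibCat.fpFst g f) (FibCat.fpSnd f g) (fpSwap f g)
    (BasedFunctor.id _) (isEquivOver_fpSwap f g) (isEquivOver_id _) (Iso.refl _)
    (repByAlgSpWith_fpFst Q f g hf)

theorem hasAtlas_of_repByAlgSp1 {𝒳 𝒴 : AlgSt.Cat S} (h𝒳 : FibCat.IsFibGrpd 𝒳.p)
    (j : 𝒳 ⥤ᵇ 𝒴) (hj : RepByAlgSp1 j) (hat : HasAtlas (AlgSp.LocP @Smooth) 𝒴) :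
    HasAtlas (AlgSp.LocP @Smooth) 𝒳 := by
  obtain ⟨U₀, y₀, hy₁, hy₂⟩ := hat
  obtain ⟨F, eF, heF⟩ := hj U₀ y₀
  obtain ⟨W, p, hpE, hpS⟩ := F.property.atlas
  let s : FibCat.overCat W ⥤ᵇ ofSp F.obj := ofSection (uliftYonedaEquiv.{u+1} p.hom)
  have hF : FibCat.IsFibGrpd (ofSp F.obj).p := Stk.isFibGrpd_ofPsh _
  have key : ∀ (Q : MorphismProperty (AlgSp.Sp S)), StableBC Q →
      (∀ ⦃X Y Z : AlgSp.Sp S⦄, AlgSp.IsAlgSpace X → AlgSp.IsAlgSpace Y → AlgSp.IsAlgSpace Z →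
        ∀ (a : X ⟶ Y) (b : Y ⟶ Z), Q a → Q b → Q (a ≫ b)) →
      AlgSp.IsLocalOnBase AlgSp.IsFppfCover Q → RepByAlgSpWith Q s → RepByAlgSpWith Q y₀ →
      RepByAlgSpWith Q (BasedFunctor.comp s (BasedFunctor.comp eF (FibCat.fpSnd y₀ j))) := by
    intro Q hQb hQc hQ hs hy
    have h1 : RepByAlgSpWith Q (FibCat.fpSnd y₀ j) := repByAlgSpWith_fpSnd Q y₀ j hy
    have h2 : RepByAlgSpWith Q (BasedFunctor.comp eF (FibCat.fpSnd y₀ j)) :=
      repByAlgSpWith_of_square Q (FibCat.fpSnd y₀ j) _ eF (BasedFunctor.id _) heF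
        (isEquivOver_id _) (Iso.refl _) h1
    exact repByAlgSpWith_comp (isFibSetoid_overCat W).1 hF hQb hQc hQ s _ hs h2
  refine ⟨W, BasedFunctor.comp s (BasedFunctor.comp eF (FibCat.fpSnd y₀ j)), ?_, ?_⟩
  · exact key _ (stableBC_locP Groth.Agent.H50.goodClass_smooth)
      (fun _ _ _ _ hY _ a b ha hb => Groth.Agent.H50.goodClass_smooth.locP_comp hY a b ha hb)
      isLocalOnBase_fppf_smooth
      (repByAlgSpWith_ofSection _ F.property p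
        (baseChange_locP_of_etale p hpE Groth.Agent.H50.goodClass_smooth)) hy₁
  · exact key _ stableBC_surj
      (fun _ _ _ _ _ _ _ _ ha hb => Groth.Agent.H49.isSurjectiveMor_comp ha hb)
      isLocalOnBase_fppf_surj
      (repByAlgSpWith_ofSection _ F.property p (baseChange_surj_of_surjective p hpS)) hy₂

theorem isAlgStack_of_repByAlgSp1 {𝒳 𝒴 : AlgSt.Cat S}
    (h𝒳 : FibCat.IsFibGrpd 𝒳.p) (h𝒴 : IsAlgStack Scheme.fppfPrecoverage 𝒴)
    (j : 𝒳 ⥤ᵇ 𝒴) (hj : RepByAlgSp1 j) : IsAlgStack Scheme.fppfPrecoverage 𝒳 where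
  isStack := isStack_of_repByAlgSp1 h𝒳 h𝒴.isStack j hj
  diag := repByAlgSp1_diag_iff.mpr (fun U x =>
    repByAlgSp1_of_comp x j hj (repByAlgSp1_of_diag h𝒴.diag U (BasedFunctor.comp x j)))
  atlas := hasAtlas_of_repByAlgSp1 h𝒳 j hj h𝒴.atlas

end Groth.Agent.H64.PTh
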