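import Groth.Agent.H64.Psh.RepDict
import Groth.Agent.H64.Fib.SetoidSet
import Groth.Agent.H64.Stk.FaithfulRep
import Groth.Agent.H64.Stk.FpPaste
import Groth.Agent.H64.Stk.Rep1
import Groth.Agent.H64.AlgStEquiv
import Groth.Agent.H64.FpSetoid
import Groth.Agent.H50.RepBySp

set_option autoImplicit false
open CategoryTheory CategoryTheory.Limits Opposite AlgebraicGeometry
universe v₄ u₄ v₃ u₃ v₂ u₂ v u

/-! Base change of a morphism representable by algebraic spaces to an algebraic space is an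
algebraic space. -/

namespace Groth.Agent.H64.FpRep

open Groth.Agent.H32 Groth.Agent.H64.Recog AlgSt

section general

variable {C : Type u} [Category.{v} C] {𝒳 : BasedCategory.{v₂, u₂} C}
  {𝒴 : BasedCategory.{v₃, u₃} C} {𝒮 : BasedCategory.{v₄, u₄} C}
  (F : 𝒳 ⥤ᵇ 𝒮) (G : 𝒴 ⥤ᵇ 𝒮)

/-- two morphisms of the fibre product over an identity agree as soon as `G` is faithful and the
fibres of `𝒳` are thin. -/
theorem fp_fiber_hom_ext' [G.toFunctor.Faithful] (ht : ∀ U : C, Quiver.IsThin (𝒳.p.Fiber U))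
    {U : C} {z z' : (FibCat.fp F G).obj} (m m' : z ⟶ z')
    (hm : (FibCat.fp F G).p.IsHomLift (𝟙 U) m) (hm' : (FibCat.fp F G).p.IsHomLift (𝟙 U) m') :
    m = m' := by
  have h2 : 𝒳.p.IsHomLift (𝟙 U) m.hom.fst := Groth.Agent.H32.fp_fst_isHomLift F G m (𝟙 U)
  have h2' : 𝒳.p.IsHomLift (𝟙 U) m'.hom.fst := Groth.Agent.H32.fp_fst_isHomLift F G m' (𝟙 U)
  have hd := IsHomLift.domain_eq 𝒳.p (𝟙 U) m.hom.fst
  have hc := IsHomLift.codomain_eq 𝒳.p (𝟙 U) m.hom.fst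
  have hfst : m.hom.fst = m'.hom.fst := by
    let a : 𝒳.p.Fiber U := ⟨z.obj.fst, hd⟩
    let b : 𝒳.p.Fiber U := ⟨z'.obj.fst, hc⟩
    let φ : a ⟶ b := ⟨m.hom.fst, h2⟩
    let φ' : a ⟶ b := ⟨m'.hom.fst, h2'⟩
    have : φ = φ' := (ht U a b).elim φ φ'
    exact congrArg Subtype.val this
  have hsnd : m.hom.snd = m'.hom.snd := by
    apply G.toFunctor.map_injective
    have w := m.hom.w
    have w' := m'.hom.w
    rw [hfst] at w
    have : z.obj.iso.hom ≫ G.toFunctor.map m.hom.snd = z.obj.iso.hom ≫ G.toFunctor.map m'.hom.snd :=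
      w.symm.trans w'
    exact (cancel_epi _).mp this
  apply ObjectProperty.hom_ext
  exact CategoricalPullback.hom_ext hfst hsnd

theorem isFibSetoid_fp_of_faithful' (h𝒮 : FibCat.IsFibGrpd 𝒮.p) (h𝒴 : FibCat.IsFibGrpd 𝒴.p)
    (h𝒳 : FibCat.IsFibSetoid 𝒳.p) [G.toFunctor.Faithful] :
    FibCat.IsFibSetoid (FibCat.fp F G).p := by
  refine ⟨Groth.Agent.H32.isFibGrpd_fp F G h𝒳.1 h𝒴 h𝒮, fun U => ?_⟩
  intro X Y
  refine ⟨fun φ ψ => ?_⟩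
  apply Functor.Fiber.hom_ext
  exact fp_fiber_hom_ext' F G h𝒳.2 φ.1 ψ.1 φ.2 ψ.2

end general

variable {S : Scheme.{u}}

/-- a category over `(Sch/S)` representable by an algebraic space is fibred in setoids -/
theorem isFibSetoid_of_repByAlgSp {𝒲 : BasedCategory.{v₂, u₂} (Over S)} (h : RepByAlgSp 𝒲) :
    FibCat.IsFibSetoid 𝒲.p := by
  obtain ⟨F, e, he⟩ := h
  exact (isFibSetoid_iff_of_isEquivOver he).mp (isFibSetoid_ofPsh F.obj.obj)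

/-- a functor representable by algebraic spaces between categories fibred in groupoids is
faithful -/
theorem faithful_of_repByAlgSp1 {𝒳 : BasedCategory.{v₂, u₂} (Over S)}
    {𝒴 : BasedCategory.{v₃, u₃} (Over S)} (h𝒳 : FibCat.IsFibGrpd 𝒳.p) (h𝒴 : FibCat.IsFibGrpd 𝒴.p)
    (f : 𝒳 ⥤ᵇ 𝒴) (hf : RepByAlgSp1 f) : f.toFunctor.Faithful :=
  faithful_of_thin_fp_slices f h𝒳 h𝒴 (fun U y V => (isFibSetoid_of_repByAlgSp (hf U y)).2 V)

/-- base change of a functor representable by algebraic spaces -/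
theorem repByAlgSp1_fpFst {𝒳 : BasedCategory.{v₂, u₂} (Over S)}
    {𝒴 : BasedCategory.{v₃, u₃} (Over S)} {𝒵 : BasedCategory.{v₄, u₄} (Over S)}
    (f : 𝒳 ⥤ᵇ 𝒴) (g : 𝒵 ⥤ᵇ 𝒴) (hf : RepByAlgSp1 f) : RepByAlgSp1 (FibCat.fpFst g f) := by
  intro U z
  exact repByAlgSp_of_isEquivOver (isEquivOver_fpPaste f g z) (hf U (BasedFunctor.comp z g))

/-- a category fibred in setoids with a functor representable by algebraic spaces to an algebraic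
space is an algebraic space -/
theorem repByAlgSp_of_repByAlgSp1_to_space {𝒲 : AlgSt.Cat S} (h𝒲 : FibCat.IsFibSetoid 𝒲.p)
    (Z : AlgSp.Space S) (π : 𝒲 ⥤ᵇ ofSp Z.obj) (hπ : RepByAlgSp1 π) : RepByAlgSp 𝒲 := by
  let W : AlgSp.PSp S := SetoidSet.psh h𝒲.1
  have hT := SetoidSet.isEquivOver_toOfPsh h𝒲.1 h𝒲.2
  obtain ⟨d⟩ := IsEquivOver.nonempty_data hT
  let Ψ : Stk.ofPsh W ⥤ᵇ Stk.ofPsh Z.obj.obj := BasedFunctor.comp d.inv π
  let w : W ⟶ Z.obj.obj := pshMapOf Ψ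
  obtain ⟨β⟩ := nonempty_iso_ofPshMap Ψ
  have h1 : RepByAlgSp1 (Stk.ofPshMap w) :=
    repByAlgSp1_of_square π (Stk.ofPshMap w) d.inv (BasedFunctor.id _) (isEquivOver_inv d)
      (isEquivOver_id _) β hπ
  have h2 : AlgSp.RepBySp w := repBySp_of_repByAlgSp1 w h1
  obtain ⟨hS, hA⟩ := Groth.Agent.H50.isAlgSpaceP_of_repBySp w h2
    ((AlgSp.isAlgSpaceP_obj_iff Z.obj).2 Z.property)
  exact ⟨⟨⟨W, hS⟩, hA⟩, d.inv, isEquivOver_inv d⟩

theorem main {𝒳 𝒴 𝒵 : AlgSt.Cat S}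
    (h𝒳 : FibCat.IsFibGrpd 𝒳.p) (h𝒴 : FibCat.IsFibGrpd 𝒴.p)
    (f : 𝒳 ⥤ᵇ 𝒴) (g : 𝒵 ⥤ᵇ 𝒴) (hf : AlgSt.RepByAlgSp1 f) (hZ : AlgSt.RepByAlgSp 𝒵) :
    AlgSt.RepByAlgSp (FibCat.fp g f) := by
  obtain ⟨Z, e, he⟩ := hZ
  obtain ⟨Ψ, hΨ, -⟩ := isEquivOver_fpMap_left f g e he
  refine repByAlgSp_of_isEquivOver hΨ ?_
  have := faithful_of_repByAlgSp1 h𝒳 h𝒴 f hf
  have h𝒲 : FibCat.IsFibSetoid (FibCat.fp (BasedFunctor.comp e g) f).p :=
    isFibSetoid_fp_of_faithful' (BasedFunctor.comp e g) f h𝒴 h𝒳 (isFibSetoid_ofPsh Z.obj.obj)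
  exact repByAlgSp_of_repByAlgSp1_to_space h𝒲 Z (FibCat.fpFst (BasedFunctor.comp e g) f)
    (repByAlgSp1_fpFst f (BasedFunctor.comp e g) hf)

end Groth.Agent.H64.FpRep
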