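import Groth.Agent.H64.Psh.ProdAlg
import Groth.Agent.H64.Fib.Magic

set_option autoImplicit false
open CategoryTheory CategoryTheory.Limits Opposite AlgebraicGeometry
universe u

/-! 2-fibre products of algebraic stacks over a stack with representable diagonal. -/

namespace Groth.Agent.H64.PTh

open Groth.Agent.H32 Groth.Agent.H26 Groth.Agent.H64.Recog Groth.Agent.H64.FpRep AlgSt

variable {S : Scheme.{u}} {𝒳 𝒴 𝒵 : AlgSt.Cat S}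

theorem isAlgStack_fp (h𝒵 : FibCat.IsFibGrpd 𝒵.p)
    (hΔ : RepByAlgSp1 (FibCat.diag (FibCat.toSelf 𝒵)))
    (h𝒳 : IsAlgStack Scheme.fppfPrecoverage 𝒳) (h𝒴 : IsAlgStack Scheme.fppfPrecoverage 𝒴)
    (f : 𝒳 ⥤ᵇ 𝒵) (g : 𝒴 ⥤ᵇ 𝒵) : IsAlgStack Scheme.fppfPrecoverage (FibCat.fp f g) := by
  obtain ⟨e⟩ := nonempty_canonE f g
  have hP := isAlgStack_prod h𝒳 h𝒴
  have hZZ : FibCat.IsFibGrpd (FibCat.fp (FibCat.toSelf 𝒵) (FibCat.toSelf 𝒵)).p :=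
    isFibGrpd_fp _ _ h𝒵 h𝒵 (isFibGrpd_selfOver _)
  have hQ : FibCat.IsFibGrpd (FibCat.fp (prodF f g e) (FibCat.diag (FibCat.toSelf 𝒵))).p :=
    isFibGrpd_fp _ _ hP.isStack.1 h𝒵 hZZ
  have hj : RepByAlgSp1 (FibCat.fpFst (prodF f g e) (FibCat.diag (FibCat.toSelf 𝒵))) :=
    repByAlgSp1_fpFst _ _ hΔ
  exact isAlgStack_of_isEquivOver _ (magicN f g e) (isEquivOver_magicN f g e)
    (isAlgStack_of_repByAlgSp1 hQ hP _ hj)

end Groth.Agent.H64.PTh
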