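import Groth.Agent.H64.Psh.PComp
import Groth.Agent.H64.Psh.PProps
import Groth.Agent.S10531
import Groth.Agent.S10546

set_option autoImplicit false
open CategoryTheory CategoryTheory.Limits Opposite AlgebraicGeometry
universe u

/-! Compositions for classes of morphisms given by instances. -/

namespace Groth.Agent.H64.PTh

open Groth.Agent.H32 Groth.Agent.H64.Recog Groth.Agent.H64.FpRep AlgSt

variable {S : Scheme.{u}}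

theorem stableBC_of_inst (P : MorphismProperty (AlgSp.Sp S)) [P.IsStableUnderBaseChange] :
    StableBC P :=
  fun _ _ _ _ _ _ _ _ _ _ _ _ sq ha => P.of_isPullback sq ha

theorem repByAlgSpWith_comp_inst (P : MorphismProperty (AlgSp.Sp S)) [P.IsStableUnderBaseChange]
    [P.IsStableUnderComposition] (hP : AlgSp.IsLocalOnBase AlgSp.IsFppfCover P)
    {𝒳 𝒴 𝒵 : AlgSt.Cat S} (h𝒳 : FibCat.IsFibGrpd 𝒳.p) (h𝒴 : FibCat.IsFibGrpd 𝒴.p)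
    (f : 𝒳 ⥤ᵇ 𝒴) (g : 𝒴 ⥤ᵇ 𝒵) (hf : RepByAlgSpWith P f) (hg : RepByAlgSpWith P g) :
    RepByAlgSpWith P (BasedFunctor.comp f g) :=
  repByAlgSpWith_comp h𝒳 h𝒴 (stableBC_of_inst P)
    (fun _ _ _ _ _ _ a b ha hb => P.comp_mem a b ha hb) hP f g hf hg

theorem isLocalOnBase_fppf_mono :
    AlgSp.IsLocalOnBase (AlgSp.IsFppfCover (S := S)) (MorphismProperty.monomorphisms (AlgSp.Sp S)) :=
  isLocalOnBase_fppf_of_fpqc (Groth.Agent.S10546.result S)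

theorem isLocalOnBase_fppf_openImm :
    AlgSp.IsLocalOnBase (AlgSp.IsFppfCover (S := S)) (AlgSp.RepWith @IsOpenImmersion) :=
  isLocalOnBase_fppf_of_fpqc (Groth.Agent.S10531.result S)

theorem isMono_comp {𝒳 𝒴 𝒵 : AlgSt.Cat S} (h𝒳 : FibCat.IsFibGrpd 𝒳.p) (h𝒴 : FibCat.IsFibGrpd 𝒴.p)
    (f : 𝒳 ⥤ᵇ 𝒴) (g : 𝒴 ⥤ᵇ 𝒵) (hf : AlgSt.IsMono f) (hg : AlgSt.IsMono g) :
    AlgSt.IsMono (BasedFunctor.comp f g) :=
  repByAlgSpWith_comp_inst _ isLocalOnBase_fppf_mono h𝒳 h𝒴 f g hf hg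

theorem isOpenImm_comp {𝒳 𝒴 𝒵 : AlgSt.Cat S} (h𝒳 : FibCat.IsFibGrpd 𝒳.p) (h𝒴 : FibCat.IsFibGrpd 𝒴.p)
    (f : 𝒳 ⥤ᵇ 𝒴) (g : 𝒴 ⥤ᵇ 𝒵) (hf : AlgSt.IsOpenImm f) (hg : AlgSt.IsOpenImm g) :
    AlgSt.IsOpenImm (BasedFunctor.comp f g) :=
  repByAlgSpWith_comp_inst _ isLocalOnBase_fppf_openImm h𝒳 h𝒴 f g hf hg

end Groth.Agent.H64.PTh
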