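import Groth.Agent.H64.Psh.PCompare
import Groth.Agent.H64.Psh.PProps

set_option autoImplicit false
open CategoryTheory CategoryTheory.Limits Opposite AlgebraicGeometry
universe v₃ u₃ v₂ u₂ u

/-! Properties local on the source descend along covering morphisms representable by algebraic
spaces. -/

namespace Groth.Agent.H64.PTh

open Groth.Agent.H32 Groth.Agent.H64.Recog Groth.Agent.H64.FpRep AlgSt

variable {S : Scheme.{u}} {P : MorphismProperty (AlgSp.Sp S)}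

/-- a presentation of `(Sch/U) ×_𝒵 𝒳` from presentations of `(Sch/U) ×_𝒵 𝒴` and of the base
change of `f` to it -/
theorem exists_presentation_comp {𝒳 𝒴 𝒵 : AlgSt.Cat S} (f : 𝒳 ⥤ᵇ 𝒴) (g : 𝒴 ⥤ᵇ 𝒵)
    {U : Over S} (z : FibCat.overCat U ⥤ᵇ 𝒵) {G₀ : AlgSp.Sp S}
    (eg : ofSp G₀ ⥤ᵇ FibCat.fp z g) (heg : FibCat.IsEquivOver eg)
    {V : AlgSp.Sp S} (a : V ⟶ G₀)
    (e : ofSp V ⥤ᵇ FibCat.fp (BasedFunctor.comp eg (FibCat.fpSnd z g)) f)
    (he : FibCat.IsEquivOver e)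
    (α : BasedFunctor.comp e (FibCat.fpFst (BasedFunctor.comp eg (FibCat.fpSnd z g)) f) ≅
      ofSpMap a) :
    ∃ e' : ofSp V ⥤ᵇ FibCat.fp z (BasedFunctor.comp f g), FibCat.IsEquivOver e' ∧
      spMapOfOver (BasedFunctor.comp e' (FibCat.fpFst z (BasedFunctor.comp f g))) =
        a ≫ spMapOfOver (BasedFunctor.comp eg (FibCat.fpFst z g)) := by
  obtain ⟨Ψ, hΨ, hΨ1⟩ := isEquivOver_fpMap_left f (FibCat.fpSnd z g) eg heg
  obtain ⟨e', he', h1⟩ := exists_equiv_spMapOfOver_eq (fpPaste₂ f g z) (isEquivOver_fpPaste₂ f g z)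
    (BasedFunctor.comp (FibCat.fpFst (FibCat.fpSnd z g) f) (FibCat.fpFst z g))
    (BasedFunctor.comp e Ψ) (isEquivOver_comp he hΨ)
  refine ⟨e', he', ?_⟩
  have h0 : BasedFunctor.comp e' (FibCat.fpFst z (BasedFunctor.comp f g)) =
      BasedFunctor.comp e' (BasedFunctor.comp (fpPaste₂ f g z)
        (BasedFunctor.comp (FibCat.fpFst (FibCat.fpSnd z g) f) (FibCat.fpFst z g))) := rfl
  have h2 : BasedFunctor.comp (BasedFunctor.comp e Ψ)
      (BasedFunctor.comp (FibCat.fpFst (FibCat.fpSnd z g) f) (FibCat.fpFst z g)) =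
      BasedFunctor.comp (BasedFunctor.comp e
        (FibCat.fpFst (BasedFunctor.comp eg (FibCat.fpSnd z g)) f))
        (BasedFunctor.comp eg (FibCat.fpFst z g)) :=
    congrArg (fun t => BasedFunctor.comp e (BasedFunctor.comp t (FibCat.fpFst z g))) hΨ1
  have h3 : spMapOfOver (F := V) (U := U) (BasedFunctor.comp (BasedFunctor.comp e
        (FibCat.fpFst (BasedFunctor.comp eg (FibCat.fpSnd z g)) f))
        (BasedFunctor.comp eg (FibCat.fpFst z g))) =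
      spMapOfOver (F := V) (U := U) (BasedFunctor.comp (ofSpMap a)
        (BasedFunctor.comp eg (FibCat.fpFst z g))) :=
    spMapOfOver_eq_of_hom (BasedCategory.whiskerRight α.hom
      (BasedFunctor.comp eg (FibCat.fpFst z g)))
  exact (congrArg (spMapOfOver (F := V) (U := U)) h0).trans
      (h1.trans ((congrArg (spMapOfOver (F := V) (U := U)) h2).trans
        (h3.trans (spMapOfOver_ofSpMap_comp a _))))

theorem repByAlgSpWith_of_comp_cover {𝒳 𝒴 𝒵 : AlgSt.Cat S}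
    (hPb : StableBC P) (τ : AlgSp.CovNotion S) (hP' : AlgSp.IsLocalOnSource τ P)
    (x : 𝒳 ⥤ᵇ 𝒴) (y : 𝒴 ⥤ᵇ 𝒵) (hy : RepByAlgSp1 y)
    (hcov : ∀ (G₀ : AlgSp.Space S) (w : ofSp G₀.obj ⥤ᵇ 𝒴),
      ∃ (V : AlgSp.Space S) (a : V ⟶ G₀) (e : ofSp V.obj ⥤ᵇ FibCat.fp w x),
        FibCat.IsEquivOver e ∧
          Nonempty (BasedFunctor.comp e (FibCat.fpFst w x) ≅ ofSpMap a.hom) ∧
          τ (fun _ : PUnit.{u+1} => V.obj) (fun _ => a.hom))
    (h : RepByAlgSpWith P (BasedFunctor.comp x y)) : RepByAlgSpWith P y := by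
  intro U z
  obtain ⟨G₀, eG, heG⟩ := hy U z
  refine ⟨G₀, eG, heG, ?_⟩
  obtain ⟨V, a, e, he, ⟨α⟩, hτ⟩ := hcov G₀ (BasedFunctor.comp eG (FibCat.fpSnd z y))
  obtain ⟨e'', he'', h1⟩ := exists_presentation_comp x y z eG heG a.hom e he α
  obtain ⟨V₀, e₀, he₀, hP₀⟩ := h U z
  obtain ⟨ψ, hψ, h2⟩ := exists_iso_spMapOfOver (FibCat.fpFst z (BasedFunctor.comp x y))
    e'' he'' e₀
  have := hψ he₀
  rw [h2, h1] at hP₀
  have h3 : P (a.hom ≫ spMapOfOver (BasedFunctor.comp eG (FibCat.fpFst z y))) :=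
    hPb.of_iso_comp V.property V₀.property (AlgSp.IsAlgSpace.yon_obj U) ψ _ hP₀
  exact (hP' (fun _ : PUnit.{u+1} => V.obj) (fun _ => a.hom) G₀.property (fun _ => V.property) hτ
    (spMapOfOver (BasedFunctor.comp eG (FibCat.fpFst z y))) (AlgSp.IsAlgSpace.yon_obj U)).mpr
    (fun _ => h3)

end Groth.Agent.H64.PTh
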