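import Groth.Agent.H64.Psh.Cancel

set_option autoImplicit false
open CategoryTheory CategoryTheory.Limits Opposite AlgebraicGeometry
universe v₄ u₄ v₃ u₃ v₂ u₂ v u

/-! The diagonal of a composite: `Δ_{g ∘ f} ≅ cmp ∘ Δ_f`. -/

namespace Groth.Agent.H64

open Groth.Agent.H32 Groth.Agent.H65.AlgStCmp

variable {C : Type u} [Category.{v} C]
variable {𝒳 : BasedCategory.{v₂, u₂} C} {𝒴 : BasedCategory.{v₃, u₃} C} {𝒵 : BasedCategory.{v₄, u₄} C}
variable (f : 𝒳 ⥤ᵇ 𝒴) (g : 𝒴 ⥤ᵇ 𝒵)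

theorem diagComp_aux {D : Type*} [Category D] {A : D} (a b c d : A ⟶ A) (ha : a = 𝟙 A)
    (hb : b = 𝟙 A) (hc : c = 𝟙 A) (hd : d = 𝟙 A) : a ≫ b = c ≫ d := by
  subst ha hb hc hd; rfl

/-- `Δ_f` followed by the comparison `𝒳 ×_𝒴 𝒳 ⟶ 𝒳 ×_𝒵 𝒳` is the diagonal of `f ≫ g` -/
def diagCompIso : BasedFunctor.comp (FibCat.diag f) (cmp f f g) ≅
    FibCat.diag (BasedFunctor.comp f g) :=
  fpFunctorIsoMk (BasedFunctor.comp f g) (BasedFunctor.comp f g)
    (G := BasedFunctor.comp (FibCat.diag f) (cmp f f g))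
    (H := FibCat.diag (BasedFunctor.comp f g)) (Iso.refl _) (Iso.refl _) (fun a => by
      refine diagComp_aux _ _ _ _ ?_ ?_ ?_ ?_
      · exact (BasedFunctor.comp f g).map_id _
      · rfl
      · exact g.map_id _
      · exact (BasedFunctor.comp f g).map_id _)

end Groth.Agent.H64
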