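import Groth.Agent.H64.Psh.MapOf
import Groth.Agent.H64.Stk.OverYoneda
import Groth.Agent.H64.Stk.FpStack
import Groth.Agent.H64.FpSetoid
import Groth.Agent.H32.FpProj

set_option autoImplicit false
open CategoryTheory CategoryTheory.Limits Opposite
universe w v₃ u₃ v₂ u₂ v u

/-! The category of a (sectionwise) fibre product `h_U ×_G F` of presheaves is the 2-fibre product
`(C/U) ×_{ofPsh G} ofPsh F`. -/

namespace Groth.Agent.H64.Recog

open Groth.Agent.H32

variable {C : Type u} [Category.{v} C]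

/-- the slice is fibred in setoids -/
theorem isFibSetoid_overCat (U : C) : FibCat.IsFibSetoid (FibCat.overCat U).p :=
  (isFibSetoid_iff_of_isEquivOver (isEquivOver_overToYoneda U)).mpr
    (isFibSetoid_ofPsh (yoneda.obj U))

/-- `secAt` is natural in the presheaf -/
theorem secAt_map {P Q : Cᵒᵖ ⥤ Type w} (a : P ⟶ Q) (x : Stk.EltObj P) {T : C} (h : x.base = T) :
    secAt Q ((Stk.ofPshMap a).obj x) h = a.app (op T) (secAt P x h) := by
  obtain ⟨b, s⟩ := x
  dsimp only at h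
  subst h
  have h1 : secAt Q ((Stk.ofPshMap a).obj ⟨b, s⟩) (rfl : b = b) = a.app (op b) s :=
    secAt_rfl Q ((Stk.ofPshMap a).obj ⟨b, s⟩)
  have h2 : secAt P (⟨b, s⟩ : Stk.EltObj P) (rfl : b = b) = s := secAt_rfl P ⟨b, s⟩
  exact h1.trans (congrArg (fun t => a.app (op b) t) h2.symm)

variable (U : C)

/-- the category of the representable presheaf (with lifted universe) maps to the slice -/
def toOv : Stk.ofPsh (uliftYoneda.{w}.obj U) ⥤ᵇ FibCat.overCat U where
  toFunctor :=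
    { obj := fun a => Over.mk a.sec.down
      map := fun {a b} f => Over.homMk f.hom (congrArg ULift.down f.map_sec) }
  w := rfl

variable {U} {P F G : Cᵒᵖ ⥤ Type (max w v)} (a : F ⟶ G) (fst : P ⟶ F)
  (snd : P ⟶ uliftYoneda.{w}.obj U) (y : FibCat.overCat U ⥤ᵇ Stk.ofPsh G)

/-- first leg -/
def leg₁ : Stk.ofPsh P ⥤ᵇ FibCat.overCat U := BasedFunctor.comp (Stk.ofPshMap snd) (toOv U)

theorem bsec_leg₁_comp (x : Stk.EltObj P) :
    bsec (BasedFunctor.comp (leg₁ snd) y) x =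
      G.map (snd.app (op x.base) x.sec).down.op (elOf y) :=
  bsec_eq_map_elOf y (Over.mk (snd.app (op x.base) x.sec).down)

theorem bsec_leg₂_comp (x : Stk.EltObj P) :
    bsec (BasedFunctor.comp (Stk.ofPshMap fst) (Stk.ofPshMap a)) x =
      a.app (op x.base) (fst.app (op x.base) x.sec) :=
  secAt_rfl G _

variable (hw : ∀ (T : C) (s : P.obj (op T)),
  a.app (op T) (fst.app (op T) s) = G.map (snd.app (op T) s).down.op (elOf y))

include hw in
theorem nonempty_legIso : Nonempty (BasedFunctor.comp (leg₁ snd) y ≅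
    BasedFunctor.comp (Stk.ofPshMap fst) (Stk.ofPshMap a)) := by
  apply nonempty_biso_of_bsec_eq
  intro x
  rw [bsec_leg₁_comp, bsec_leg₂_comp]
  exact (hw x.base x.sec).symm

/-- the comparison functor -/
noncomputable def pbLift : Stk.ofPsh P ⥤ᵇ FibCat.fp y (Stk.ofPshMap a) :=
  FibCat.fpLift (leg₁ snd) (Stk.ofPshMap fst) (nonempty_legIso a fst snd y hw).some

theorem pbLift_comp_fpFst :
    BasedFunctor.comp (pbLift a fst snd y hw) (FibCat.fpFst y (Stk.ofPshMap a)) = leg₁ snd := rfl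

theorem isFibSetoid_fp_slice : FibCat.IsFibSetoid (FibCat.fp y (Stk.ofPshMap a)).p :=
  isFibSetoid_fp y (Stk.ofPshMap a) (isFibSetoid_overCat U) (isFibSetoid_ofPsh F)
    (Stk.isFibGrpd_ofPsh G)

variable (hex : ∀ (T : C) (f : F.obj (op T)) (c : T ⟶ U),
    a.app (op T) f = G.map c.op (elOf y) → ∃ s : P.obj (op T), fst.app (op T) s = f ∧
      (snd.app (op T) s).down = c)
  (hinj : ∀ (T : C) (s s' : P.obj (op T)), fst.app (op T) s = fst.app (op T) s' →
    (snd.app (op T) s).down = (snd.app (op T) s').down → s = s')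

include hinj in
theorem pbLift_inj (T : C) (s s' : P.obj (op T))
    (m : (pbLift a fst snd y hw).obj ⟨T, s⟩ ⟶ (pbLift a fst snd y hw).obj ⟨T, s'⟩)
    (hm : (FibCat.fp y (Stk.ofPshMap a)).p.IsHomLift (𝟙 T) m) : s = s' := by
  have h1 : (FibCat.overCat U).p.IsHomLift (𝟙 T) m.hom.fst := fp_fst_isHomLift y _ m (𝟙 T)
  have h2 : (Stk.ofPsh F).p.IsHomLift (𝟙 T) m.hom.snd := fp_snd_isHomLift y _ m (𝟙 T)
  apply hinj T s s'
  · let m₂ : (⟨T, fst.app (op T) s⟩ : Stk.EltObj F) ⟶ ⟨T, fst.app (op T) s'⟩ := m.hom.snd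
    have h2' : (Stk.ofPsh F).p.IsHomLift (𝟙 T) m₂ := h2
    have h3 := secAt_of_hom F m₂ (𝟙 T) h2' rfl rfl
    rw [secAt_rfl, secAt_rfl] at h3
    simpa using h3.symm
  · let φ : Over.mk (snd.app (op T) s).down ⟶ Over.mk (snd.app (op T) s').down := m.hom.fst
    have h1' : (FibCat.overCat U).p.IsHomLift (𝟙 T) φ := h1
    have h4 : φ.left = 𝟙 T := by
      have := IsHomLift.fac' (FibCat.overCat U).p (𝟙 T) φ
      simp only [Category.id_comp, eqToHom_trans] at this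
      exact this.trans rfl
    have h5 := Over.w φ
    rw [h4] at h5
    simpa using h5.symm

include hex in
theorem pbLift_surj (z : (FibCat.fp y (Stk.ofPshMap a)).obj) :
    ∃ (s : P.obj (op ((FibCat.fp y (Stk.ofPshMap a)).p.obj z)))
      (m : (pbLift a fst snd y hw).obj ⟨(FibCat.fp y (Stk.ofPshMap a)).p.obj z, s⟩ ⟶ z),
      (FibCat.fp y (Stk.ofPshMap a)).p.IsHomLift (𝟙 ((FibCat.fp y (Stk.ofPshMap a)).p.obj z)) m := by
  let c : Over U := z.obj.fst
  let x₂ : Stk.EltObj F := z.obj.snd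
  have hT : x₂.base = c.left := fp_snd_obj_eq y (Stk.ofPshMap a) z
  have hiso : (Stk.ofPsh G).p.IsHomLift (𝟙 c.left) z.obj.iso.hom := fp_iso_isHomLift y _ z
  have h1 := secAt_of_hom G z.obj.iso.hom (𝟙 c.left) hiso (y.w_obj c) hT
  have h2 : secAt G ((Stk.ofPshMap a).obj x₂) hT = a.app (op c.left) (secAt F x₂ hT) :=
    secAt_map a x₂ hT
  have h3 : secAt G (y.obj c) (y.w_obj c) = G.map c.hom.op (elOf y) := bsec_eq_map_elOf y c
  have h1' : secAt G ((Stk.ofPshMap a).obj x₂) hT = secAt G (y.obj c) (y.w_obj c) := by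
    refine Eq.trans ?_ h1
    simp only [op_id, G.map_id]
    rfl
  have h4 : a.app (op c.left) (secAt F x₂ hT) = G.map c.hom.op (elOf y) :=
    h2.symm.trans (h1'.trans h3)
  obtain ⟨s, hs1, hs2⟩ := hex c.left (secAt F x₂ hT) c.hom h4
  let z₀ := (pbLift a fst snd y hw).obj ⟨c.left, s⟩
  let m₁ : z₀.obj.fst ⟶ z.obj.fst :=
    (Over.homMk (𝟙 c.left) (by simpa using hs2.symm) : Over.mk (snd.app (op c.left) s).down ⟶ c)
  have hm₁ : (FibCat.overCat U).p.IsHomLift (𝟙 c.left) m₁ := by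
    have : (FibCat.overCat U).p.IsHomLift ((FibCat.overCat U).p.map m₁) m₁ := inferInstance
    exact this
  obtain ⟨m₂, hm₂⟩ := exists_hom_of_secAt_eq F (x := (⟨c.left, fst.app (op c.left) s⟩ : Stk.EltObj F))
    (y := x₂) rfl hT (by rw [secAt_rfl]; exact hs1)
  have hz₀ : (Stk.ofPsh G).p.IsHomLift (𝟙 c.left) z₀.obj.iso.hom := fp_iso_isHomLift y _ z₀
  have hy₁ : (Stk.ofPsh G).p.IsHomLift (𝟙 c.left) (y.map m₁) :=
    BasedFunctor.preserves_isHomLift y (𝟙 c.left) m₁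
  have ha₂ : (Stk.ofPsh G).p.IsHomLift (𝟙 c.left) ((Stk.ofPshMap a).map m₂) :=
    BasedFunctor.preserves_isHomLift (Stk.ofPshMap a) (𝟙 c.left) m₂
  have hcompat : y.map m₁ ≫ z.obj.iso.hom = z₀.obj.iso.hom ≫ (Stk.ofPshMap a).map m₂ :=
    eltHom_ext G (𝟙 c.left) _ _ (lift_id_comp_id _ hy₁ hiso) (lift_id_comp_id _ hz₀ ha₂)
  let m : z₀ ⟶ z := fpHomMk y (Stk.ofPshMap a) m₁ m₂ hcompat
  have hm : (FibCat.fp y (Stk.ofPshMap a)).p.IsHomLift (𝟙 c.left) m :=
    @fp_isHomLift_of_fst _ _ _ _ _ y (Stk.ofPshMap a) _ _ m _ _ (𝟙 c.left) hm₁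
  exact ⟨s, m, hm⟩

include hex hinj in
theorem isEquivOver_pbLift : FibCat.IsEquivOver (pbLift a fst snd y hw) :=
  isEquivOver_of_ofPsh _ (isFibSetoid_fp_slice a y) (pbLift_inj a fst snd y hw hinj)
    (pbLift_surj a fst snd y hw hex)

end Groth.Agent.H64.Recog
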