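import Groth.Agent.H64.Psh.PComp
import Groth.Agent.H64.Psh.AlgStackRep
import Groth.Agent.H65.AlgStGraphAlg
import Groth.Agent.H65.AlgStCmpAlg
import Groth.Agent.H64.Fib.DiagSquare

set_option autoImplicit false
open CategoryTheory CategoryTheory.Limits Opposite AlgebraicGeometry
universe u

/-! Cancellation: if `u ≫ v` and the diagonal of `v` have `P`, so does `u`. -/

namespace Groth.Agent.H64.PTh

open Groth.Agent.H32 Groth.Agent.H64.Recog Groth.Agent.H64.FpRep AlgSt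

variable {S : Scheme.{u}} {P : MorphismProperty (AlgSp.Sp S)}

/-- invariance under 2-isomorphism -/
theorem repByAlgSpWith_of_iso {𝒳 𝒴 : AlgSt.Cat S} {f f' : 𝒳 ⥤ᵇ 𝒴} (e : f' ≅ f)
    (hf : RepByAlgSpWith P f) : RepByAlgSpWith P f' :=
  repByAlgSpWith_of_square P f f' (BasedFunctor.id _) (BasedFunctor.id _) (isEquivOver_id _)
    (isEquivOver_id _) e hf

theorem repByAlgSpWith_cancel {𝒜 ℬ 𝒞 : AlgSt.Cat S} (h𝒜 : FibCat.IsFibGrpd 𝒜.p)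
    (hℬ : FibCat.IsFibGrpd ℬ.p) (h𝒞 : FibCat.IsFibGrpd 𝒞.p) (hPb : StableBC P)
    (hPc : ∀ ⦃X Y Z : AlgSp.Sp S⦄, AlgSp.IsAlgSpace X → AlgSp.IsAlgSpace Y → AlgSp.IsAlgSpace Z →
      ∀ (a : X ⟶ Y) (b : Y ⟶ Z), P a → P b → P (a ≫ b))
    (hP : AlgSp.IsLocalOnBase AlgSp.IsFppfCover P)
    (u : 𝒜 ⥤ᵇ ℬ) (v : ℬ ⥤ᵇ 𝒞) (huv : RepByAlgSpWith P (BasedFunctor.comp u v))
    (hv : RepByAlgSpWith P (FibCat.diag v)) : RepByAlgSpWith P u := by
  have hfp : FibCat.IsFibGrpd (FibCat.fp (BasedFunctor.comp u v) v).p :=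
    isFibGrpd_fp _ _ h𝒜 hℬ h𝒞
  have h1 : RepByAlgSpWith P (FibCat.fpLift (F := BasedFunctor.comp u v) (G := v)
      (BasedFunctor.id 𝒜) u (Iso.refl _)) :=
    Groth.Agent.H65.AlgStGraph.repByAlgSpWith_graph P h𝒜 hℬ h𝒞 (BasedFunctor.comp u v) v u
      (Iso.refl _) hv
  have h2 : RepByAlgSpWith P (FibCat.fpSnd (BasedFunctor.comp u v) v) :=
    repByAlgSpWith_fpSnd P (BasedFunctor.comp u v) v huv
  exact repByAlgSpWith_comp h𝒜 hfp hPb hPc hP _ _ h1 h2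

end Groth.Agent.H64.PTh
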