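import Groth.Agent.H64.Psh.PComp

set_option autoImplicit false
open CategoryTheory CategoryTheory.Limits Opposite AlgebraicGeometry
universe v₃ u₃ v₂ u₂ u

/-! Comparison of two presentations of a category over `(Sch/S)` by algebraic spaces. -/

namespace Groth.Agent.H64.PTh

open Groth.Agent.H32 Groth.Agent.H64.Recog Groth.Agent.H64.FpRep AlgSt

variable {S : Scheme.{u}}

theorem pshMapOf_eq_of_hom {C : Type u₂} [Category.{v₂} C] {P Q : Cᵒᵖ ⥤ Type v₃}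
    {Ψ Ψ' : Stk.ofPsh P ⥤ᵇ Stk.ofPsh Q} (e : Ψ ⟶ Ψ') : pshMapOf Ψ = pshMapOf Ψ' := by
  ext T s
  exact bsec_eq_of_hom e _

/-- two presentations of the same category over a slice have isomorphic spaces, compatibly with
the section maps -/
theorem exists_iso_spMapOfOver {F₁ F₂ : AlgSp.Sp S} {U : Over S}
    {𝒲 : BasedCategory.{v₂, u₂} (Over S)} (Φ : 𝒲 ⥤ᵇ FibCat.overCat U)
    (e₁ : ofSp F₁ ⥤ᵇ 𝒲) (he₁ : FibCat.IsEquivOver e₁) (e₂ : ofSp F₂ ⥤ᵇ 𝒲) :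
    ∃ ψ : F₂ ⟶ F₁, (FibCat.IsEquivOver e₂ → IsIso ψ) ∧
      spMapOfOver (BasedFunctor.comp e₂ Φ) = ψ ≫ spMapOfOver (BasedFunctor.comp e₁ Φ) := by
  obtain ⟨d⟩ := IsEquivOver.nonempty_data he₁
  let Ψ : Stk.ofPsh F₂.obj ⥤ᵇ Stk.ofPsh F₁.obj := BasedFunctor.comp e₂ d.inv
  let ψ₀ : F₂.obj ⟶ F₁.obj := pshMapOf Ψ
  let ψ : F₂ ⟶ F₁ := ObjectProperty.homMk ψ₀
  refine ⟨ψ, ?_, ?_⟩
  · intro he₂
    have hΨ : FibCat.IsEquivOver Ψ := isEquivOver_comp he₂ (isEquivOver_inv d)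
    have hiso := isIso_pshMapOf hΨ
    have : IsIso ((ObjectProperty.ι _).map ψ) := hiso
    exact isIso_of_reflects_iso ψ (ObjectProperty.ι _)
  · let α : e₂ ⟶ BasedFunctor.comp Ψ e₁ := BasedCategory.whiskerLeft e₂ d.counit.inv
    have h1 : spMapOfOver (F := F₂) (U := U) (BasedFunctor.comp e₂ Φ) =
        spMapOfOver (F := F₂) (U := U) (BasedFunctor.comp Ψ (BasedFunctor.comp e₁ Φ)) :=
      spMapOfOver_eq_of_hom (BasedCategory.whiskerRight α Φ)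
    obtain ⟨β⟩ := nonempty_iso_ofPshMap Ψ
    have h2 : spMapOfOver (F := F₂) (U := U) (BasedFunctor.comp Ψ (BasedFunctor.comp e₁ Φ)) =
        spMapOfOver (F := F₂) (U := U)
          (BasedFunctor.comp (ofSpMap ψ) (BasedFunctor.comp e₁ Φ)) :=
      spMapOfOver_eq_of_hom (BasedCategory.whiskerRight β.inv (BasedFunctor.comp e₁ Φ))
    rw [h1, h2, spMapOfOver_ofSpMap_comp]

/-- two presentations of a functor to the category of a sheaf have isomorphic spaces, compatibly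
with the maps to the sheaf -/
theorem exists_iso_of_presentations {V₁ V₂ Z : AlgSp.Sp S}
    {𝒲 : BasedCategory.{v₂, u₂} (Over S)} (π : 𝒲 ⥤ᵇ ofSp Z)
    (a₁ : V₁ ⟶ Z) (e₁ : ofSp V₁ ⥤ᵇ 𝒲) (he₁ : FibCat.IsEquivOver e₁)
    (α₁ : BasedFunctor.comp e₁ π ≅ ofSpMap a₁)
    (a₂ : V₂ ⟶ Z) (e₂ : ofSp V₂ ⥤ᵇ 𝒲) (α₂ : BasedFunctor.comp e₂ π ≅ ofSpMap a₂) :
    ∃ ψ : V₂ ⟶ V₁, (FibCat.IsEquivOver e₂ → IsIso ψ) ∧ a₂ = ψ ≫ a₁ := by
  obtain ⟨d⟩ := IsEquivOver.nonempty_data he₁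
  let Ψ : Stk.ofPsh V₂.obj ⥤ᵇ Stk.ofPsh V₁.obj := BasedFunctor.comp e₂ d.inv
  let ψ₀ : V₂.obj ⟶ V₁.obj := pshMapOf Ψ
  let ψ : V₂ ⟶ V₁ := ObjectProperty.homMk ψ₀
  refine ⟨ψ, ?_, ?_⟩
  · intro he₂
    have hΨ : FibCat.IsEquivOver Ψ := isEquivOver_comp he₂ (isEquivOver_inv d)
    have hiso := isIso_pshMapOf hΨ
    have : IsIso ((ObjectProperty.ι _).map ψ) := hiso
    exact isIso_of_reflects_iso ψ (ObjectProperty.ι _)
  · obtain ⟨β⟩ := nonempty_iso_ofPshMap Ψ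
    let c1 : ofSpMap a₂ ⟶ BasedFunctor.comp e₂ π := α₂.inv
    let c2 : BasedFunctor.comp e₂ π ⟶ BasedFunctor.comp Ψ (BasedFunctor.comp e₁ π) :=
      BasedCategory.whiskerRight (BasedCategory.whiskerLeft e₂ d.counit.inv) π
    let c3 : BasedFunctor.comp Ψ (BasedFunctor.comp e₁ π) ⟶ BasedFunctor.comp Ψ (ofSpMap a₁) :=
      BasedCategory.whiskerLeft Ψ α₁.hom
    let c4 : BasedFunctor.comp Ψ (ofSpMap a₁) ⟶
        BasedFunctor.comp (Stk.ofPshMap ψ₀) (ofSpMap a₁) :=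
      BasedCategory.whiskerRight β.inv (ofSpMap a₁)
    have h := pshMapOf_eq_of_hom (c1 ≫ c2 ≫ c3 ≫ c4)
    have h5 : pshMapOf (ofSpMap a₂) = a₂.hom := pshMapOf_ofPshMap a₂.hom
    have h6 : pshMapOf (BasedFunctor.comp (Stk.ofPshMap ψ₀) (ofSpMap a₁)) = ψ₀ ≫ a₁.hom :=
      pshMapOf_ofPshMap (ψ₀ ≫ a₁.hom)
    apply ObjectProperty.hom_ext
    exact h5.symm.trans (h.trans h6)

end Groth.Agent.H64.PTh
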