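import Groth.Agent.H64.Stk.StackOfRep
import Groth.Agent.H64.Psh.FpRep
import Groth.Agent.H64.Stk.FpSwap
import Groth.Agent.H64.Stk.PshStack

set_option autoImplicit false
open CategoryTheory CategoryTheory.Limits Opposite AlgebraicGeometry
universe v₄ u₄ v₃ u₃ v₂ u₂ u

/-! The source of a morphism representable by algebraic spaces to a stack is a stack. -/

namespace Groth.Agent.H64.FpRep

open Groth.Agent.H32 Groth.Agent.H64.Recog AlgSt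

variable {S : Scheme.{u}}

/-- a category over `(Sch/S)` representable by an algebraic space is a stack for the fppf
topology -/
theorem isStack_of_repByAlgSp {𝒲 : BasedCategory.{v₂, u₂} (Over S)} (h : RepByAlgSp 𝒲) :
    Stk.IsStack (QuotSh.J Scheme.fppfPrecoverage S) 𝒲 := by
  obtain ⟨F, e, he⟩ := h
  refine (isStack_iff_of_isEquivOver _ he).mp ?_
  rw [isStack_ofPsh_iff_isSheaf]
  exact (isSheaf_iff_isSheaf_of_type _ _).mp F.obj.property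

theorem isStack_of_repByAlgSp1 {𝒳 : BasedCategory.{v₂, u₂} (Over S)}
    {𝒴 : BasedCategory.{v₃, u₃} (Over S)}
    (h𝒳 : FibCat.IsFibGrpd 𝒳.p) (h𝒴 : Stk.IsStack (QuotSh.J Scheme.fppfPrecoverage S) 𝒴)
    (j : 𝒳 ⥤ᵇ 𝒴) (hj : AlgSt.RepByAlgSp1 j) :
    Stk.IsStack (QuotSh.J Scheme.fppfPrecoverage S) 𝒳 := by
  have := faithful_of_repByAlgSp1 h𝒳 h𝒴.1 j hj
  exact isStack_of_faithful_of_fp _ h𝒳 h𝒴 j (fun U y => isStack_of_repByAlgSp (hj U y))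

/-- base change in the second variable -/
theorem repByAlgSp1_fpSnd {𝒳 : BasedCategory.{v₂, u₂} (Over S)}
    {𝒴 : BasedCategory.{v₃, u₃} (Over S)} {𝒵 : BasedCategory.{v₄, u₄} (Over S)}
    (f : 𝒳 ⥤ᵇ 𝒵) (g : 𝒴 ⥤ᵇ 𝒵) (hf : RepByAlgSp1 f) : RepByAlgSp1 (FibCat.fpSnd f g) := by
  have h1 : RepByAlgSp1 (FibCat.fpFst g f) := repByAlgSp1_fpFst f g hf
  exact repByAlgSp1_of_square (FibCat.fpFst g f) (FibCat.fpSnd f g) (fpSwap f g)
    (BasedFunctor.id _) (isEquivOver_fpSwap f g) (isEquivOver_id _) (Iso.refl _) h1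

theorem isStack_fp_of_repByAlgSp1 {𝒳 : BasedCategory.{v₂, u₂} (Over S)}
    {𝒴 : BasedCategory.{v₃, u₃} (Over S)} {𝒵 : BasedCategory.{v₄, u₄} (Over S)}
    (h𝒳 : FibCat.IsFibGrpd 𝒳.p) (h𝒵 : FibCat.IsFibGrpd 𝒵.p)
    (h𝒴 : Stk.IsStack (QuotSh.J Scheme.fppfPrecoverage S) 𝒴)
    (f : 𝒳 ⥤ᵇ 𝒵) (g : 𝒴 ⥤ᵇ 𝒵) (hf : AlgSt.RepByAlgSp1 f) :
    Stk.IsStack (QuotSh.J Scheme.fppfPrecoverage S) (FibCat.fp f g) :=
  isStack_of_repByAlgSp1 (isFibGrpd_fp f g h𝒳 h𝒴.1 h𝒵) h𝒴 (FibCat.fpSnd f g)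
    (repByAlgSp1_fpSnd f g hf)

end Groth.Agent.H64.FpRep
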