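import Groth.Agent.H64.Psh.PProps
import Groth.Agent.H64.Psh.RepDictWith
import Groth.Agent.H64.Psh.OverCatRep
import Groth.Agent.H64.Psh.DiagAlg
import Groth.Agent.H64.Psh.StackRep
import Groth.Agent.H51.SpUnram

set_option autoImplicit false
open CategoryTheory CategoryTheory.Limits Opposite AlgebraicGeometry
universe u

/-! An etale atlas of an algebraic space gives an atlas of its category; algebraic spaces are
Deligne–Mumford stacks. -/

namespace Groth.Agent.H64.PTh

open Groth.Agent.H32 Groth.Agent.H64.Recog Groth.Agent.H64.FpRep AlgSt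

variable {S : Scheme.{u}} (Q : MorphismProperty (AlgSp.Sp S))

/-- a map from a scheme to an algebraic space all of whose base changes to schemes have `Q` is
representable by algebraic spaces with `Q` -/
theorem repBySpWith_of_forall_baseChange {F : AlgSp.Sp S} (hF : AlgSp.IsAlgSpace F) {W : Over S}
    (p : (AlgSp.yon S).obj W ⟶ F)
    (hQ : ∀ ⦃T : Over S⦄ (ξ : (AlgSp.yon S).obj T ⟶ F) ⦃F' : AlgSp.Sp S⦄
      (fst : F' ⟶ (AlgSp.yon S).obj W) (snd : F' ⟶ (AlgSp.yon S).obj T),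
      IsPullback fst snd p ξ → Q snd) :
    AlgSp.RepBySpWith Q p.hom := by
  rw [AlgSp.repBySpWith_hom_iff]
  intro T ξ F' fst snd sq
  exact ⟨Groth.Agent.H49.isAlgSpace_of_isPullback sq hF.diag (AlgSp.IsAlgSpace.yon_obj W)
    (AlgSp.IsAlgSpace.yon_obj T), hQ ξ fst snd sq⟩

/-- the functor of a section is the functor of the corresponding map of presheaves -/
theorem nonempty_ofSection_iso {F : AlgSp.Sp S} {W : Over S} (p : (AlgSp.yon S).obj W ⟶ F) :
    Nonempty (BasedFunctor.comp (ofSection (uliftYonedaEquiv.{u+1} p.hom) :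
        FibCat.overCat W ⥤ᵇ ofSp F) (BasedFunctor.id _) ≅
      BasedFunctor.comp (ofOverCat W) (Stk.ofPshMap p.hom)) := by
  apply nonempty_biso_of_bsec_eq
  intro a
  have h1 : bsec (BasedFunctor.comp (ofSection (uliftYonedaEquiv.{u+1} p.hom) :
        FibCat.overCat W ⥤ᵇ ofSp F) (BasedFunctor.id _)) a =
      F.obj.map a.hom.op (uliftYonedaEquiv.{u+1} p.hom) := bsec_ofSection _ a
  have h2 : bsec (BasedFunctor.comp (ofOverCat W) (Stk.ofPshMap p.hom)) a =
      p.hom.app (op a.left) (ULift.up a.hom) := secAt_rfl _ _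
  rw [h1, h2]
  exact (yonedaMap_app p.hom a.left (ULift.up a.hom)).symm

theorem repByAlgSpWith_ofSection {F : AlgSp.Sp S} (hF : AlgSp.IsAlgSpace F) {W : Over S}
    (p : (AlgSp.yon S).obj W ⟶ F)
    (hQ : ∀ ⦃T : Over S⦄ (ξ : (AlgSp.yon S).obj T ⟶ F) ⦃F' : AlgSp.Sp S⦄
      (fst : F' ⟶ (AlgSp.yon S).obj W) (snd : F' ⟶ (AlgSp.yon S).obj T),
      IsPullback fst snd p ξ → Q snd) :
    RepByAlgSpWith Q (ofSection (uliftYonedaEquiv.{u+1} p.hom) :
      FibCat.overCat W ⥤ᵇ ofSp F) := by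
  have h1 : RepByAlgSpWith Q (Stk.ofPshMap p.hom) :=
    repByAlgSpWith_of_repBySpWith p.hom Q (repBySpWith_of_forall_baseChange Q hF p hQ)
  obtain ⟨β⟩ := nonempty_ofSection_iso p
  exact repByAlgSpWith_of_square Q (Stk.ofPshMap p.hom) _ (ofOverCat W) (BasedFunctor.id _)
    (isEquivOver_ofOverCat W) (isEquivOver_id _) β h1

variable {Q}

section atlas

variable {F : AlgSp.Sp S} {W : Over S} (p : (AlgSp.yon S).obj W ⟶ F)
  (hpE : AlgSp.RepWith @Etale p) (hpS : AlgSp.RepWith @Surjective p)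

include hpE in
theorem baseChange_locP_of_etale {P : MorphismProperty Scheme.{u}}
    (hG : Groth.Agent.H50.GoodClass P) ⦃T : Over S⦄ (ξ : (AlgSp.yon S).obj T ⟶ F)
    ⦃F' : AlgSp.Sp S⦄ (fst : F' ⟶ (AlgSp.yon S).obj W) (snd : F' ⟶ (AlgSp.yon S).obj T)
    (sq : IsPullback fst snd p ξ) : AlgSp.LocP P snd := by
  have := AlgSp.repWith_isStableUnderBaseChange (S := S) @Etale
  exact hG.locP_of_repWith_etale snd
    (MorphismProperty.of_isPullback (P := AlgSp.RepWith @Etale) sq hpE)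

include hpE in
theorem baseChange_isEtaleMor_of_etale ⦃T : Over S⦄ (ξ : (AlgSp.yon S).obj T ⟶ F)
    ⦃F' : AlgSp.Sp S⦄ (fst : F' ⟶ (AlgSp.yon S).obj W) (snd : F' ⟶ (AlgSp.yon S).obj T)
    (sq : IsPullback fst snd p ξ) : AlgSp.IsEtaleMor snd := by
  have := AlgSp.repWith_isStableUnderBaseChange (S := S) @Etale
  exact Groth.Agent.H51.isEtaleMor_of_repWith_etale
    (MorphismProperty.of_isPullback (P := AlgSp.RepWith @Etale) sq hpE)

include hpS in
theorem baseChange_surj_of_surjective ⦃T : Over S⦄ (ξ : (AlgSp.yon S).obj T ⟶ F)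
    ⦃F' : AlgSp.Sp S⦄ (fst : F' ⟶ (AlgSp.yon S).obj W) (snd : F' ⟶ (AlgSp.yon S).obj T)
    (sq : IsPullback fst snd p ξ) : AlgSp.IsSurjectiveMor snd := by
  have := AlgSp.repWith_isStableUnderBaseChange (S := S) @Surjective
  exact Groth.Agent.H49.points_surjective_of_repWith_surjective snd
    (MorphismProperty.of_isPullback (P := AlgSp.RepWith @Surjective) sq hpS)

end atlas

/-- the category of an algebraic space is a Deligne–Mumford stack -/
theorem isDM_ofSp (F : AlgSp.Space S) : IsDM Scheme.fppfPrecoverage (ofSp F.obj) := by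
  obtain ⟨W, p, hpE, hpS⟩ := F.property.atlas
  have hrep : RepByAlgSp (ofSp F.obj) := ⟨F, BasedFunctor.id _, isEquivOver_id _⟩
  refine ⟨⟨isStack_of_repByAlgSp hrep, ?_, ?_⟩, ?_⟩
  · exact repByAlgSp1_diag_iff.mpr
      (fun U x => repByAlgSp1_of_repByAlgSp (repByAlgSp_overCat U) hrep x)
  · exact ⟨W, ofSection (uliftYonedaEquiv.{u+1} p.hom),
      repByAlgSpWith_ofSection _ F.property p
        (baseChange_locP_of_etale p hpE Groth.Agent.H50.goodClass_smooth),
      repByAlgSpWith_ofSection _ F.property p (baseChange_surj_of_surjective p hpS)⟩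
  · exact ⟨W, ofSection (uliftYonedaEquiv.{u+1} p.hom),
      repByAlgSpWith_ofSection _ F.property p (baseChange_isEtaleMor_of_etale p hpE),
      repByAlgSpWith_ofSection _ F.property p (baseChange_surj_of_surjective p hpS)⟩

theorem isDM_of_repByAlgSp {𝒳 : AlgSt.Cat S} (hr : RepByAlgSp 𝒳) :
    IsDM Scheme.fppfPrecoverage 𝒳 := by
  obtain ⟨F, e, he⟩ := hr
  exact (isDM_iff_of_isEquivOver _ e he).mp (isDM_ofSp F)

end Groth.Agent.H64.PTh
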