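import Groth.Agent.H64.Psh.AlgStackRep
import Groth.Agent.H64.Psh.PProps
import Groth.Agent.H64.OverMapRep
import Groth.Agent.H64.Stk.Whisker

set_option autoImplicit false
open CategoryTheory CategoryTheory.Limits Opposite AlgebraicGeometry
universe u

/-! Smooth surjective charts over a given smooth surjective chart of the target. -/

namespace Groth.Agent.H64.PTh

open Groth.Agent.H32 Groth.Agent.H64.Recog Groth.Agent.H64.FpRep AlgSt

variable {S : Scheme.{u}}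

theorem exists_chart_over {𝒳 𝒴 : AlgSt.Cat S}
    (hat : HasAtlas (AlgSp.LocP @Smooth) 𝒳)
    (f : 𝒳 ⥤ᵇ 𝒴) (V : Over S) (y : FibCat.overCat V ⥤ᵇ 𝒴)
    (hy : RepByAlgSpWith (AlgSp.LocP @Smooth) y) (hy' : RepByAlgSpWith AlgSp.IsSurjectiveMor y) :
    ∃ (U : Over S) (a : U ⟶ V) (x : FibCat.overCat U ⥤ᵇ 𝒳),
      RepByAlgSpWith (AlgSp.LocP @Smooth) x ∧ RepByAlgSpWith AlgSp.IsSurjectiveMor x ∧
        Nonempty (BasedFunctor.comp x f ≅ BasedFunctor.comp (AlgSt.overMap a) y) := by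
  obtain ⟨U₀, x₀, hx₁, hx₂⟩ := hat
  set z : FibCat.overCat U₀ ⥤ᵇ 𝒴 := BasedFunctor.comp x₀ f with hz
  obtain ⟨F, eF, heF⟩ := (RepByAlgSpWith.repByAlgSp1 hy) U₀ z
  obtain ⟨W, p, hpE, hpS⟩ := F.property.atlas
  let s : FibCat.overCat W ⥤ᵇ ofSp F.obj := ofSection (uliftYonedaEquiv.{u+1} p.hom)
  have hF : FibCat.IsFibGrpd (ofSp F.obj).p := Stk.isFibGrpd_ofPsh _
  have hW : FibCat.IsFibGrpd (FibCat.overCat W).p := (isFibSetoid_overCat W).1
  have hU₀ : FibCat.IsFibGrpd (FibCat.overCat U₀).p := (isFibSetoid_overCat U₀).1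
  have key : ∀ (Q : MorphismProperty (AlgSp.Sp S)), StableBC Q →
      (∀ ⦃X Y Z : AlgSp.Sp S⦄, AlgSp.IsAlgSpace X → AlgSp.IsAlgSpace Y → AlgSp.IsAlgSpace Z →
        ∀ (a : X ⟶ Y) (b : Y ⟶ Z), Q a → Q b → Q (a ≫ b)) →
      AlgSp.IsLocalOnBase AlgSp.IsFppfCover Q → RepByAlgSpWith Q s → RepByAlgSpWith Q y →
      RepByAlgSpWith Q x₀ →
      RepByAlgSpWith Q (BasedFunctor.comp
        (BasedFunctor.comp s (BasedFunctor.comp eF (FibCat.fpFst z y))) x₀) := by
    intro Q hQb hQc hQ hs hyQ hxQ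
    have h1 : RepByAlgSpWith Q (FibCat.fpFst z y) := repByAlgSpWith_fpFst Q y z hyQ
    have h2 : RepByAlgSpWith Q (BasedFunctor.comp eF (FibCat.fpFst z y)) :=
      repByAlgSpWith_of_square Q (FibCat.fpFst z y) _ eF (BasedFunctor.id _) heF
        (isEquivOver_id _) (Iso.refl _) h1
    have h3 : RepByAlgSpWith Q (BasedFunctor.comp s (BasedFunctor.comp eF (FibCat.fpFst z y))) :=
      repByAlgSpWith_comp hW hF hQb hQc hQ s _ hs h2
    exact repByAlgSpWith_comp hW hU₀ hQb hQc hQ _ x₀ h3 hxQ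
  obtain ⟨a, ⟨γ⟩⟩ := exists_iso_ovMap
    (BasedFunctor.comp s (BasedFunctor.comp eF (FibCat.fpSnd z y)))
  refine ⟨W, a, BasedFunctor.comp
        (BasedFunctor.comp s (BasedFunctor.comp eF (FibCat.fpFst z y))) x₀, ?_, ?_, ?_⟩
  · exact key _ (stableBC_locP Groth.Agent.H50.goodClass_smooth)
      (fun _ _ _ _ hY _ a b ha hb => Groth.Agent.H50.goodClass_smooth.locP_comp hY a b ha hb)
      isLocalOnBase_fppf_smooth
      (repByAlgSpWith_ofSection _ F.property p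
        (baseChange_locP_of_etale p hpE Groth.Agent.H50.goodClass_smooth)) hy hx₁
  · exact key _ stableBC_surj
      (fun _ _ _ _ _ _ _ _ ha hb => Groth.Agent.H49.isSurjectiveMor_comp ha hb)
      isLocalOnBase_fppf_surj
      (repByAlgSpWith_ofSection _ F.property p (baseChange_surj_of_surjective p hpS)) hy' hx₂
  · have e1 : BasedFunctor.comp (BasedFunctor.comp s eF) (BasedFunctor.comp (FibCat.fpFst z y) z) ≅
        BasedFunctor.comp (BasedFunctor.comp s eF) (BasedFunctor.comp (FibCat.fpSnd z y) y) :=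
      bwlIso (BasedFunctor.comp s eF) (FibCat.fpIso z y)
    have e2 : BasedFunctor.comp (BasedFunctor.comp s (BasedFunctor.comp eF (FibCat.fpSnd z y))) y ≅
        BasedFunctor.comp (ovMap a) y := bwrIso γ y
    exact ⟨e1 ≪≫ e2⟩

end Groth.Agent.H64.PTh
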