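import Groth.Agent.H64.Psh.DiagOfComp
import Groth.Agent.H64.Psh.DiagDM
import Groth.Agent.S10543
import Groth.Agent.S10541

set_option autoImplicit false
set_option backward.isDefEq.respectTransparency false
open CategoryTheory CategoryTheory.Limits Opposite AlgebraicGeometry
universe u

/-! If `f ≫ g` is DM (quasi-DM), so is `f`. -/

namespace Groth.Agent.H64.PTh

open Groth.Agent.H32 Groth.Agent.H64.Recog Groth.Agent.H64.FpRep AlgSt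

variable {S : Scheme.{u}}

/-- the general statement for a good class of morphisms of schemes -/
theorem locP_diag_of_comp {Q : MorphismProperty Scheme.{u}} (hG : Groth.Agent.H50.GoodClass Q)
    (hQl : AlgSp.IsLocalOnBase (AlgSp.IsFpqcCover (S := S)) (AlgSp.LocP Q))
    (hQd : ∀ (V : AlgSp.Space S) (T : Over S) (b : V.obj ⟶ (AlgSp.yon S).obj T),
      AlgSp.LocP Q (pullback.diagonal b))
    {𝒳 𝒴 𝒵 : AlgSt.Cat S} (h𝒳 : FibCat.IsFibGrpd 𝒳.p) (h𝒴 : FibCat.IsFibGrpd 𝒴.p)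
    (h𝒵 : FibCat.IsFibGrpd 𝒵.p) (f : 𝒳 ⥤ᵇ 𝒴) (g : 𝒴 ⥤ᵇ 𝒵)
    (hg : RepByAlgSp1 (FibCat.diag g))
    (h : RepByAlgSpWith (AlgSp.LocP Q) (FibCat.diag (BasedFunctor.comp f g))) :
    RepByAlgSpWith (AlgSp.LocP Q) (FibCat.diag f) :=
  repByAlgSpWith_diag_of_comp (AlgSp.LocP Q) (stableBC_locP hG)
    (fun _ _ _ _ hY _ a b ha hb => hG.locP_comp hY a b ha hb)
    (isLocalOnBase_fppf_of_fpqc hQl) hQd h𝒳 h𝒴 h𝒵 f g hg h

/-- the diagonal of a morphism from an algebraic space is locally quasi-finite -/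
theorem locP_lqf_diagonal {Y X : AlgSp.Sp S} (hY : AlgSp.IsAlgSpace Y) (b : Y ⟶ X) :
    AlgSp.LocP (@LocallyQuasiFinite ⊓ @LocallyOfFiniteType) (pullback.diagonal b) := by
  obtain ⟨-, -, h1, -, -⟩ := Groth.Agent.H50.repWith_diagonal_of_isAlgSpace hY b
  have hG := Groth.Agent.H50.goodClass_lqf.{u}
  have := hG.comp
  exact Groth.Agent.H50.locP_of_repWith _ hG.etale_le _ h1

theorem isDMMor_of_comp {𝒳 𝒴 𝒵 : AlgSt.Cat S} (h𝒳 : FibCat.IsFibGrpd 𝒳.p)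
    (h𝒴 : FibCat.IsFibGrpd 𝒴.p) (h𝒵 : FibCat.IsFibGrpd 𝒵.p) (f : 𝒳 ⥤ᵇ 𝒴) (g : 𝒴 ⥤ᵇ 𝒵)
    (hg : RepByAlgSp1 (FibCat.diag g)) (h : AlgSt.IsDMMor (BasedFunctor.comp f g)) :
    AlgSt.IsDMMor f :=
  locP_diag_of_comp Groth.Agent.H50.goodClass_unram (Groth.Agent.S10543.result S)
    (fun V _ b => locP_unram_diagonal V.property b) h𝒳 h𝒴 h𝒵 f g hg h

theorem isQuasiDMMor_of_comp {𝒳 𝒴 𝒵 : AlgSt.Cat S} (h𝒳 : FibCat.IsFibGrpd 𝒳.p)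
    (h𝒴 : FibCat.IsFibGrpd 𝒴.p) (h𝒵 : FibCat.IsFibGrpd 𝒵.p) (f : 𝒳 ⥤ᵇ 𝒴) (g : 𝒴 ⥤ᵇ 𝒵)
    (hg : RepByAlgSp1 (FibCat.diag g)) (h : AlgSt.IsQuasiDMMor (BasedFunctor.comp f g)) :
    AlgSt.IsQuasiDMMor f :=
  locP_diag_of_comp Groth.Agent.H50.goodClass_lqf (Groth.Agent.S10541.result S).1
    (fun V _ b => locP_lqf_diagonal V.property b) h𝒳 h𝒴 h𝒵 f g hg h

end Groth.Agent.H64.PTh
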