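import Groth.Agent.H64.Psh.DiagDescent
import Groth.Agent.H64.Psh.DMOfComp

set_option autoImplicit false
set_option backward.isDefEq.respectTransparency false
open CategoryTheory CategoryTheory.Limits Opposite AlgebraicGeometry
universe u

/-! DM descends along fppf coverings of the target. -/

namespace Groth.Agent.H64.PTh

open Groth.Agent.H32 Groth.Agent.H64.Recog Groth.Agent.H64.FpRep AlgSt

variable {S : Scheme.{u}}

theorem isDMMor_of_fpFst_fppf {𝒳 𝒴 𝒲 : AlgSt.Cat S} (h𝒳 : FibCat.IsFibGrpd 𝒳.p)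
    (h𝒴 : FibCat.IsFibGrpd 𝒴.p) (h𝒲 : FibCat.IsFibGrpd 𝒲.p)
    (f : 𝒳 ⥤ᵇ 𝒴) (hΔ : RepByAlgSp1 (FibCat.diag f)) (w : 𝒲 ⥤ᵇ 𝒴)
    (hw₁ : RepByAlgSpWith (AlgSp.LocP @Flat) w)
    (hw₂ : RepByAlgSpWith (AlgSp.LocP @LocallyOfFinitePresentation) w)
    (hw₃ : RepByAlgSpWith AlgSp.IsSurjectiveMor w)
    (h : AlgSt.IsDMMor (FibCat.fpFst w f)) : AlgSt.IsDMMor f :=
  repByAlgSpWith_diag_of_fpFst_fppf h𝒳 h𝒴 h𝒲 (stableBC_locP Groth.Agent.H50.goodClass_unram)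
    (isLocalOnBase_fppf_of_fpqc (Groth.Agent.S10543.result S)) f hΔ w hw₁ hw₂ hw₃ h

end Groth.Agent.H64.PTh
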