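import Groth.Agent.H64.Psh.PDescent2
import Groth.Agent.H64.Fib.DiagLift2
import Groth.Agent.H64.DiagBCAlg

set_option autoImplicit false
open CategoryTheory CategoryTheory.Limits Opposite AlgebraicGeometry
universe u

/-! Descent of properties of the diagonal along an fppf covering of the target. -/

namespace Groth.Agent.H64.PTh

open Groth.Agent.H32 Groth.Agent.H64.Recog Groth.Agent.H64.FpRep AlgSt

variable {S : Scheme.{u}}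

theorem repByAlgSpWith_diag_of_fpFst_fppf {P : MorphismProperty (AlgSp.Sp S)}
    {𝒳 𝒴 𝒲 : AlgSt.Cat S} (h𝒳 : FibCat.IsFibGrpd 𝒳.p) (h𝒴 : FibCat.IsFibGrpd 𝒴.p)
    (h𝒲 : FibCat.IsFibGrpd 𝒲.p) (hPb : StableBC P)
    (hP : AlgSp.IsLocalOnBase AlgSp.IsFppfCover P)
    (f : 𝒳 ⥤ᵇ 𝒴) (hΔ : RepByAlgSp1 (FibCat.diag f)) (w : 𝒲 ⥤ᵇ 𝒴)
    (hw₁ : RepByAlgSpWith (AlgSp.LocP @Flat) w)
    (hw₂ : RepByAlgSpWith (AlgSp.LocP @LocallyOfFinitePresentation) w)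
    (hw₃ : RepByAlgSpWith AlgSp.IsSurjectiveMor w)
    (h : RepByAlgSpWith P (FibCat.diag (FibCat.fpFst w f))) :
    RepByAlgSpWith P (FibCat.diag f) := by
  have hfp : FibCat.IsFibGrpd (FibCat.fp f f).p := isFibGrpd_fp _ _ h𝒳 h𝒳 h𝒴
  have hπ : FibCat.IsFibGrpd (FibCat.fp w f).p := isFibGrpd_fp _ _ h𝒲 h𝒳 h𝒴
  have hππ : FibCat.IsFibGrpd (FibCat.fp (FibCat.fpFst w f) (FibCat.fpFst w f)).p :=
    isFibGrpd_fp _ _ hπ hπ h𝒲
  have h' : RepByAlgSpWith P (FibCat.fpFst (diagBCq f w) (FibCat.diag f)) :=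
    repByAlgSpWith_of_square' P (FibCat.fpFst (diagBCq f w) (FibCat.diag f))
      (FibCat.diag (FibCat.fpFst w f)) (diagBCΛ f w) (BasedFunctor.id _)
      (isEquivOver_diagBCΛ f w h𝒳 h𝒴 h𝒲) (isEquivOver_id _) (Iso.refl _) h
  apply repByAlgSpWith_of_hasP (FibCat.diag f)
  intro U y
  obtain ⟨V, a, eV, heV, ⟨αV⟩⟩ := exists_presentation h𝒳 hfp (FibCat.diag f) hΔ (yonSpace U) y
  refine ⟨V, a, eV, heV, ⟨αV⟩, ?_⟩
  let y₀ : ofSp (yonSpace U).obj ⥤ᵇ 𝒴 :=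
    BasedFunctor.comp (BasedFunctor.comp y (FibCat.fpFst f f)) f
  obtain ⟨T, t, eT, heT, ⟨αT⟩, hflat⟩ := hasP_of_repByAlgSpWith h𝒲 h𝒴
    (stableBC_locP Groth.Agent.H50.goodClass_flat) isLocalOnBase_fppf_flat w hw₁ (yonSpace U) y₀
  have hlfp := prop_of_presentation h𝒲 h𝒴 (stableBC_locP Groth.Agent.H50.goodClass_lfp)
    isLocalOnBase_fppf_lfp w hw₂ (yonSpace U) y₀ T t eT heT αT
  have hsurj := prop_of_presentation h𝒲 h𝒴 stableBC_surj isLocalOnBase_fppf_surj w hw₃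
    (yonSpace U) y₀ T t eT heT αT
  let q : ofSp T.obj ⥤ᵇ 𝒲 := BasedFunctor.comp eT (FibCat.fpSnd y₀ w)
  let yT : ofSp T.obj ⥤ᵇ FibCat.fp f f := BasedFunctor.comp (ofSpMap t.hom) y
  let α : BasedFunctor.comp q w ≅
      BasedFunctor.comp (BasedFunctor.comp yT (FibCat.fpFst f f)) f :=
    (bwlIso eT (FibCat.fpIso y₀ w)).symm ≪≫ bwrIso αT y₀
  exact prop_of_cover_lift h𝒳 hfp hππ hPb hP (FibCat.diag f) (diagBCq f w) h' (yonSpace U) y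
    (fun _ : PUnit.{u+1} => T) (fun _ => t)
    ⟨fun _ => ⟨hflat, hlfp⟩, fun x => ⟨PUnit.unit, hsurj x⟩⟩
    (fun _ => dlgLift f w yT q α) (fun _ => (dlgIso f w yT q α).symm) V a eV heV αV

end Groth.Agent.H64.PTh
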