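import Groth.Agent.H64.Psh.DiagRepMor
import Groth.Agent.H64.Psh.PCompInst

set_option autoImplicit false
set_option backward.isDefEq.respectTransparency false
open CategoryTheory CategoryTheory.Limits Opposite AlgebraicGeometry
universe u

/-! Consequences: the diagonal of a morphism representable by algebraic spaces is a monomorphism,
separated, ... -/

namespace Groth.Agent.H64.PTh

open Groth.Agent.H32 Groth.Agent.H64.Recog Groth.Agent.H64.FpRep AlgSt

variable {S : Scheme.{u}}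

theorem isMono_diag_of_repByAlgSp1 {𝒳 𝒴 : AlgSt.Cat S} (h𝒳 : FibCat.IsFibGrpd 𝒳.p)
    (h𝒴 : FibCat.IsFibGrpd 𝒴.p) (f : 𝒳 ⥤ᵇ 𝒴) (hf : RepByAlgSp1 f) :
    AlgSt.IsMono (FibCat.diag f) :=
  repByAlgSpWith_diag_of_repByAlgSp1 (MorphismProperty.monomorphisms (AlgSp.Sp S))
    (stableBC_of_inst _)
    (fun (V : AlgSp.Space S) (T : Over S) (b : V.obj ⟶ (AlgSp.yon S).obj T) =>
      (inferInstance : Mono (pullback.diagonal b))) h𝒳 h𝒴 f hf

theorem stableBC_isSeparatedMor : StableBC (AlgSp.IsSeparatedMor (S := S)) :=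
  stableBC_of_inst ((AlgSp.RepWith @IsClosedImmersion).diagonal)

theorem isSeparatedMor_of_mono {X Y : AlgSp.Sp S} (g : X ⟶ Y) [Mono g] : AlgSp.IsSeparatedMor g := by
  have : IsIso (pullback.diagonal g) := (pullback.isIso_diagonal_iff g).2 inferInstance
  exact MorphismProperty.of_isIso (AlgSp.RepWith @IsClosedImmersion) _

theorem isSeparatedMor_diag_of_repByAlgSp1 {𝒳 𝒴 : AlgSt.Cat S} (h𝒳 : FibCat.IsFibGrpd 𝒳.p)
    (h𝒴 : FibCat.IsFibGrpd 𝒴.p) (f : 𝒳 ⥤ᵇ 𝒴) (hf : RepByAlgSp1 f) :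
    RepByAlgSpWith AlgSp.IsSeparatedMor (FibCat.diag f) :=
  repByAlgSpWith_diag_of_repByAlgSp1 (AlgSp.IsSeparatedMor (S := S)) stableBC_isSeparatedMor
    (fun (V : AlgSp.Space S) (T : Over S) (b : V.obj ⟶ (AlgSp.yon S).obj T) =>
      isSeparatedMor_of_mono (pullback.diagonal b)) h𝒳 h𝒴 f hf

end Groth.Agent.H64.PTh
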