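import Groth.Agent.H64.Psh.Recog

set_option autoImplicit false
open CategoryTheory CategoryTheory.Limits Opposite
universe w v₃ u₃ v₂ u₂ v u

/-! Functors over `C` between categories of presheaves are maps of presheaves. -/

namespace Groth.Agent.H64.Recog

variable {C : Type u} [Category.{v} C] {P Q : Cᵒᵖ ⥤ Type w}

/-- the map of presheaves underlying a functor over `C` between their categories -/
def pshMapOf (Ψ : Stk.ofPsh P ⥤ᵇ Stk.ofPsh Q) : P ⟶ Q where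
  app T := TypeCat.ofHom (fun s => bsec Ψ (⟨T.unop, s⟩ : Stk.EltObj P))
  naturality T T' g := by
    ext s
    let m : (⟨T'.unop, P.map g s⟩ : Stk.EltObj P) ⟶ ⟨T.unop, s⟩ := ⟨g.unop, rfl⟩
    exact (bsec_naturality Ψ m).symm

theorem pshMapOf_app (Ψ : Stk.ofPsh P ⥤ᵇ Stk.ofPsh Q) (T : C) (s : P.obj (op T)) :
    (pshMapOf Ψ).app (op T) s = bsec Ψ (⟨T, s⟩ : Stk.EltObj P) := rfl

theorem bsec_ofPshMap (a : P ⟶ Q) (x : Stk.EltObj P) :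
    bsec (Stk.ofPshMap a) x = a.app (op x.base) x.sec :=
  secAt_rfl Q _

theorem pshMapOf_ofPshMap (a : P ⟶ Q) : pshMapOf (Stk.ofPshMap a) = a := by
  ext T s
  exact bsec_ofPshMap a ⟨T.unop, s⟩

/-- a functor over `C` between categories of presheaves is isomorphic to the functor of its map of
presheaves -/
theorem nonempty_iso_ofPshMap (Ψ : Stk.ofPsh P ⥤ᵇ Stk.ofPsh Q) :
    Nonempty (Stk.ofPshMap (pshMapOf Ψ) ≅ Ψ) := by
  apply nonempty_biso_of_bsec_eq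
  intro x
  rw [bsec_ofPshMap]
  rfl

theorem pshMapOf_eq_of_iso {Ψ Ψ' : Stk.ofPsh P ⥤ᵇ Stk.ofPsh Q} (e : Ψ ≅ Ψ') :
    pshMapOf Ψ = pshMapOf Ψ' := by
  ext T s
  exact bsec_eq_of_hom e.hom _

theorem pshMapOf_injective_of_isEquivOver {Ψ : Stk.ofPsh P ⥤ᵇ Stk.ofPsh Q}
    (hΨ : FibCat.IsEquivOver Ψ) (T : C) :
    Function.Injective ((pshMapOf Ψ).app (op T)) := by
  intro s s' h
  have h : bsec Ψ (⟨T, s⟩ : Stk.EltObj P) = bsec Ψ (⟨T, s'⟩ : Stk.EltObj P) := h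
  obtain ⟨φ, hφ⟩ := exists_hom_of_secAt_eq Q (x := Ψ.obj ⟨T, s⟩) (y := Ψ.obj ⟨T, s'⟩)
    (Ψ.w_obj ⟨T, s⟩) (Ψ.w_obj ⟨T, s'⟩) h
  have := full_of_isEquivOver hΨ
  obtain ⟨m, hm⟩ := Ψ.toFunctor.map_surjective φ
  have hm' : (Stk.ofPsh Q).p.IsHomLift (𝟙 T) (Ψ.map m) := by
    have : Ψ.map m = φ := hm
    rw [this]; exact hφ
  have hm2 : (Stk.ofPsh P).p.IsHomLift (𝟙 T) m := (BasedFunctor.isHomLift_iff Ψ _ _).mp hm'
  have h3 := secAt_of_hom P m (𝟙 T) hm2 rfl rfl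
  rw [secAt_rfl, secAt_rfl] at h3
  simpa using h3.symm

theorem pshMapOf_surjective_of_isEquivOver {Ψ : Stk.ofPsh P ⥤ᵇ Stk.ofPsh Q}
    (hΨ : FibCat.IsEquivOver Ψ) (T : C) :
    Function.Surjective ((pshMapOf Ψ).app (op T)) := by
  intro q
  obtain ⟨ξ, e, he⟩ := fiberwise_essSurj_of_isEquivOver hΨ (⟨T, q⟩ : Stk.EltObj Q)
  have he' : (Stk.ofPsh Q).p.IsHomLift (𝟙 T) e.hom := he
  have hb : ξ.base = T := (Ψ.w_obj ξ).symm.trans (lift_domain_eq _ he')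
  obtain ⟨T₀, s₀⟩ := ξ
  dsimp only at hb
  subst hb
  refine ⟨s₀, ?_⟩
  show bsec Ψ (⟨T₀, s₀⟩ : Stk.EltObj P) = q
  have h3 := secAt_of_hom Q e.hom (𝟙 T₀) he' (Ψ.w_obj ⟨T₀, s₀⟩) rfl
  rw [secAt_rfl] at h3
  show secAt Q (Ψ.obj ⟨T₀, s₀⟩) _ = q
  rw [← h3]
  simp

theorem isIso_pshMapOf {Ψ : Stk.ofPsh P ⥤ᵇ Stk.ofPsh Q} (hΨ : FibCat.IsEquivOver Ψ) :
    IsIso (pshMapOf Ψ) := by
  have : ∀ T : Cᵒᵖ, IsIso ((pshMapOf Ψ).app T) := by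
    intro T
    rw [isIso_iff_bijective]
    exact ⟨pshMapOf_injective_of_isEquivOver hΨ T.unop,
      pshMapOf_surjective_of_isEquivOver hΨ T.unop⟩
  exact NatIso.isIso_of_isIso_app _

end Groth.Agent.H64.Recog
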