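import Groth.Agent.H64.Psh.PDescent2
import Groth.Agent.H64.Fib.DiagSquare
import Groth.Agent.H64.Psh.MapOf

set_option autoImplicit false
open CategoryTheory CategoryTheory.Limits Opposite AlgebraicGeometry
universe u

/-! The diagonal of a morphism of sheaves, as a functor of categories over `(Sch/S)`. -/

namespace Groth.Agent.H64.PTh

open Groth.Agent.H32 Groth.Agent.H64.Recog Groth.Agent.H64.FpRep AlgSt

variable {S : Scheme.{u}}

theorem sp_comp_app {V X W : AlgSp.Sp S} (δ : V ⟶ X) (p : X ⟶ W) (T : (Over S)ᵒᵖ)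
    (s : V.obj.obj T) : p.hom.app T (δ.hom.app T s) = (δ ≫ p).hom.app T s := rfl

/-- the diagonal of `ofSpMap b` is the functor of the diagonal `V ⟶ V ×_Z V` followed by the
comparison equivalence -/
theorem nonempty_iso_diag_ofSpMap {V Z X : AlgSp.Sp S} (b : V ⟶ Z) (fst snd : X ⟶ V)
    (sq' : IsPullback fst.hom snd.hom b.hom b.hom) (δ : V ⟶ X) (h1 : δ ≫ fst = 𝟙 V)
    (h2 : δ ≫ snd = 𝟙 V) :
    Nonempty (BasedFunctor.comp (ofSpMap δ) (pbLiftGSq sq') ≅ FibCat.diag (ofSpMap b)) := by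
  have k1 : ∀ a : (ofSp V).obj,
      bsec (BasedFunctor.comp (BasedFunctor.comp (ofSpMap δ) (pbLiftGSq sq'))
        (FibCat.fpFst (ofSpMap b) (ofSpMap b))) a =
      bsec (BasedFunctor.comp (FibCat.diag (ofSpMap b)) (FibCat.fpFst (ofSpMap b) (ofSpMap b))) a := by
    intro a
    have e1 : bsec (BasedFunctor.comp (BasedFunctor.comp (ofSpMap δ) (pbLiftGSq sq'))
        (FibCat.fpFst (ofSpMap b) (ofSpMap b))) a = fst.hom.app (op a.base) (δ.hom.app (op a.base) a.sec) :=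
      secAt_rfl V.obj _
    have e2 : bsec (BasedFunctor.comp (FibCat.diag (ofSpMap b))
        (FibCat.fpFst (ofSpMap b) (ofSpMap b))) a = a.sec := secAt_rfl V.obj _
    rw [e1, e2, sp_comp_app, h1]
    rfl
  have k2 : ∀ a : (ofSp V).obj,
      bsec (BasedFunctor.comp (BasedFunctor.comp (ofSpMap δ) (pbLiftGSq sq'))
        (FibCat.fpSnd (ofSpMap b) (ofSpMap b))) a =
      bsec (BasedFunctor.comp (FibCat.diag (ofSpMap b)) (FibCat.fpSnd (ofSpMap b) (ofSpMap b))) a := by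
    intro a
    have e1 : bsec (BasedFunctor.comp (BasedFunctor.comp (ofSpMap δ) (pbLiftGSq sq'))
        (FibCat.fpSnd (ofSpMap b) (ofSpMap b))) a = snd.hom.app (op a.base) (δ.hom.app (op a.base) a.sec) :=
      secAt_rfl V.obj _
    have e2 : bsec (BasedFunctor.comp (FibCat.diag (ofSpMap b))
        (FibCat.fpSnd (ofSpMap b) (ofSpMap b))) a = a.sec := secAt_rfl V.obj _
    rw [e1, e2, sp_comp_app, h2]
    rfl
  obtain ⟨e₁⟩ := nonempty_biso_of_bsec_eq k1
  obtain ⟨e₂⟩ := nonempty_biso_of_bsec_eq k2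
  refine ⟨fpFunctorIsoMk (ofSpMap b) (ofSpMap b) e₁ e₂ ?_⟩
  intro a
  have l1 : (ofSp V).p.IsHomLift (𝟙 a.base) (bapp e₁.hom a) := bapp_isHomLift' e₁.hom a rfl
  have l2 : (ofSp V).p.IsHomLift (𝟙 a.base) (bapp e₂.hom a) := bapp_isHomLift' e₂.hom a rfl
  have l1' : (ofSp Z).p.IsHomLift (𝟙 a.base) ((ofSpMap b).map (bapp e₁.hom a)) :=
    (BasedFunctor.isHomLift_iff (ofSpMap b) _ _).mpr l1
  have l2' : (ofSp Z).p.IsHomLift (𝟙 a.base) ((ofSpMap b).map (bapp e₂.hom a)) :=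
    (BasedFunctor.isHomLift_iff (ofSpMap b) _ _).mpr l2
  have l3 : (ofSp Z).p.IsHomLift (𝟙 a.base) ((FibCat.diag (ofSpMap b)).obj a).obj.iso.hom :=
    fp_iso_isHomLift _ _ ((FibCat.diag (ofSpMap b)).obj a)
  have l4 : (ofSp Z).p.IsHomLift (𝟙 a.base)
      ((BasedFunctor.comp (ofSpMap δ) (pbLiftGSq sq')).obj a).obj.iso.hom :=
    fp_iso_isHomLift _ _ ((BasedFunctor.comp (ofSpMap δ) (pbLiftGSq sq')).obj a)
  exact eltHom_ext Z.obj (𝟙 a.base) _ _ (lift_id_comp_id _ l1' l3) (lift_id_comp_id _ l4 l2')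

/-- the diagonal of a functor from (a category equivalent to that of) an algebraic space to a
scheme has `P` as soon as the diagonals of maps of algebraic spaces do -/
theorem repByAlgSpWith_diag_of_space (P : MorphismProperty (AlgSp.Sp S)) (hPb : StableBC P)
    {𝒬 : AlgSt.Cat S} {T : Over S} (π : 𝒬 ⥤ᵇ FibCat.overCat T) (V : AlgSp.Space S)
    (eV : ofSp V.obj ⥤ᵇ 𝒬) (heV : FibCat.IsEquivOver eV)
    (hP : ∀ b : V.obj ⟶ (AlgSp.yon S).obj T, P (pullback.diagonal b)) :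
    RepByAlgSpWith P (FibCat.diag π) := by
  let Φ' : ofSp V.obj ⥤ᵇ ofSch T :=
    BasedFunctor.comp eV (BasedFunctor.comp π (ofOverCat T))
  let b : V.obj ⟶ (AlgSp.yon S).obj T := ObjectProperty.homMk (pshMapOf Φ')
  obtain ⟨β⟩ : Nonempty (ofSpMap b ≅ Φ') := nonempty_iso_ofPshMap Φ'
  have hX : AlgSp.IsAlgSpace (pullback b b) :=
    Groth.Agent.H49.isAlgSpace_of_isPullback (IsPullback.of_hasPullback b b)
      (AlgSp.IsAlgSpace.yon_obj T).diag V.property V.property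
  let X : AlgSp.Space S := ⟨pullback b b, hX⟩
  let δ : V ⟶ X := ObjectProperty.homMk (pullback.diagonal b)
  have hδ : RepByAlgSpWith P (ofSpMap δ.hom) := repByAlgSpWith_ofSpMap hPb δ (hP b)
  have sq' : IsPullback (pullback.fst b b).hom (pullback.snd b b).hom b.hom b.hom :=
    (IsPullback.of_hasPullback b b).map (sheafToPresheaf _ _)
  have hL : FibCat.IsEquivOver (pbLiftGSq sq') := isEquivOver_pbLiftGSq sq'
  obtain ⟨ν⟩ := nonempty_iso_diag_ofSpMap b (pullback.fst b b) (pullback.snd b b) sq'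
    (pullback.diagonal b) (pullback.diagonal_fst b) (pullback.diagonal_snd b)
  have h1 : RepByAlgSpWith P (FibCat.diag (ofSpMap b)) :=
    repByAlgSpWith_of_square' P (FibCat.diag (ofSpMap b)) (ofSpMap δ.hom) (BasedFunctor.id _)
      (pbLiftGSq sq') (isEquivOver_id _) hL ν hδ
  have := full_of_isEquivOver (isEquivOver_toOverCat T)
  have := faithful_of_isEquivOver (isEquivOver_toOverCat T)
  let α : BasedFunctor.comp (ofSpMap b) (toOverCat T) ≅ BasedFunctor.comp eV π :=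
    bwrIso β (toOverCat T)
  exact repByAlgSpWith_of_square' P (FibCat.diag π) (FibCat.diag (ofSpMap b)) eV
    (diagSqMap π (ofSpMap b) eV (toOverCat T) α) heV
    (isEquivOver_diagSqMap π (ofSpMap b) eV (toOverCat T) α heV)
    (diagSqIso π (ofSpMap b) eV (toOverCat T) α) h1

end Groth.Agent.H64.PTh
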