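import Groth.Agent.H64.Psh.PKeyS
import Groth.Agent.H64.Psh.PCompInst
import Mathlib.AlgebraicGeometry.Morphisms.Immersion
import Mathlib.AlgebraicGeometry.Morphisms.ClosedImmersion

set_option autoImplicit false
open CategoryTheory CategoryTheory.Limits Opposite AlgebraicGeometry
universe u

/-! Compositions of morphisms representable by schemes with a property. -/

namespace Groth.Agent.H64.PTh

open Groth.Agent.H32 Groth.Agent.H64.Recog Groth.Agent.H64.FpRep AlgSt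

variable {S : Scheme.{u}}

theorem repByAlgSpWith_comp_repWith (Q : MorphismProperty Scheme.{u}) [Q.IsStableUnderBaseChange]
    [Q.IsMultiplicative]
    {𝒳 𝒴 𝒵 : AlgSt.Cat S} (h𝒳 : FibCat.IsFibGrpd 𝒳.p) (h𝒴 : FibCat.IsFibGrpd 𝒴.p)
    (f : 𝒳 ⥤ᵇ 𝒴) (g : 𝒴 ⥤ᵇ 𝒵) (hf : RepByAlgSpWith (AlgSp.RepWith Q) f)
    (hg : RepByAlgSpWith (AlgSp.RepWith Q) g) :
    RepByAlgSpWith (AlgSp.RepWith Q) (BasedFunctor.comp f g) :=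
  repByAlgSpWith_comp_sch h𝒳 h𝒴 (stableBC_of_inst _)
    (fun _ _ _ _ _ _ a b ha hb => (AlgSp.RepWith (S := S) Q).comp_mem a b ha hb)
    (schLocal_repWith Q) f g hf hg

theorem isImm_comp {𝒳 𝒴 𝒵 : AlgSt.Cat S} (h𝒳 : FibCat.IsFibGrpd 𝒳.p) (h𝒴 : FibCat.IsFibGrpd 𝒴.p)
    (f : 𝒳 ⥤ᵇ 𝒴) (g : 𝒴 ⥤ᵇ 𝒵) (hf : AlgSt.IsImm f) (hg : AlgSt.IsImm g) :
    AlgSt.IsImm (BasedFunctor.comp f g) :=
  repByAlgSpWith_comp_repWith @IsImmersion h𝒳 h𝒴 f g hf hg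

theorem isClosedImm_comp {𝒳 𝒴 𝒵 : AlgSt.Cat S} (h𝒳 : FibCat.IsFibGrpd 𝒳.p)
    (h𝒴 : FibCat.IsFibGrpd 𝒴.p)
    (f : 𝒳 ⥤ᵇ 𝒴) (g : 𝒴 ⥤ᵇ 𝒵) (hf : AlgSt.IsClosedImm f) (hg : AlgSt.IsClosedImm g) :
    AlgSt.IsClosedImm (BasedFunctor.comp f g) :=
  repByAlgSpWith_comp_repWith @IsClosedImmersion h𝒳 h𝒴 f g hf hg

end Groth.Agent.H64.PTh
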