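import Groth.Agent.H64.Psh.PTools

set_option autoImplicit false
open CategoryTheory CategoryTheory.Limits Opposite AlgebraicGeometry
universe v₂ u₂ u

/-! Key lemma: a property of a morphism representable by algebraic spaces, tested on schemes, holds
after base change to every algebraic space. -/

namespace Groth.Agent.H64.PTh

open Groth.Agent.H32 Groth.Agent.H64.Recog Groth.Agent.H64.FpRep AlgSt

variable {S : Scheme.{u}} {P : MorphismProperty (AlgSp.Sp S)}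

/-- an etale atlas is an fppf covering -/
theorem isFppfCover_atlas {Z : AlgSp.Sp S} {U : Over S} (p : (AlgSp.yon S).obj U ⟶ Z)
    (hpE : AlgSp.RepWith @Etale p) (hpS : AlgSp.RepWith @Surjective p) :
    AlgSp.IsFppfCover (fun _ : PUnit.{u+1} => (AlgSp.yon S).obj U) (fun _ => p) :=
  ⟨fun _ => ⟨Groth.Agent.H50.goodClass_flat.locP_of_repWith_etale p hpE,
    Groth.Agent.H50.goodClass_lfp.locP_of_repWith_etale p hpE⟩,
   fun x => ⟨PUnit.unit, Groth.Agent.H49.points_surjective_of_repWith_surjective p hpS x⟩⟩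

theorem RepByAlgSpWith.repByAlgSp1 {𝒳 : BasedCategory.{v₂, u₂} (Over S)}
    {𝒴 : BasedCategory.{v₂, u₂} (Over S)} {f : 𝒳 ⥤ᵇ 𝒴} (hf : RepByAlgSpWith P f) :
    RepByAlgSp1 f := fun U y => by
  obtain ⟨F, e, he, -⟩ := hf U y
  exact ⟨F, e, he⟩

theorem hasP_of_repByAlgSpWith {𝒳 𝒴 : AlgSt.Cat S} (h𝒳 : FibCat.IsFibGrpd 𝒳.p)
    (h𝒴 : FibCat.IsFibGrpd 𝒴.p) (hPb : StableBC P)
    (hP : AlgSp.IsLocalOnBase AlgSp.IsFppfCover P)
    (f : 𝒳 ⥤ᵇ 𝒴) (hf : RepByAlgSpWith P f) (Z : AlgSp.Space S) (z : ofSp Z.obj ⥤ᵇ 𝒴) :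
    ∃ (V : AlgSp.Space S) (a : V ⟶ Z) (e : ofSp V.obj ⥤ᵇ FibCat.fp z f),
      FibCat.IsEquivOver e ∧
        Nonempty (BasedFunctor.comp e (FibCat.fpFst z f) ≅ ofSpMap a.hom) ∧ P a.hom := by
  have hf1 : RepByAlgSp1 f := RepByAlgSpWith.repByAlgSp1 hf
  obtain ⟨V, e, he⟩ := FpRep.main h𝒳 h𝒴 f z hf1 ⟨Z, BasedFunctor.id _, isEquivOver_id _⟩
  let Pr : ofSp V.obj ⥤ᵇ ofSp Z.obj := BasedFunctor.comp e (FibCat.fpFst z f)
  let a₀ : V.obj.obj ⟶ Z.obj.obj := pshMapOf Pr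
  obtain ⟨β⟩ := nonempty_iso_ofPshMap Pr
  let a' : V.obj ⟶ Z.obj := ObjectProperty.homMk a₀
  let a : V ⟶ Z := ObjectProperty.homMk a'
  refine ⟨V, a, e, he, ⟨β.symm⟩, ?_⟩
  show P a'
  obtain ⟨U, p, hpE, hpS⟩ := Z.property.atlas
  have sq := IsPullback.of_hasPullback a' p
  have hV' : AlgSp.IsAlgSpace (pullback a' p) :=
    Groth.Agent.H49.isAlgSpace_of_isPullback sq Z.property.diag V.property
      (AlgSp.IsAlgSpace.yon_obj U)
  have key := hP (fun _ : PUnit.{u+1} => (AlgSp.yon S).obj U) (fun _ => p) Z.property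
    (fun _ => AlgSp.IsAlgSpace.yon_obj U) (isFppfCover_atlas p hpE hpS) a' V.property
    (fun _ => pullback a' p) (fun _ => pullback.snd a' p) (fun _ => pullback.fst a' p)
    (fun _ => hV') (fun _ => sq)
  rw [key]
  intro _
  -- the base change to the atlas
  let x : Z.obj.obj.obj (op U) := uliftYonedaEquiv.{u+1} p.hom
  let s : FibCat.overCat U ⥤ᵇ ofSp Z.obj := ofSection x
  have hs : elOf s = uliftYonedaEquiv.{u+1} p.hom := elOf_ofSection x
  obtain ⟨F₁, e₁, he₁, hP₁⟩ := hf U (BasedFunctor.comp s z)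
  have sq' : IsPullback (pullback.fst a' p).hom (pullback.snd a' p).hom a₀ p.hom :=
    sq.map (sheafToPresheaf _ _)
  let L : Stk.ofPsh (pullback a' p).obj ⥤ᵇ FibCat.fp s (Stk.ofPshMap a₀) := pbLiftSq s sq' hs
  have hL : FibCat.IsEquivOver L := isEquivOver_pbLiftSq s sq' hs
  obtain ⟨Ψ, hΨ, hΨ1⟩ := exists_equiv_fp_of_square (FibCat.fpFst z f) (Stk.ofPshMap a₀) e
    (BasedFunctor.id _) he (isEquivOver_id _) β s
  let M : ofSp (pullback a' p) ⥤ᵇ FibCat.fp s (FibCat.fpFst z f) := BasedFunctor.comp L Ψ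
  have hM : FibCat.IsEquivOver M := isEquivOver_comp hL hΨ
  let N : ofSp F₁.obj ⥤ᵇ FibCat.fp s (FibCat.fpFst z f) := BasedFunctor.comp e₁ (fpPaste f z s)
  have hN : FibCat.IsEquivOver N := isEquivOver_comp he₁ (isEquivOver_fpPaste f z s)
  have hMΦ : BasedFunctor.comp M (FibCat.fpFst s (FibCat.fpFst z f)) =
      BasedFunctor.comp (Stk.ofPshMap (pullback.snd a' p).hom) (toOv.{u+1} U) := by
    have hΨ1' : BasedFunctor.comp Ψ (FibCat.fpFst s (FibCat.fpFst z f)) =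
        FibCat.fpFst s (Stk.ofPshMap a₀) := hΨ1
    show BasedFunctor.comp L (BasedFunctor.comp Ψ (FibCat.fpFst s (FibCat.fpFst z f))) = _
    rw [hΨ1']
    rfl
  obtain ⟨ψ, hψ, hψ2⟩ := spMapOfOver_eq_of_equiv (FibCat.fpFst s (FibCat.fpFst z f)) N M hM
    (pullback.snd a' p).hom (eqToHom hMΦ)
  have := hψ hN
  have hP₂ : P (ψ ≫ pullback.snd a' p) := by
    have h3 : spMapOfOver (BasedFunctor.comp e₁ (FibCat.fpFst (BasedFunctor.comp s z) f)) =
        ψ ≫ pullback.snd a' p := hψ2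
    rw [← h3]
    exact hP₁
  exact hPb.of_iso_comp hV' F₁.property (AlgSp.IsAlgSpace.yon_obj U) ψ _ hP₂

end Groth.Agent.H64.PTh

namespace Groth.Agent.H64.PTh

open Groth.Agent.H32 Groth.Agent.H64.Recog Groth.Agent.H64.FpRep AlgSt

variable {S : Scheme.{u}} {P : MorphismProperty (AlgSp.Sp S)}

/-- conversely, the property for base changes to schemes viewed as algebraic spaces gives
`RepByAlgSpWith` -/
theorem repByAlgSpWith_of_hasP {𝒳 𝒴 : AlgSt.Cat S} (f : 𝒳 ⥤ᵇ 𝒴)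
    (h : ∀ (U : Over S) (z : ofSp (yonSpace U).obj ⥤ᵇ 𝒴),
      ∃ (V : AlgSp.Space S) (a : V ⟶ yonSpace U) (e : ofSp V.obj ⥤ᵇ FibCat.fp z f),
        FibCat.IsEquivOver e ∧
          Nonempty (BasedFunctor.comp e (FibCat.fpFst z f) ≅ ofSpMap a.hom) ∧ P a.hom) :
    RepByAlgSpWith P f := by
  intro U y
  obtain ⟨V, a, e, he, ⟨α⟩, hPa⟩ := h U (BasedFunctor.comp (toOverCat U) y)
  obtain ⟨Ψ, hΨ, hΨ1⟩ := isEquivOver_fpMap_left f y (toOverCat U) (isEquivOver_toOverCat U)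
  refine ⟨V, BasedFunctor.comp e Ψ, isEquivOver_comp he hΨ, ?_⟩
  have h1 : BasedFunctor.comp (BasedFunctor.comp e Ψ) (FibCat.fpFst y f) =
      BasedFunctor.comp (BasedFunctor.comp e
        (FibCat.fpFst (BasedFunctor.comp (toOverCat U) y) f)) (toOverCat U) :=
    congrArg (BasedFunctor.comp e) hΨ1
  have h2 : spMapOfOver (F := V.obj) (U := U) (BasedFunctor.comp (BasedFunctor.comp e
        (FibCat.fpFst (BasedFunctor.comp (toOverCat U) y) f)) (toOverCat U)) =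
      spMapOfOver (F := V.obj) (U := U)
        (BasedFunctor.comp (Stk.ofPshMap a.hom.hom) (toOv.{u+1} U)) :=
    spMapOfOver_eq_of_hom (BasedCategory.whiskerRight α.hom (toOverCat U))
  have h3 : spMapOfOver (F := V.obj) (U := U)
        (BasedFunctor.comp (Stk.ofPshMap a.hom.hom) (toOv.{u+1} U)) = a.hom :=
    spMapOfOver_comp_toOv (F := V.obj) a.hom.hom
  have h4 : spMapOfOver (F := V.obj) (U := U)
      (BasedFunctor.comp (BasedFunctor.comp e Ψ) (FibCat.fpFst y f)) = a.hom :=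
    (congrArg (spMapOfOver (F := V.obj) (U := U)) h1).trans (h2.trans h3)
  rw [h4]
  exact hPa

end Groth.Agent.H64.PTh
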