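import Groth.Agent.H64.Psh.RepDictWith
import Groth.Agent.H64.Psh.FpRep
import Groth.Agent.H64.Psh.OverCatRep
import Groth.Agent.H50.LocPClass
import Groth.Agent.H49.AlgSpPoints
import Groth.Prelude.Def_AlgSpCov

set_option autoImplicit false
open CategoryTheory CategoryTheory.Limits Opposite AlgebraicGeometry
universe v₂ u₂ u

/-! Tools for properties of morphisms representable by algebraic spaces. -/

namespace Groth.Agent.H64.PTh

open Groth.Agent.H32 Groth.Agent.H64.Recog Groth.Agent.H64.FpRep AlgSt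

variable {S : Scheme.{u}} (P : MorphismProperty (AlgSp.Sp S))

/-- stability under base change for squares of algebraic spaces -/
def StableBC : Prop :=
  ∀ ⦃X₁ Y₁ X₂ Y₂ : AlgSp.Sp S⦄, AlgSp.IsAlgSpace X₁ → AlgSp.IsAlgSpace Y₁ → AlgSp.IsAlgSpace X₂ →
    AlgSp.IsAlgSpace Y₂ → ∀ (a : X₁ ⟶ Y₁) (b : Y₂ ⟶ Y₁) (a' : X₂ ⟶ Y₂) (b' : X₂ ⟶ X₁),
    IsPullback b' a' a b → P a → P a'

variable {P}

/-- a property stable under base change is invariant under isomorphisms of the source -/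
theorem StableBC.iso_comp (hPb : StableBC P) {X X' Y : AlgSp.Sp S} (hX : AlgSp.IsAlgSpace X)
    (hX' : AlgSp.IsAlgSpace X') (hY : AlgSp.IsAlgSpace Y) (i : X' ⟶ X) [IsIso i] (a : X ⟶ Y)
    (h : P a) : P (i ≫ a) := by
  have sq : IsPullback i (i ≫ a) a (𝟙 Y) := IsPullback.of_horiz_isIso ⟨by simp⟩
  exact hPb hX hY hX' hY a (𝟙 Y) (i ≫ a) i sq h

theorem StableBC.of_iso_comp (hPb : StableBC P) {X X' Y : AlgSp.Sp S} (hX : AlgSp.IsAlgSpace X)
    (hX' : AlgSp.IsAlgSpace X') (hY : AlgSp.IsAlgSpace Y) (i : X' ⟶ X) [IsIso i] (a : X ⟶ Y)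
    (h : P (i ≫ a)) : P a := by
  have := hPb.iso_comp hX' hX hY (inv i) (i ≫ a) h
  simpa using this

/-- the section map of a functor to a slice, computed through an equivalence with the category of
a sheaf -/
theorem spMapOfOver_eq_of_equiv {F₀ F' : AlgSp.Sp S} {U : Over S}
    {𝒲 : BasedCategory.{v₂, u₂} (Over S)} (Φ : 𝒲 ⥤ᵇ FibCat.overCat U)
    (e₀ : ofSp F₀ ⥤ᵇ 𝒲) (L : ofSp F' ⥤ᵇ 𝒲) (hL : FibCat.IsEquivOver L)
    (snd : F'.obj ⟶ (AlgSp.pyon S).obj U)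
    (γ : BasedFunctor.comp L Φ ⟶ BasedFunctor.comp (Stk.ofPshMap snd) (toOv.{u+1} U)) :
    ∃ ψ : F₀ ⟶ F', (FibCat.IsEquivOver e₀ → IsIso ψ) ∧
      spMapOfOver (BasedFunctor.comp e₀ Φ) =
        ψ ≫ (ObjectProperty.homMk snd : F' ⟶ (AlgSp.yon S).obj U) := by
  obtain ⟨d⟩ := IsEquivOver.nonempty_data hL
  let Ψ : Stk.ofPsh F₀.obj ⥤ᵇ Stk.ofPsh F'.obj := BasedFunctor.comp e₀ d.inv
  let ψ₀ : F₀.obj ⟶ F'.obj := pshMapOf Ψ
  let ψ : F₀ ⟶ F' := ObjectProperty.homMk ψ₀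
  refine ⟨ψ, ?_, ?_⟩
  · intro he₀
    have hΨ : FibCat.IsEquivOver Ψ := isEquivOver_comp he₀ (isEquivOver_inv d)
    have hiso := isIso_pshMapOf hΨ
    have : IsIso ((ObjectProperty.ι _).map ψ) := hiso
    exact isIso_of_reflects_iso ψ (ObjectProperty.ι _)
  · let α : e₀ ⟶ BasedFunctor.comp Ψ L := BasedCategory.whiskerLeft e₀ d.counit.inv
    have h1 : spMapOfOver (F := F₀) (U := U) (BasedFunctor.comp e₀ Φ) =
        spMapOfOver (F := F₀) (U := U) (BasedFunctor.comp Ψ (BasedFunctor.comp L Φ)) :=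
      spMapOfOver_eq_of_hom (BasedCategory.whiskerRight α Φ)
    have h1' : spMapOfOver (F := F₀) (U := U) (BasedFunctor.comp Ψ (BasedFunctor.comp L Φ)) =
        spMapOfOver (F := F₀) (U := U)
          (BasedFunctor.comp Ψ (BasedFunctor.comp (Stk.ofPshMap snd) (toOv.{u+1} U))) :=
      spMapOfOver_eq_of_hom (BasedCategory.whiskerLeft Ψ γ)
    obtain ⟨β⟩ := nonempty_iso_ofPshMap Ψ
    have h2 : spMapOfOver (F := F₀) (U := U)
          (BasedFunctor.comp Ψ (BasedFunctor.comp (Stk.ofPshMap snd) (toOv.{u+1} U))) =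
        spMapOfOver (F := F₀) (U := U)
          (BasedFunctor.comp (Stk.ofPshMap (ψ₀ ≫ snd)) (toOv.{u+1} U)) :=
      spMapOfOver_eq_of_hom (BasedCategory.whiskerRight β.inv
        (BasedFunctor.comp (Stk.ofPshMap snd) (toOv.{u+1} U)))
    have h3 : spMapOfOver (F := F₀) (U := U)
          (BasedFunctor.comp (Stk.ofPshMap (ψ₀ ≫ snd)) (toOv.{u+1} U)) =
        ψ ≫ (ObjectProperty.homMk snd : F' ⟶ (AlgSp.yon S).obj U) :=
      spMapOfOver_comp_toOv (F := F₀) (ψ₀ ≫ snd)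
    rw [h1, h1', h2, h3]

end Groth.Agent.H64.PTh
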