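import Groth.Agent.H64.Psh.PbRecog
import Mathlib.CategoryTheory.Limits.Types.Pullbacks
import Mathlib.CategoryTheory.Limits.FunctorCategory.Basic

set_option autoImplicit false
open CategoryTheory CategoryTheory.Limits Opposite
universe w v₃ u₃ v₂ u₂ v u

/-! A pullback square of presheaves `P = h_U ×_G F` gives an equivalence of `ofPsh P` with the
2-fibre product `(C/U) ×_{ofPsh G} ofPsh F`. -/

namespace Groth.Agent.H64.Recog

open Groth.Agent.H32

variable {C : Type u} [Category.{v} C] {U : C} {P F G : Cᵒᵖ ⥤ Type (max w v)}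
  {a : F ⟶ G} {fst : P ⟶ F} {snd : P ⟶ uliftYoneda.{w}.obj U} {ξ : uliftYoneda.{w}.obj U ⟶ G}

theorem yonedaMap_app (ξ : uliftYoneda.{w}.obj U ⟶ G) (T : C) (c : (uliftYoneda.{w}.obj U).obj (op T)) :
    ξ.app (op T) c = G.map c.down.op (uliftYonedaEquiv.{w} ξ) := by
  obtain ⟨x, rfl⟩ := uliftYonedaEquiv.{w}.symm.surjective ξ
  simp

theorem isPullback_app (sq : IsPullback fst snd a ξ) (T : C) :
    IsPullback (fst.app (op T)) (snd.app (op T)) (a.app (op T)) (ξ.app (op T)) :=
  sq.map ((evaluation Cᵒᵖ (Type (max w v))).obj (op T))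

variable (y : FibCat.overCat U ⥤ᵇ Stk.ofPsh G)

theorem hw_of_isPullback (sq : IsPullback fst snd a ξ) (hy : elOf y = uliftYonedaEquiv.{w} ξ)
    (T : C) (s : P.obj (op T)) :
    a.app (op T) (fst.app (op T) s) = G.map (snd.app (op T) s).down.op (elOf y) := by
  rw [hy, ← yonedaMap_app]
  have h := ConcreteCategory.congr_hom (isPullback_app sq T).w s
  simpa only [types_comp_apply] using h

theorem hex_of_isPullback (sq : IsPullback fst snd a ξ) (hy : elOf y = uliftYonedaEquiv.{w} ξ)
    (T : C) (f : F.obj (op T)) (c : T ⟶ U) (h : a.app (op T) f = G.map c.op (elOf y)) :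
    ∃ s : P.obj (op T), fst.app (op T) s = f ∧ (snd.app (op T) s).down = c := by
  let c' : (uliftYoneda.{w}.obj U).obj (op T) := ULift.up c
  have h' : a.app (op T) f = ξ.app (op T) c' := by
    rw [yonedaMap_app, ← hy]; exact h
  obtain ⟨s, hs1, hs2⟩ := Types.exists_of_isPullback (isPullback_app sq T) f c' h'
  exact ⟨s, hs1, congrArg ULift.down hs2⟩

theorem hinj_of_isPullback (sq : IsPullback fst snd a ξ)
    (T : C) (s s' : P.obj (op T)) (h1 : fst.app (op T) s = fst.app (op T) s')
    (h2 : (snd.app (op T) s).down = (snd.app (op T) s').down) : s = s' :=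
  Types.ext_of_isPullback (isPullback_app sq T) h1 (ULift.ext _ _ h2)

/-- the comparison functor attached to a pullback square -/
noncomputable def pbLiftSq (sq : IsPullback fst snd a ξ) (hy : elOf y = uliftYonedaEquiv.{w} ξ) :
    Stk.ofPsh P ⥤ᵇ FibCat.fp y (Stk.ofPshMap a) :=
  pbLift a fst snd y (hw_of_isPullback y sq hy)

theorem isEquivOver_pbLiftSq (sq : IsPullback fst snd a ξ) (hy : elOf y = uliftYonedaEquiv.{w} ξ) :
    FibCat.IsEquivOver (pbLiftSq y sq hy) :=
  isEquivOver_pbLift a fst snd y (hw_of_isPullback y sq hy) (hex_of_isPullback y sq hy)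
    (hinj_of_isPullback sq)

theorem pbLiftSq_comp_fpFst (sq : IsPullback fst snd a ξ) (hy : elOf y = uliftYonedaEquiv.{w} ξ) :
    BasedFunctor.comp (pbLiftSq y sq hy) (FibCat.fpFst y (Stk.ofPshMap a)) = leg₁ snd := rfl

end Groth.Agent.H64.Recog
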