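import Groth.Agent.H64.Stk.PshStack
import Groth.Agent.H64.Stk.LocEss
import Groth.Agent.H64.Stk.EquivTools
import Groth.Agent.H32.FibSet

set_option autoImplicit false
open CategoryTheory CategoryTheory.Limits Opposite
universe w w' v₃ u₃ v₂ u₂ v u

/-! Recognition of equivalences out of the category of a presheaf. -/

namespace Groth.Agent.H64.Recog

variable {C : Type u} [Category.{v} C] {P : Cᵒᵖ ⥤ Type w}

section

variable {𝒲 : BasedCategory.{v₂, u₂} C} (Φ : Stk.ofPsh P ⥤ᵇ 𝒲)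

/-- every functor over `C` out of the category of a presheaf is faithful -/
theorem faithful_of_ofPsh : Φ.toFunctor.Faithful := by
  refine ⟨fun {x y} m n h => ?_⟩
  apply Stk.EltObj.hom_ext
  have h1 : 𝒲.p.map (Φ.map m) = 𝒲.p.map (Φ.map n) := congrArg (fun k => 𝒲.p.map k) h
  have e1 := IsHomLift.fac' 𝒲.p ((Stk.ofPsh P).p.map m) (Φ.map m)
  have e2 := IsHomLift.fac' 𝒲.p ((Stk.ofPsh P).p.map n) (Φ.map n)
  have e3 : eqToHom (Φ.w_obj x) ≫ (Stk.ofPsh P).p.map m ≫ eqToHom (Φ.w_obj y).symm =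
      eqToHom (Φ.w_obj x) ≫ (Stk.ofPsh P).p.map n ≫ eqToHom (Φ.w_obj y).symm :=
    e1.symm.trans (h1.trans e2)
  have e4 := (cancel_epi _).mp e3
  exact (cancel_mono (eqToHom (Φ.w_obj y).symm)).mp e4

omit Φ in
/-- in a category fibred in setoids, parallel morphisms over the same base morphism are equal -/
theorem hom_ext_of_isFibSetoid (h𝒲 : FibCat.IsFibSetoid 𝒲.p) {R S : C} {f : R ⟶ S} {a b : 𝒲.obj}
    {φ ψ : a ⟶ b} (hφ : 𝒲.p.IsHomLift f φ) (hψ : 𝒲.p.IsHomLift f ψ) : φ = ψ := by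
  obtain ⟨hg, ht⟩ := h𝒲
  obtain ⟨χ, hχ, hχ'⟩ := cart_lift_id 𝒲.p (cart_of_fibGrpd 𝒲.p hg hψ) φ hφ
  have hχid : χ = 𝟙 _ :=
    Groth.Agent.H32.hom_ext_of_thin_fiber ht χ (𝟙 _) hχ
      (lift_id_of_obj 𝒲.p (lift_domain_eq 𝒲.p hφ))
  rw [← hχ', hχid, Category.id_comp]

/-- recognition principle: a functor over `C` from the category of a presheaf to a category
fibred in setoids which is injective and surjective on isomorphism classes of the fibres is an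
equivalence over `C`. -/
theorem isEquivOver_of_ofPsh (h𝒲 : FibCat.IsFibSetoid 𝒲.p)
    (hinj : ∀ (T : C) (s s' : P.obj (op T)) (m : Φ.obj ⟨T, s⟩ ⟶ Φ.obj ⟨T, s'⟩),
      𝒲.p.IsHomLift (𝟙 T) m → s = s')
    (hsurj : ∀ w : 𝒲.obj, ∃ (s : P.obj (op (𝒲.p.obj w))) (m : Φ.obj ⟨𝒲.p.obj w, s⟩ ⟶ w),
      𝒲.p.IsHomLift (𝟙 (𝒲.p.obj w)) m) : FibCat.IsEquivOver Φ := by
  have hg := h𝒲.1
  have hfaith := faithful_of_ofPsh Φ
  have hfull : Φ.toFunctor.Full := by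
    refine ⟨fun {x x'} m => ?_⟩
    obtain ⟨T, s⟩ := x
    obtain ⟨T', s'⟩ := x'
    let m' : Φ.obj ⟨T, s⟩ ⟶ Φ.obj ⟨T', s'⟩ := m
    let g : T ⟶ T' := eqToHom (Φ.w_obj ⟨T, s⟩).symm ≫ 𝒲.p.map m' ≫ eqToHom (Φ.w_obj ⟨T', s'⟩)
    have hm : 𝒲.p.IsHomLift g m' :=
      IsHomLift.of_fac 𝒲.p g m' (Φ.w_obj ⟨T, s⟩) (Φ.w_obj ⟨T', s'⟩) rfl
    let c : (⟨T, P.map g.op s'⟩ : Stk.EltObj P) ⟶ ⟨T', s'⟩ := ⟨g, rfl⟩
    have hc0 : (Stk.ofPsh P).p.IsHomLift g c := IsHomLift.map (Stk.EltObj.forget P) c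
    have hc : 𝒲.p.IsHomLift g (Φ.map c) := BasedFunctor.preserves_isHomLift Φ g c
    obtain ⟨χ, hχ, -⟩ := cart_lift_id 𝒲.p (cart_of_fibGrpd 𝒲.p hg hc) m' hm
    have hs : s = P.map g.op s' := hinj T s (P.map g.op s') χ hχ
    let c' : (⟨T, s⟩ : Stk.EltObj P) ⟶ ⟨T', s'⟩ := ⟨g, hs.symm⟩
    have hc0' : (Stk.ofPsh P).p.IsHomLift g c' := IsHomLift.map (Stk.EltObj.forget P) c'
    have hc' : 𝒲.p.IsHomLift g (Φ.map c') := BasedFunctor.preserves_isHomLift Φ g c'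
    exact ⟨c', hom_ext_of_isFibSetoid h𝒲 hc' hm⟩
  refine isEquivOver_of_fullyFaithful_of_fiberwise_essSurj Φ ?_
  intro w
  obtain ⟨s, m, hm⟩ := hsurj w
  have : IsIso m := isIso_of_lift_id 𝒲.p hg hm
  exact ⟨⟨𝒲.p.obj w, s⟩, asIso m, hm⟩

end

end Groth.Agent.H64.Recog
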