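import Groth.Agent.H64.Psh.PbRecog2
import Groth.Agent.H64.Stk.EquivTools
import Groth.Prelude.Def_AlgSt2
import Groth.Prelude.Def_AlgSpRep

set_option autoImplicit false
open CategoryTheory CategoryTheory.Limits Opposite AlgebraicGeometry
universe u

/-! Representability by algebraic spaces: maps of presheaves versus functors over `(Sch/S)`. -/

namespace Groth.Agent.H64.Recog

open Groth.Agent.H32 AlgSt

variable {S : Scheme.{u}} {F G : AlgSp.PSp S} (a : F ⟶ G)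

theorem repByAlgSp1_of_repBySp (ha : AlgSp.RepBySp a) : AlgSt.RepByAlgSp1 (Stk.ofPshMap a) := by
  intro U y
  let ξ : (AlgSp.pyon S).obj U ⟶ G := uliftYonedaEquiv.{u+1}.symm (elOf y)
  have sq := IsPullback.of_hasPullback a ξ
  obtain ⟨h, hF⟩ := ha ξ (pullback.fst a ξ) (pullback.snd a ξ) sq
  have hy : elOf y = uliftYonedaEquiv.{u+1} ξ := (Equiv.apply_symm_apply _ _).symm
  exact ⟨⟨⟨pullback a ξ, h⟩, hF⟩, pbLiftSq y sq hy, isEquivOver_pbLiftSq y sq hy⟩

theorem repBySp_of_repByAlgSp1 (h : AlgSt.RepByAlgSp1 (Stk.ofPshMap a)) : AlgSp.RepBySp a := by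
  intro U ξ F' fst snd sq
  let x : G.obj (op U) := uliftYonedaEquiv.{u+1} ξ
  let y : FibCat.overCat U ⥤ᵇ Stk.ofPsh G := ofSection x
  have hy : elOf y = uliftYonedaEquiv.{u+1} ξ := elOf_ofSection x
  obtain ⟨F₀, e, he⟩ := h U y
  have hL := isEquivOver_pbLiftSq y sq hy
  obtain ⟨d⟩ := IsEquivOver.nonempty_data hL
  have hΨ : FibCat.IsEquivOver (BasedFunctor.comp e d.inv) := isEquivOver_comp he (isEquivOver_inv d)
  have := isIso_pshMapOf hΨ
  exact ((AlgSp.isAlgSpaceP_obj_iff F₀.obj).2 F₀.property).of_iso (asIso (pshMapOf (BasedFunctor.comp e d.inv)))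

theorem repBySp_iff : AlgSp.RepBySp a ↔ AlgSt.RepByAlgSp1 (Stk.ofPshMap a) :=
  ⟨repByAlgSp1_of_repBySp a, repBySp_of_repByAlgSp1 a⟩

end Groth.Agent.H64.Recog
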