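import Groth.Agent.H64.Psh.FpRep
import Groth.Agent.H64.Psh.OverCatRep
import Groth.Agent.H64.Stk.FpSwap

set_option autoImplicit false
open CategoryTheory CategoryTheory.Limits Opposite AlgebraicGeometry
universe u

/-! Morphisms from algebraic spaces are representable as soon as morphisms from schemes are. -/

namespace Groth.Agent.H64.FpRep

open Groth.Agent.H32 Groth.Agent.H64.Recog AlgSt

variable {S : Scheme.{u}}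

/-- if `y : 𝒴' ⟶ 𝒳` is representable by algebraic spaces and `𝒰` is an algebraic space then
`𝒴' ×_𝒳 𝒰` is an algebraic space -/
theorem repByAlgSp_fp_swap {𝒳 𝒴 𝒵 : AlgSt.Cat S}
    (h𝒳 : FibCat.IsFibGrpd 𝒳.p) (h𝒴 : FibCat.IsFibGrpd 𝒴.p)
    (f : 𝒳 ⥤ᵇ 𝒴) (g : 𝒵 ⥤ᵇ 𝒴) (hf : AlgSt.RepByAlgSp1 f) (hZ : AlgSt.RepByAlgSp 𝒵) :
    AlgSt.RepByAlgSp (FibCat.fp f g) :=
  repByAlgSp_of_isEquivOver (isEquivOver_fpSwap g f) (main h𝒳 h𝒴 f g hf hZ)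

theorem repByAlgSp1_from_space {𝒳 : AlgSt.Cat S} (h𝒳 : FibCat.IsFibGrpd 𝒳.p)
    (h : ∀ (U : Over S) (x : FibCat.overCat U ⥤ᵇ 𝒳), AlgSt.RepByAlgSp1 x)
    (𝒰 : AlgSt.Cat S) (hr : AlgSt.RepByAlgSp 𝒰) (x : 𝒰 ⥤ᵇ 𝒳) : AlgSt.RepByAlgSp1 x := by
  intro V y
  exact repByAlgSp_fp_swap (isFibSetoid_overCat V).1 h𝒳 y x (h V y) hr

theorem from_schemes_iff_from_spaces {𝒳 : AlgSt.Cat S} (h𝒳 : FibCat.IsFibGrpd 𝒳.p) :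
    (∀ (U : Over S) (x : FibCat.overCat U ⥤ᵇ 𝒳), AlgSt.RepByAlgSp1 x) ↔
      ∀ (𝒰 : AlgSt.Cat S), FibCat.IsFibGrpd 𝒰.p → AlgSt.RepByAlgSp 𝒰 → ∀ (x : 𝒰 ⥤ᵇ 𝒳),
        AlgSt.RepByAlgSp1 x :=
  ⟨fun h 𝒰 _ hr x => repByAlgSp1_from_space h𝒳 h 𝒰 hr x,
    fun h U x => h (FibCat.overCat U) (isFibSetoid_overCat U).1 (repByAlgSp_overCat U) x⟩

end Groth.Agent.H64.FpRep
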