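import Groth.Agent.H64.Psh.DiagRepMor2
import Groth.Agent.H53.LocalBase

set_option autoImplicit false
set_option backward.isDefEq.respectTransparency false
open CategoryTheory CategoryTheory.Limits Opposite AlgebraicGeometry
universe u

/-! Morphisms representable by algebraic spaces whose base changes to schemes are representable
morphisms of sheaves are representable by schemes. -/

namespace Groth.Agent.H64.PTh

open Groth.Agent.H32 Groth.Agent.H64.Recog Groth.Agent.H64.FpRep AlgSt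

variable {S : Scheme.{u}}

theorem isEquivOver_ofSpMap_of_isIso {F G : AlgSp.Sp S} (i : F ⟶ G) [IsIso i] :
    FibCat.IsEquivOver (ofSpMap i) := by
  refine ⟨ofSpMap (inv i), nonempty_biso_of_bsec_eq (fun a => ?_),
    nonempty_biso_of_bsec_eq (fun a => ?_)⟩
  · have e1 : bsec (BasedFunctor.comp (ofSpMap i) (ofSpMap (inv i))) a =
        (inv i).hom.app (op a.base) (i.hom.app (op a.base) a.sec) := secAt_rfl F.obj _
    have e2 : bsec (BasedFunctor.id (ofSp F)) a = a.sec := secAt_rfl F.obj _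
    rw [e1, e2, sp_comp_app, IsIso.hom_inv_id]
    rfl
  · have e1 : bsec (BasedFunctor.comp (ofSpMap (inv i)) (ofSpMap i)) a =
        i.hom.app (op a.base) ((inv i).hom.app (op a.base) a.sec) := secAt_rfl G.obj _
    have e2 : bsec (BasedFunctor.id (ofSp G)) a = a.sec := secAt_rfl G.obj _
    rw [e1, e2, sp_comp_app, IsIso.inv_hom_id]
    rfl

theorem isRepresentable_of_representable {𝒬 : AlgSt.Cat S} {U : Over S}
    (π : 𝒬 ⥤ᵇ FibCat.overCat U) (F : AlgSp.Sp S) (e : ofSp F ⥤ᵇ 𝒬) (he : FibCat.IsEquivOver e)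
    (h : AlgSp.Representable (spMapOfOver (BasedFunctor.comp e π))) : FibCat.IsRepresentable 𝒬 := by
  obtain ⟨V, snd, fst, sq⟩ := h (𝟙 ((AlgSp.yon S).obj U))
  have : IsIso fst := sq.isIso_fst_of_isIso
  have h1 : FibCat.IsEquivOver (ofSpMap fst) := isEquivOver_ofSpMap_of_isIso fst
  have h2 : FibCat.IsEquivOver
      (BasedFunctor.comp (ofOverCat V) (BasedFunctor.comp (ofSpMap fst) e)) :=
    isEquivOver_comp (isEquivOver_ofOverCat V) (isEquivOver_comp h1 he)
  obtain ⟨d⟩ := IsEquivOver.nonempty_data h2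
  exact ⟨V, d.inv, isEquivOver_inv d⟩

theorem isRepresentable1_of_repByAlgSpWith_representable {𝒳 𝒴 : AlgSt.Cat S} (g : 𝒳 ⥤ᵇ 𝒴)
    (h : RepByAlgSpWith (AlgSp.Representable (S := S)) g) : FibCat.IsRepresentable1 g := by
  intro U y
  obtain ⟨F, e, he, hP⟩ := h U y
  exact isRepresentable_of_representable (FibCat.fpFst y g) F.obj e he hP

theorem isRepresentable1_diag_of_repByAlgSp1 {𝒳 𝒴 : AlgSt.Cat S} (h𝒳 : FibCat.IsFibGrpd 𝒳.p)
    (h𝒴 : FibCat.IsFibGrpd 𝒴.p) (f : 𝒳 ⥤ᵇ 𝒴) (hf : RepByAlgSp1 f) :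
    FibCat.IsRepresentable1 (FibCat.diag f) := by
  apply isRepresentable1_of_repByAlgSpWith_representable
  exact repByAlgSpWith_diag_of_repByAlgSp1 (AlgSp.Representable (S := S)) (stableBC_of_inst _)
    (fun (V : AlgSp.Space S) (T : Over S) (b : V.obj ⟶ (AlgSp.yon S).obj T) =>
      Groth.Agent.H53.representable_diagonal V.property.diag b) h𝒳 h𝒴 f hf

end Groth.Agent.H64.PTh
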