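import Groth.Agent.H64.Psh.DiagOfComp
import Groth.Agent.H64.Psh.QSepTFAE
import Groth.Agent.H51.SpProper
import Groth.Agent.S10536
import Groth.Agent.S10520

set_option autoImplicit false
set_option backward.isDefEq.respectTransparency false
open CategoryTheory CategoryTheory.Limits Opposite AlgebraicGeometry
universe u

/-! If `f ≫ g` is separated (quasi-separated) and the diagonal of `g` is separated
(quasi-separated), then `f` is separated (quasi-separated). -/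

namespace Groth.Agent.H64.PTh

open Groth.Agent.H32 Groth.Agent.H64.Recog Groth.Agent.H64.FpRep AlgSt Groth.Agent.H65.AlgStCmp

variable {S : Scheme.{u}}

theorem stableBC_isProperMor : StableBC (AlgSp.IsProperMor (S := S)) :=
  fun X₁ Y₁ X₂ Y₂ h1 h2 h3 h4 a b a' b' sq ha =>
    Groth.Agent.H51.s10275 (X := ⟨X₁, h1⟩) (Y := ⟨Y₁, h2⟩) (Y' := ⟨Y₂, h4⟩) (X' := ⟨X₂, h3⟩)
      (ObjectProperty.homMk a) (ObjectProperty.homMk b) (ObjectProperty.homMk b')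
      (ObjectProperty.homMk a') sq ha

theorem isProperMor_comp ⦃X Y Z : AlgSp.Sp S⦄ (hX : AlgSp.IsAlgSpace X) (hY : AlgSp.IsAlgSpace Y)
    (hZ : AlgSp.IsAlgSpace Z) (a : X ⟶ Y) (b : Y ⟶ Z) (ha : AlgSp.IsProperMor a)
    (hb : AlgSp.IsProperMor b) : AlgSp.IsProperMor (a ≫ b) :=
  Groth.Agent.H51.s10276 (X := ⟨X, hX⟩) (Y := ⟨Y, hY⟩) (Z := ⟨Z, hZ⟩)
    (ObjectProperty.homMk a) (ObjectProperty.homMk b) ha hb

theorem isLocalOnBase_fppf_proper :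
    AlgSp.IsLocalOnBase (AlgSp.IsFppfCover (S := S)) AlgSp.IsProperMor :=
  isLocalOnBase_fppf_of_fpqc (Groth.Agent.S10536.result S)

theorem isSeparatedMor_of_comp {𝒳 𝒴 𝒵 : AlgSt.Cat S} (h𝒳 : FibCat.IsFibGrpd 𝒳.p)
    (h𝒴 : FibCat.IsFibGrpd 𝒴.p) (h𝒵 : FibCat.IsFibGrpd 𝒵.p) (f : 𝒳 ⥤ᵇ 𝒴) (g : 𝒴 ⥤ᵇ 𝒵)
    (h : AlgSt.IsSeparatedMor (BasedFunctor.comp f g))
    (hg : RepByAlgSpWith AlgSp.IsSeparatedMor (FibCat.diag g)) : AlgSt.IsSeparatedMor f := by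
  have hfp1 : FibCat.IsFibGrpd (FibCat.fp f f).p := isFibGrpd_fp _ _ h𝒳 h𝒳 h𝒴
  have hfp2 : FibCat.IsFibGrpd (FibCat.fp (BasedFunctor.comp f g) (BasedFunctor.comp f g)).p :=
    isFibGrpd_fp _ _ h𝒳 h𝒳 h𝒵
  have hc : RepByAlgSpWith AlgSp.IsSeparatedMor (cmp f f g) :=
    repByAlgSpWith_cmp _ h𝒳 h𝒳 h𝒴 h𝒵 f f g hg
  have hd : RepByAlgSpWith AlgSp.IsProperMor (FibCat.diag (cmp f f g)) :=
    ((separated_tfae hfp1 hfp2 (cmp f f g) (RepByAlgSpWith.repByAlgSp1 hc)).out 0 2).1 hc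
  have h' : RepByAlgSpWith AlgSp.IsProperMor (BasedFunctor.comp (FibCat.diag f) (cmp f f g)) :=
    repByAlgSpWith_of_iso (diagCompIso f g) h
  exact repByAlgSpWith_cancel h𝒳 hfp1 hfp2 stableBC_isProperMor isProperMor_comp
    isLocalOnBase_fppf_proper (FibCat.diag f) (cmp f f g) h' hd

theorem isLocalOnBase_inf {τ : AlgSp.CovNotion S} {P Q : MorphismProperty (AlgSp.Sp S)}
    (hP : AlgSp.IsLocalOnBase τ P) (hQ : AlgSp.IsLocalOnBase τ Q) :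
    AlgSp.IsLocalOnBase τ (P ⊓ Q) := by
  intro ι Y Yi g hY hYi hcov X f hX Xi p q hXi sq
  have h1 := hP Yi g hY hYi hcov f hX Xi p q hXi sq
  have h2 := hQ Yi g hY hYi hcov f hX Xi p q hXi sq
  constructor
  · intro h i
    exact ⟨h1.1 h.1 i, h2.1 h.2 i⟩
  · intro h
    exact ⟨h1.2 (fun i => (h i).1), h2.2 (fun i => (h i).2)⟩

theorem isQuasiSeparatedMor_of_comp {𝒳 𝒴 𝒵 : AlgSt.Cat S} (h𝒳 : FibCat.IsFibGrpd 𝒳.p)
    (h𝒴 : FibCat.IsFibGrpd 𝒴.p) (h𝒵 : FibCat.IsFibGrpd 𝒵.p) (f : 𝒳 ⥤ᵇ 𝒴) (g : 𝒴 ⥤ᵇ 𝒵)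
    (h : AlgSt.IsQuasiSeparatedMor (BasedFunctor.comp f g))
    (hg : RepByAlgSpWith AlgSp.IsQuasiSeparatedMor (FibCat.diag g)) :
    AlgSt.IsQuasiSeparatedMor f := by
  have hfp1 : FibCat.IsFibGrpd (FibCat.fp f f).p := isFibGrpd_fp _ _ h𝒳 h𝒳 h𝒴
  have hfp2 : FibCat.IsFibGrpd (FibCat.fp (BasedFunctor.comp f g) (BasedFunctor.comp f g)).p :=
    isFibGrpd_fp _ _ h𝒳 h𝒳 h𝒵
  have hc : RepByAlgSpWith AlgSp.IsQuasiSeparatedMor (cmp f f g) :=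
    repByAlgSpWith_cmp _ h𝒳 h𝒳 h𝒴 h𝒵 f f g hg
  have hd : AlgSt.IsQuasiSeparatedMor (cmp f f g) :=
    (isQuasiSeparatedMor_iff hfp1 hfp2 (cmp f f g) (RepByAlgSpWith.repByAlgSp1 hc)).2 hc
  have h' : RepByAlgSpWith (AlgSp.IsQuasiCompactMor ⊓ AlgSp.IsQuasiSeparatedMor)
      (BasedFunctor.comp (FibCat.diag f) (cmp f f g)) :=
    repByAlgSpWith_of_iso (diagCompIso f g) h
  refine repByAlgSpWith_cancel h𝒳 hfp1 hfp2 stableBC_qc_inf_qsep ?_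
    (isLocalOnBase_inf isLocalOnBase_fppf_quasiCompact
      (isLocalOnBase_fppf_of_fpqc (Groth.Agent.S10520.result S)))
    (FibCat.diag f) (cmp f f g) h' hd
  intro X Y Z hX hY hZ a b ha hb
  exact ⟨Groth.Agent.H49.isQuasiCompactMor_comp hY hZ ha.1 hb.1,
    (AlgSp.RepWith @QuasiCompact).diagonal.comp_mem a b ha.2 hb.2⟩

end Groth.Agent.H64.PTh
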