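import Groth.Agent.H64.Psh.FpRep
import Groth.Agent.H49.AlgSpRep

set_option autoImplicit false
open CategoryTheory CategoryTheory.Limits Opposite AlgebraicGeometry
universe v₄ u₄ v₃ u₃ v₂ u₂ u

/-! Every functor between categories representable by algebraic spaces is representable by
algebraic spaces. -/

namespace Groth.Agent.H64.FpRep

open Groth.Agent.H32 Groth.Agent.H64.Recog AlgSt

variable {S : Scheme.{u}}

/-- a map of algebraic spaces is representable by algebraic spaces -/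
theorem repBySp_of_isAlgSpace {X Y : AlgSp.Sp S} (hX : AlgSp.IsAlgSpace X) (hY : AlgSp.IsAlgSpace Y)
    (a : X ⟶ Y) : AlgSp.RepBySp a.hom := by
  rw [AlgSp.repBySp_hom_iff]
  intro U ξ P fst snd sq
  exact Groth.Agent.H49.isAlgSpace_of_isPullback sq hY.diag hX (AlgSp.IsAlgSpace.yon_obj U)

/-- a functor over `(Sch/S)` between the categories of two algebraic spaces is representable by
algebraic spaces -/
theorem repByAlgSp1_ofSp (X Y : AlgSp.Space S) (Ψ : ofSp X.obj ⥤ᵇ ofSp Y.obj) : RepByAlgSp1 Ψ := by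
  let a : X.obj.obj ⟶ Y.obj.obj := pshMapOf Ψ
  obtain ⟨β⟩ := nonempty_iso_ofPshMap Ψ
  have h1 : AlgSp.RepBySp a :=
    repBySp_of_isAlgSpace X.property Y.property (ObjectProperty.homMk a : X.obj ⟶ Y.obj)
  have h2 : RepByAlgSp1 (Stk.ofPshMap a) := repByAlgSp1_of_repBySp a h1
  exact repByAlgSp1_of_square (Stk.ofPshMap a) Ψ (BasedFunctor.id _) (BasedFunctor.id _)
    (isEquivOver_id _) (isEquivOver_id _) β.symm h2

/-- every functor between categories representable by algebraic spaces is representable by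
algebraic spaces -/
theorem repByAlgSp1_of_repByAlgSp {𝒳 : BasedCategory.{v₂, u₂} (Over S)}
    {𝒴 : BasedCategory.{v₃, u₃} (Over S)}
    (hX : RepByAlgSp 𝒳) (hY : RepByAlgSp 𝒴) (f : 𝒳 ⥤ᵇ 𝒴) : RepByAlgSp1 f := by
  obtain ⟨X, e₁, he₁⟩ := hX
  obtain ⟨Y, e₂, he₂⟩ := hY
  obtain ⟨d₂⟩ := IsEquivOver.nonempty_data he₂
  let Ψ : ofSp X.obj ⥤ᵇ ofSp Y.obj := BasedFunctor.comp (BasedFunctor.comp e₁ f) d₂.inv
  have hΨ : RepByAlgSp1 Ψ := repByAlgSp1_ofSp X Y Ψ
  exact repByAlgSp1_of_square' f Ψ e₁ e₂ he₁ he₂ (compInvIso d₂ (BasedFunctor.comp e₁ f)) hΨ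

end Groth.Agent.H64.FpRep
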